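import Cfsg.Agent.H32.PMin.Main
import Mathlib.GroupTheory.SpecificGroups.Alternating

/-!
The alternating group of degree six at the prime two.
-/

set_option autoImplicit false
set_option maxRecDepth 4000

namespace H32.PMin.Alt6

open Equiv

/-- The alternating group of degree six. -/
abbrev A := ↥(alternatingGroup (Fin 6))

/-- The transposition of the last two points. -/
def tr : Perm (Fin 6) := swap 4 5

/-- The fixed point free involution of the three pairs. -/
def pr : Perm (Fin 6) := swap 0 1 * swap 2 3 * swap 4 5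

/-- The centraliser of an odd involution. -/
def cen (c : Perm (Fin 6)) : Subgroup A where
  carrier := {g | ∀ i, c ((g : Perm (Fin 6)) i) = (g : Perm (Fin 6)) (c i)}
  one_mem' := fun _ => rfl
  mul_mem' {g h} hg hh := fun i => by
    show c ((g : Perm (Fin 6)) ((h : Perm (Fin 6)) i)) = (g : Perm (Fin 6)) ((h : Perm (Fin 6)) (c i))
    rw [hg, hh]
  inv_mem' {g} hg := fun i => by
    show c ((g : Perm (Fin 6))⁻¹ i) = (g : Perm (Fin 6))⁻¹ (c i)
    refine (g : Perm (Fin 6)).injective ?_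
    rw [← hg, Perm.inv_def, Equiv.apply_symm_apply, Equiv.apply_symm_apply]

instance (c : Perm (Fin 6)) : DecidablePred (· ∈ cen c) :=
  fun g => inferInstanceAs (Decidable (∀ i, c ((g : Perm (Fin 6)) i) = (g : Perm (Fin 6)) (c i)))

instance (c d : Perm (Fin 6)) : DecidablePred (· ∈ cen c ⊓ cen d) :=
  fun g => inferInstanceAs (Decidable ((∀ i, c ((g : Perm (Fin 6)) i) = (g : Perm (Fin 6)) (c i)) ∧
    ∀ i, d ((g : Perm (Fin 6)) i) = (g : Perm (Fin 6)) (d i)))

theorem facts :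
    ((Finset.univ : Finset A).filter (· ∈ cen tr ⊓ cen pr)).card = 8 ∧
    ((Finset.univ : Finset A).filter (fun g => g ∈ cen tr ⊓ cen pr ∧ (g : Perm (Fin 6)) 4 = 4)).card = 4 ∧
    (Finset.univ : Finset A).card = 360 ∧
    ((Finset.univ : Finset A).filter (· ∈ cen tr)).card = 24 ∧
    ((Finset.univ : Finset A).filter (· ∈ cen pr)).card = 24 ∧
    (∃ g : A, g ∈ cen pr ∧ g ∉ cen tr) := by
  decide +kernel

theorem fix_facts :
    (∀ i j : Fin 6, i ≠ j → (∀ u : A, u ∈ cen tr ⊓ cen pr → (u : Perm (Fin 6)) i = i →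
      (u : Perm (Fin 6)) j = j) → j = pr i) ∧
    (∀ i : Fin 6, i ≠ 4 → i ≠ 5 → ∃ u : A, u ∈ cen tr ⊓ cen pr ∧ (u : Perm (Fin 6)) 0 = i) ∧
    (∃ u : A, u ∈ cen tr ⊓ cen pr ∧ (u : Perm (Fin 6)) 4 = 5) := by
  decide +kernel

theorem mem_cen_tr {g : A} (h4 : (g : Perm (Fin 6)) 4 = 4 ∨ (g : Perm (Fin 6)) 4 = 5)
    (h5 : (g : Perm (Fin 6)) 5 = 4 ∨ (g : Perm (Fin 6)) 5 = 5) : g ∈ cen tr := by
  intro i
  have hinj := (g : Perm (Fin 6)).injective
  by_cases hi : i = 4 ∨ i = 5
  · rcases hi with rfl | rfl <;> rcases h4 with e4 | e4 <;> rcases h5 with e5 | e5 <;>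
      first
        | exact absurd (hinj (e4.trans e5.symm)) (by decide)
        | simp [tr, Equiv.swap_apply_left, Equiv.swap_apply_right, e4, e5]
  · push Not at hi
    rw [tr, swap_apply_of_ne_of_ne hi.1 hi.2, swap_apply_of_ne_of_ne]
    · intro h
      rcases h4 with e | e
      · exact hi.1 (hinj (h.trans e.symm))
      rcases h5 with e' | e'
      · exact hi.2 (hinj (h.trans e'.symm))
      · exact absurd (hinj (e.trans e'.symm)) (by decide)
    · intro h
      rcases h5 with e | e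
      · rcases h4 with e' | e'
        · exact absurd (hinj (e'.trans e.symm)) (by decide)
        · exact hi.1 (hinj (h.trans e'.symm))
      · exact hi.2 (hinj (h.trans e.symm))

theorem nat_card_sub (H : Subgroup A) [DecidablePred (· ∈ H)] :
    Nat.card H = ((Finset.univ : Finset A).filter (· ∈ H)).card := by
  rw [← Fintype.card_subtype, ← Nat.card_eq_fintype_card]

theorem card_facts :
    Nat.card ↥(cen tr ⊓ cen pr) = 8 ∧ Nat.card A = 360 ∧ Nat.card ↥(cen tr) = 24 ∧ Nat.card ↥(cen pr) = 24 := by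
  refine ⟨by rw [nat_card_sub]; convert facts.1, ?_, by rw [nat_card_sub]; exact facts.2.2.2.1,
    by rw [nat_card_sub]; exact facts.2.2.2.2.1⟩
  rw [Nat.card_eq_fintype_card]; exact facts.2.2.1

theorem ne_top_of_card {H : Subgroup A} (h : Nat.card H < 360) : H ≠ ⊤ := fun e => by
  rw [e, Subgroup.card_top, card_facts.2.1] at h
  omega

theorem card_le_sixty {H : Subgroup A} (hH : H ≠ ⊤) : Nat.card H ≤ 60 := by
  haveI : IsSimpleGroup A := alternatingGroup.isSimpleGroup (by simp)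
  have hidx := Subgroup.card_mul_index H
  rw [card_facts.2.1] at hidx
  by_contra hc
  have hi : H.index ≤ 5 := by nlinarith
  have hdvd : Nat.card A ∣ H.index.factorial := by
    set f := MulAction.toPermHom A (A ⧸ H)
    have hker : f.ker = ⊥ := by
      refine (f.normal_ker.eq_bot_or_eq_top).resolve_right fun e => hH ?_
      rw [eq_top_iff, ← e]
      intro g hg
      rw [← Subgroup.normalCore_eq_ker] at hg
      exact Subgroup.normalCore_le H hg
    have := Subgroup.card_dvd_of_injective f ((MonoidHom.ker_eq_bot_iff f).1 hker)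
    rwa [Nat.card_perm, ← Subgroup.index_eq_card] at this
  rw [card_facts.2.1] at hdvd
  interval_cases H.index <;> simp [Nat.factorial] at hdvd hidx

theorem over_cases (D : Subgroup A) (hUD : cen tr ⊓ cen pr ≤ D) (hD : D ≠ ⊤) :
    D ≤ cen tr ∨ D ≤ cen pr := by
  classical
  by_cases h1 : ∀ d ∈ D, ((d : Perm (Fin 6)) 4 = 4 ∨ (d : Perm (Fin 6)) 4 = 5) ∧
      ((d : Perm (Fin 6)) 5 = 4 ∨ (d : Perm (Fin 6)) 5 = 5)
  · exact Or.inl fun d hd => mem_cen_tr (h1 d hd).1 (h1 d hd).2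
  refine Or.inr ?_
  obtain ⟨u45, hu45, e45⟩ := fix_facts.2.2
  -- the point four moves to zero
  obtain ⟨d, hd, i, hdi, hi4, hi5⟩ : ∃ d ∈ D, ∃ i, (d : Perm (Fin 6)) 4 = i ∧ i ≠ 4 ∧ i ≠ 5 := by
    push Not at h1
    obtain ⟨d, hd, hne⟩ := h1
    by_cases h4 : (d : Perm (Fin 6)) 4 = 4 ∨ (d : Perm (Fin 6)) 4 = 5
    · obtain ⟨h54, h55⟩ := hne h4
      refine ⟨d * u45, mul_mem hd (hUD hu45), _, rfl, ?_, ?_⟩ <;>
        · show (d : Perm (Fin 6)) ((u45 : Perm (Fin 6)) 4) ≠ _
          rw [e45]; assumption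
    · push Not at h4
      exact ⟨d, hd, _, rfl, h4.1, h4.2⟩
  have htrans : ∀ k : Fin 6, ∃ e ∈ D, (e : Perm (Fin 6)) 4 = k := by
    intro k
    by_cases hk : k = 4
    · exact ⟨1, one_mem D, by subst hk; rfl⟩
    by_cases hk5 : k = 5
    · exact ⟨u45, hUD hu45, hk5 ▸ e45⟩
    obtain ⟨u, hu, hu0⟩ := fix_facts.2.1 i hi4 hi5
    obtain ⟨v, hv, hv0⟩ := fix_facts.2.1 k hk hk5
    refine ⟨v * u⁻¹ * d, mul_mem (mul_mem (hUD hv) (inv_mem (hUD hu))) hd, ?_⟩
    show (v : Perm (Fin 6)) ((u : Perm (Fin 6))⁻¹ ((d : Perm (Fin 6)) 4)) = k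
    rw [hdi, ← hu0, Perm.inv_def, Equiv.symm_apply_apply, hv0]
  letI : MulAction D (Fin 6) := MulAction.compHom (Fin 6)
    ((alternatingGroup (Fin 6)).subtype.comp D.subtype)
  have horb : MulAction.orbit D (4 : Fin 6) = Set.univ := Set.eq_univ_of_forall fun k => by
    obtain ⟨e, he, hek⟩ := htrans k
    exact ⟨⟨e, he⟩, hek⟩
  have hmul : 6 * Nat.card (MulAction.stabilizer D (4 : Fin 6)) = Nat.card D := by
    have h := Nat.card_congr (MulAction.orbitProdStabilizerEquivGroup D (4 : Fin 6))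
    rwa [Nat.card_prod, horb, Nat.card_coe_set_eq, Set.ncard_univ, Nat.card_fin] at h
  have h8 : 8 ∣ Nat.card D := card_facts.1 ▸ Subgroup.card_dvd_of_le hUD
  have h360 : Nat.card D ∣ 360 := card_facts.2.1 ▸ Subgroup.card_subgroup_dvd_card D
  have h60 := card_le_sixty hD
  have hstab : Nat.card (MulAction.stabilizer D (4 : Fin 6)) = 4 := by
    obtain ⟨m, hm⟩ := h8
    rw [hm] at hmul h360 h60
    have hm7 : m ≤ 7 := by omega
    interval_cases m <;> omega
  -- hence the stabiliser lies in the Sylow subgroup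
  have hsub : ∀ e ∈ D, (e : Perm (Fin 6)) 4 = 4 → e ∈ cen tr ⊓ cen pr := by
    intro e he he4
    let f : {g : A // g ∈ cen tr ⊓ cen pr ∧ (g : Perm (Fin 6)) 4 = 4} →
        ↥(MulAction.stabilizer D (4 : Fin 6)) := fun g => ⟨⟨g.1, hUD g.2.1⟩, g.2.2⟩
    have hf : Function.Injective f := fun a b h =>
      Subtype.ext (congrArg (fun z : ↥(MulAction.stabilizer D (4 : Fin 6)) => (z.1 : A)) h)
    haveI := Fintype.ofFinite ↥(MulAction.stabilizer D (4 : Fin 6))
    have hc : Nat.card {g : A // g ∈ cen tr ⊓ cen pr ∧ (g : Perm (Fin 6)) 4 = 4} = 4 := by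
      rw [Nat.card_eq_fintype_card, Fintype.card_subtype]
      convert facts.2.1
    obtain ⟨g, hg⟩ := (hf.bijective_of_nat_card_le (by rw [hstab, hc])).2 ⟨⟨e, he⟩, he4⟩
    have : g.1 = e := congrArg (fun z : ↥(MulAction.stabilizer D (4 : Fin 6)) => (z.1 : A)) hg
    exact this ▸ g.2.1
  have h45 : ∀ e ∈ D, pr ((e : Perm (Fin 6)) 4) = (e : Perm (Fin 6)) 5 := fun e he => by
    refine (fix_facts.1 _ _ (fun h => absurd ((e : Perm (Fin 6)).injective h) (by decide)) fun u hu hfix => ?_).symm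
    have h := hsub (e⁻¹ * u * e) (mul_mem (mul_mem (inv_mem he) (hUD hu)) he) (by
      show (e : Perm (Fin 6))⁻¹ ((u : Perm (Fin 6)) ((e : Perm (Fin 6)) 4)) = 4
      rw [hfix, Perm.inv_def, Equiv.symm_apply_apply])
    have h5 : ((e⁻¹ * u * e : A) : Perm (Fin 6)) 4 = 4 := by
      show (e : Perm (Fin 6))⁻¹ ((u : Perm (Fin 6)) ((e : Perm (Fin 6)) 4)) = 4
      rw [hfix, Perm.inv_def, Equiv.symm_apply_apply]
    have h6 := (Subgroup.mem_inf.1 h).2 4
    rw [h5, show pr 4 = 5 by decide] at h6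
    have h7 : (e : Perm (Fin 6))⁻¹ ((u : Perm (Fin 6)) ((e : Perm (Fin 6)) 5)) = 5 := h6.symm
    exact Perm.inv_eq_iff_eq.1 h7 |>.trans rfl
  intro e he k
  obtain ⟨g, hg, rfl⟩ := htrans k
  have h2 := h45 _ (mul_mem he hg)
  show pr ((e : Perm (Fin 6)) ((g : Perm (Fin 6)) 4)) = (e : Perm (Fin 6)) (pr ((g : Perm (Fin 6)) 4))
  rw [h45 g hg]
  exact h2

theorem dich : Dich 2 A := by
  have hA := card_facts
  haveI : IsSimpleGroup A := alternatingGroup.isSimpleGroup (by simp)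
  have hUp : IsPGroup 2 ↥(cen tr ⊓ cen pr) := IsPGroup.of_card (n := 3) hA.1
  have hidx : ¬ 2 ∣ (cen tr ⊓ cen pr).index := by
    have h := (cen tr ⊓ cen pr).card_mul_index
    rw [hA.1, hA.2.1] at h
    omega
  have hN : Subgroup.normalizer ((cen tr ⊓ cen pr : Subgroup A) : Set A) ≠ ⊤ := fun h => by
    rcases (Subgroup.normalizer_eq_top_iff.1 h).eq_bot_or_eq_top with e | e
    · have := hA.1; rw [e, Subgroup.card_bot] at this; omega
    · exact ne_top_of_card (by omega) e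
  refine TwoOver.dich ⟨⟨inf_le_left, inf_le_right, ne_top_of_card (by omega), ne_top_of_card (by omega),
    by_contra fun hne => ?_⟩, over_cases⟩ hUp hidx hN Subgroup.le_normalizer
  obtain ⟨g, hgp, hgt⟩ := facts.2.2.2.2.2
  rcases over_cases (cen tr ⊔ cen pr) (inf_le_left.trans le_sup_left) hne with h | h
  · exact hgt (h (Subgroup.mem_sup_right hgp))
  · have : cen tr = cen pr := Subgroup.eq_of_le_of_card_ge (le_sup_left.trans h) (by omega)
    exact hgt (this ▸ hgp)

end H32.PMin.Alt6
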