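import Cfsg.Agent.H32.PMin.Frame
import Cfsg.Agent.H13.EA.Sym
import Cfsg.Agent.H13.EA.TwInst
import Cfsg.Agent.H32.F4Base

/-!
Exceptional and twisted groups: no `p`-automorphism fixing a Sylow subgroup moves all nodes.
-/

set_option autoImplicit false
set_option linter.unusedSectionVars false
set_option linter.style.haveILetI false
set_option maxRecDepth 4000
set_option backward.isDefEq.respectTransparency false

namespace H32.PMin

open Cfsg.Lie H13.EA

variable (p : ℕ) [Fact p.Prime]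

section Chev

variable {D : ChevalleyDatum} (C : H54.Ctx D) {F : Type*} [Field F] [Fintype F] [CharP F p]

theorem frame_sylow : IsPGroup p (frame C F).U ∧ ¬ p ∣ (frame C F).U.index := by
  classical
  obtain ⟨P, hP⟩ := C.exists_sylow (F := F) p
  have h : (frame C F).U = (P : Subgroup ↥(D.group F)) := hP.symm
  exact ⟨h ▸ P.isPGroup', h ▸ P.not_dvd_index⟩

/-- The node permutation of an automorphism fixing `U`. -/
theorem chev_perm {m : ℕ} (hD : DiagFacts D m) {α : MulAut ↥(D.group F)}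
    (hα : Adm p (frame C F).U α) : ∃ π : Equiv.Perm (Fin D.rank), Adj D π ∧
      (∀ i j : Fin D.rank, i ≠ j → D.cartan i.val (D.simple j.val) = -1 →
        D.cartan (π i).val (D.simple (π j).val) = -(m : ℤ) → ∀ x y : F, (x + y) ^ m = x ^ m + y ^ m) ∧
      ∀ i j, (mpar (frame C F) i).map α.toMonoidHom = mpar (frame C F) j → π i = j := by
  obtain ⟨x, hU, hV⟩ := exists_fix C p (α : ↥(D.group F) ≃* ↥(D.group F))
  set θ : ↥(D.group F) ≃* ↥(D.group F) := α.trans (MulAut.conj x⁻¹) with hθ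
  obtain ⟨π, c, σ, -, hm, h⟩ := normal_form C hD θ hU hV
  refine ⟨π, adj_of_symSet C hD ⟨θ, c, σ, h⟩, hm,
    fun i j hij => perm_of_corrected (frame_hyp C) hα.2 (x := x) (θ := θ)
      (fun y => by simp [hθ]) hU (π := π) ?_ hij⟩
  rintro k _ ⟨y, hy, rfl⟩
  obtain ⟨t, rfl⟩ := (mem_Xs C).1 hy
  exact (mem_Xs C).2 ⟨_, (h k t).2⟩

include C in
theorem chev_split (hD : D ∈ [chevG2, chevB2, chevD4, chevF4, chevE6, chevE7, chevE8])
    (J : Set (Fin D.rank)) {a b : Fin D.rank} (ha : a ∈ J) (hb : b ∉ J)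
    (hJ : ∀ π : Equiv.Perm (Fin D.rank), Adj D π →
      (∀ i j : Fin D.rank, i ≠ j → D.cartan i.val (D.simple j.val) = -1 →
        D.cartan (π i).val (D.simple (π j).val) = -(bondNum D : ℤ) →
          ∀ x y : F, (x + y) ^ bondNum D = x ^ bondNum D + y ^ bondNum D) →
      ∀ i, i ∈ J ↔ π i ∈ J) :
    Split p ↥(D.group F) := by
  obtain ⟨hUp, hidx⟩ := frame_sylow p C (F := F)
  refine split_frame (frame_hyp C) hUp hidx J ha hb fun α hα i j h => ?_
  obtain ⟨π, hπ, hm, hij⟩ := chev_perm p C (diagFacts_of_mem hD) hα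
  rw [← hij i j h]
  exact hJ π hπ hm i

end Chev

variable {F : Type*} [Field F] [Fintype F] [CharP F p]

theorem list_cases {D : ChevalleyDatum} {L : List (List ℕ)} (hL : ext D D.rank = L)
    {π : Equiv.Perm (Fin D.rank)} (h : Adj D π) {i : Fin D.rank} :
    ∃ l ∈ L, (π i).val = l.getD i.val 0 :=
  ⟨_, adj_cases hL h, (permList_getD π i.isLt i.isLt).symm⟩

theorem split_F4 : Split p ↥(chevF4.group F) := by
  obtain ⟨C⟩ := H54.exists_ctx (D := chevF4) (by simp)
  refine chev_split p C (by simp) {i : Fin chevF4.rank | i.val = 0 ∨ i.val = 3} (a := ⟨0, by decide⟩) (b := ⟨1, by decide⟩)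
    (Or.inl rfl) (by simp only [Set.mem_ofPred_eq]; decide) fun π hπ _ i => ?_
  obtain ⟨l, hl, he⟩ := list_cases ext_F4 hπ (i := i)
  have hi : i.val < 4 := i.isLt
  simp only [List.mem_cons, List.not_mem_nil, or_false] at hl
  simp only [Set.mem_ofPred_eq, he]
  rcases hl with rfl | rfl <;> interval_cases h : i.val <;> simp

theorem split_E6 : Split p ↥(chevE6.group F) := by
  obtain ⟨C⟩ := H54.exists_ctx (D := chevE6) (by simp)
  refine chev_split p C (by simp) {i : Fin chevE6.rank | i.val = 1} (a := ⟨1, by decide⟩) (b := ⟨0, by decide⟩)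
    rfl (by simp only [Set.mem_ofPred_eq]; decide) fun π hπ _ i => ?_
  obtain ⟨l, hl, he⟩ := list_cases ext_E6 hπ (i := i)
  have hi : i.val < 6 := i.isLt
  simp only [List.mem_cons, List.not_mem_nil, or_false] at hl
  simp only [Set.mem_ofPred_eq, he]
  rcases hl with rfl | rfl <;> interval_cases h : i.val <;> simp

theorem split_E7 : Split p ↥(chevE7.group F) := by
  obtain ⟨C⟩ := H54.exists_ctx (D := chevE7) (by simp)
  refine chev_split p C (by simp) {i : Fin chevE7.rank | i.val = 0} (a := ⟨0, by decide⟩) (b := ⟨1, by decide⟩)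
    rfl (by simp only [Set.mem_ofPred_eq]; decide) fun π hπ _ i => ?_
  obtain ⟨l, hl, he⟩ := list_cases ext_E7 hπ (i := i)
  have hi : i.val < 7 := i.isLt
  simp only [List.mem_cons, List.not_mem_nil, or_false] at hl
  simp only [Set.mem_ofPred_eq, he]
  subst hl
  interval_cases h : i.val <;> simp

theorem split_E8 : Split p ↥(chevE8.group F) := by
  obtain ⟨C⟩ := H54.exists_ctx (D := chevE8) (by simp)
  refine chev_split p C (by simp) {i : Fin chevE8.rank | i.val = 0} (a := ⟨0, by decide⟩) (b := ⟨1, by decide⟩)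
    rfl (by simp only [Set.mem_ofPred_eq]; decide) fun π hπ _ i => ?_
  obtain ⟨l, hl, he⟩ := list_cases ext_E8 hπ (i := i)
  have hi : i.val < 8 := i.isLt
  simp only [List.mem_cons, List.not_mem_nil, or_false] at hl
  simp only [Set.mem_ofPred_eq, he]
  subst hl
  interval_cases h : i.val <;> simp

theorem split_D4 : Split p ↥(chevD4.group F) := by
  obtain ⟨C⟩ := H54.exists_ctx (D := chevD4) (by simp)
  refine chev_split p C (by simp) {i : Fin chevD4.rank | i.val = 1} (a := ⟨1, by decide⟩) (b := ⟨0, by decide⟩)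
    rfl (by simp only [Set.mem_ofPred_eq]; decide) fun π hπ _ i => ?_
  obtain ⟨l, hl, he⟩ := list_cases ext_D4 hπ (i := i)
  have hi : i.val < 4 := i.isLt
  simp only [List.mem_cons, List.not_mem_nil, or_false] at hl
  simp only [Set.mem_ofPred_eq, he]
  rcases hl with rfl | rfl | rfl | rfl | rfl | rfl <;> interval_cases h : i.val <;> simp

theorem g2_swap : ∀ π : Equiv.Perm (Fin chevG2.rank), π ≠ 1 → ∃ i j : Fin chevG2.rank, i ≠ j ∧
    chevG2.cartan i.val (chevG2.simple j.val) = -1 ∧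
      chevG2.cartan (π i).val (chevG2.simple (π j).val) = -(bondNum chevG2 : ℤ) := by
  decide +kernel

theorem split_G2 (hF : 3 ≤ Fintype.card F) : Split p ↥(chevG2.group F) := by
  classical
  obtain ⟨C⟩ := H54.exists_ctx (D := chevG2) (by simp)
  by_cases hp : p = 2
  · subst hp
    refine chev_split 2 C (by simp) {i : Fin chevG2.rank | i.val = 0} (a := ⟨0, by decide⟩) (b := ⟨1, by decide⟩)
      rfl (by simp only [Set.mem_ofPred_eq]; decide) fun π _ hm i => ?_
    by_cases hπ : π = 1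
    · subst hπ; exact Iff.rfl
    exfalso
    obtain ⟨a, b, hab, h1, h2⟩ := g2_swap π hπ
    obtain ⟨y, hy, hy1⟩ : ∃ y : F, y ≠ 0 ∧ y ≠ 1 := by
      by_contra hne
      push Not at hne
      have : (Finset.univ : Finset F) ⊆ {0, 1} := fun y _ => by
        by_cases h : y = 0
        · simp [h]
        · simp [hne y h]
      have := (Finset.card_le_card this).trans Finset.card_le_two
      simp at this
      omega
    have h3 := hm a b hab h1 h2 1 y
    have hb : bondNum chevG2 = 3 := by decide +kernel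
    rw [hb] at h3
    have h20 : (2 : F) = 0 := by exact_mod_cast CharP.cast_eq_zero F 2
    have h4 : y * (1 + y) = 0 := by linear_combination h3 - (y + y ^ 2) * h20
    rcases mul_eq_zero.1 h4 with h | h
    · exact hy h
    · exact hy1 (by linear_combination h - h20)
  · obtain ⟨hUp, hidx⟩ := frame_sylow p C (F := F)
    exact split_frame_two (frame_hyp C) hp hUp hidx (a := ⟨0, by decide⟩) (b := ⟨1, by decide⟩)
      (by decide) (by decide)

section Tw

variable {D D' : ChevalleyDatum} {Fl : H52.Fold D D'} {T : H52.Tables} {K : Type*} [Field K]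
  [Fintype K] [CharP K p]

theorem tw_split (X : H52.Twist Fl T K) {q : ℕ} {J₀ : Fin D'.rank} (h : TwFacts X q J₀)
    {a b : Fin D'.rank} (hab : a ≠ b) : Split p ↥X.grp := by
  classical
  obtain ⟨P, hP⟩ := exists_tsylow X p
  have hUp : IsPGroup p (tframe X).U := (hP ▸ P.isPGroup' : IsPGroup p ↥X.sys.Uplus)
  have hidx : ¬ p ∣ (tframe X).U.index := (hP ▸ P.not_dvd_index : ¬ p ∣ X.sys.Uplus.index)
  refine split_frame (tframe_hyp X) hUp hidx {a} (a := a) (b := b) rfl (fun e => hab e.symm)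
    fun α hα i j hij => ?_
  obtain ⟨x, hU, hV⟩ := exists_tfix X p α
  have hfix := fix_classes h _ hU hV
  have := perm_of_corrected (tframe_hyp X) hα.2 (x := x) (θ := α.trans (MulAut.conj x⁻¹))
    (fun y => by simp) hU (π := id) (fun k => (hfix k).2.le) hij
  rw [id_eq] at this
  rw [this]

end Tw

theorem split_twisted {G : Type*} [Group G] (h : Cfsg.IsTwistedE6D4Char p G) : Split p G := by
  obtain ⟨K, _, _, _, q, hq, ⟨hK, ⟨e⟩⟩ | ⟨hK, ⟨e⟩⟩⟩ := h
  · obtain ⟨T, X, hf⟩ := H52.exists_twistE6 hq hK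
    refine Split.congr ?_ (e.trans (MulEquiv.subgroupCongr (H52.twistE6_grp X hf hK)).symm).symm
    exact tw_split p X (e6_twFacts X hf hK) (a := ⟨0, by decide⟩) (b := ⟨1, by decide⟩) (by decide)
  · obtain ⟨T, X, hf⟩ := H52.exists_twistD4 hq hK
    refine Split.congr ?_ (e.trans (MulEquiv.subgroupCongr (H52.twistD4_grp X hf hK)).symm).symm
    exact tw_split p X (d4_twFacts X hf hK) (a := ⟨0, by decide⟩) (b := ⟨1, by decide⟩) (by decide)

section F4

open H32 H53 H52 H53.F4T

theorem split_f4 {K : Type*} [Field K] [Fintype K] {m : ℕ}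
    (hK : Fintype.card K = 2 ^ (2 * m + 1)) : Split 2 ↥(FF.FG K m) := by
  classical
  haveI : Fact (Nat.Prime 2) := ⟨Nat.prime_two⟩
  obtain ⟨P, hP⟩ := FF.exists_sylow hK
  have hA := TwistFrame.frame_hyp (FF.hT hK) (FF.extra hK)
  refine split_frame hA (hP ▸ P.isPGroup') (hP ▸ P.not_dvd_index) {0} (a := 0) (b := 1) rfl
    (by simp) fun α hα i j hij => ?_
  obtain ⟨x, π, hU, -, hπ⟩ := TwistFrame.exists_norm_perm (FF.hT hK) (FF.extra hK) P hP α
  have hπ0 : π 0 = 0 := by
    by_contra hne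
    have h1 : π 0 = 1 := by omega
    have h2 := (hπ 0).1
    rw [h1] at h2
    have h3 := congrArg (fun S : Subgroup ↥(FF.FG K m) => Nat.card ↥S) h2
    have h4 : Nat.card ↥(TwistFrame.XG (FF.TD hK) 0) = Nat.card ↥(TwistFrame.XG (FF.TD hK) 1) :=
      (Subgroup.card_map_of_injective (f := (MulEquiv.toMonoidHom _)) (MulEquiv.injective _)).symm.trans h3
    rw [FF.card_X0 hK, FF.card_X1 hK, sq] at h4
    have : 2 ≤ Fintype.card K := Fintype.one_lt_card
    nlinarith
  have := perm_of_corrected hA hα.2 (x := x) (θ := α.trans (MulAut.conj x⁻¹))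
    (fun y => by simp) hU (π := π) (fun k => (hπ k).2.le) hij
  subst this
  constructor
  · rintro rfl; exact hπ0
  · intro h; exact π.injective ((Set.mem_singleton_iff.1 h).trans hπ0.symm)

theorem split_2F4 {G : Type*} [Group G] (h : Cfsg.Lie.Iso2F4 G) : Split 2 G := by
  obtain ⟨K, _, _, m, -, hK, ⟨e⟩⟩ := h
  exact (split_f4 hK).congr ((Subgroup.subgroupOfEquivOfLe (twisted_le (K := K) (2 ^ m))).trans e.symm)

end F4

/-- The exceptional Chevalley groups. -/
theorem split_exceptional {G : Type*} [Group G] (h : Cfsg.IsExceptionalChevChar p G) : Split p G := by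
  obtain ⟨F, _, _, _, h⟩ := h
  rcases h with ⟨hF, ⟨e⟩⟩ | ⟨⟨e⟩⟩ | ⟨⟨e⟩⟩ | ⟨⟨e⟩⟩ | ⟨⟨e⟩⟩
  · exact (split_G2 p hF).congr e.symm
  · exact (split_F4 p).congr e.symm
  · exact (split_E6 p).congr e.symm
  · exact (split_E7 p).congr e.symm
  · exact (split_E8 p).congr e.symm

end H32.PMin
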