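import Cfsg.Agent.H32.PMin.PolarSplit
import Cfsg.Agent.H32.PMin.Exceptional
import Cfsg.Agent.H32.Local.Classical
import Cfsg.Agent.H55.PSpAut
import Cfsg.Agent.H55.PSUAut
import Cfsg.Agent.H43.AutPO.Gamma
import Cfsg.Agent.S1082

/-!
The symplectic, unitary and orthogonal groups of rank at least two split.
-/

set_option autoImplicit false
set_option linter.unusedSectionVars false
set_option linter.style.haveILetI false

namespace H32.PMin.Pol

open Matrix Cfsg H17.Polar H32.Local H43

variable (p : ℕ) [Fact p.Prime]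

section Sp

variable {F : Type*} [Field F] {m : ℕ}

theorem sp_isom : Isom (matRep (H17.Polar.spToMat m F)) (spSpace m F) :=
  ⟨fun g u v => H48.sf_smul_smul g u v, fun _ _ _ => trivial⟩

theorem sp_roots [Fintype F] : Roots (matRep (H17.Polar.spToMat m F)) (spSpace m F) ⊤ ⊤ := by
    intro r x x' _ _ _ hr hx hx' h h'
    have hform := (spSpace m F).rootLin_form hr hx hx' h h'
    let A : Matrix (Fin m ⊕ Fin m) (Fin m ⊕ Fin m) F :=
      LinearMap.toMatrix' ((spSpace m F).rootLin r x x')
    have hA : A ∈ Matrix.symplecticGroup (Fin m) F := H48.mem_symplectic_iff.2 fun u v => by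
      simp only [A, ← Matrix.toLin'_apply, Matrix.toLin'_toMatrix']
      exact hform u v
    have happ : ∀ v, matRep (H17.Polar.spToMat m F) ⟨A, hA⟩ v = (spSpace m F).rootLin r x x' v := fun v => by
      rw [matRep_apply]
      show A *ᵥ v = _
      simp only [A, ← Matrix.toLin'_apply, Matrix.toLin'_toMatrix']
    exact ⟨⟨A, hA⟩, trivial, by rw [happ, (spSpace m F).rootLin_fix hr h h'],
      by rw [happ, (spSpace m F).rootLin_move hr h hx],
      fun v _ h1 h2 => by rw [happ, (spSpace m F).rootLin_orth hr h h' h1 h2]⟩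

theorem sp_moves : Moves (spSpace m F) := by
    intro r x _ _ h
    refine ⟨x + r, trivial, fun e => ?_, ?_⟩
    · rw [add_eq_left] at e
      exact h (by rw [e]; exact Space.zero_left _ _)
    · rw [Space.add_right, (spSpace m F).sing_self r trivial, add_zero]

theorem sp_bend : Bend (spSpace m F) := by
  intro x r y _ hr hy _ _ hry
  refine ⟨0, 1, Space.zero_left _ _, Space.zero_left _ _, trivial, ?_⟩
  rw [add_zero, one_smul, Space.add_right, (spSpace m F).sing_self y trivial, zero_add]
  exact fun e => hry ((spSpace m F).eq_zero_comm.1 e)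

theorem sp_flag (hm : 2 ≤ m) : Flag (spSpace m F)
    (Pi.single (Sum.inl ⟨0, by omega⟩) 1) (Pi.single (Sum.inl ⟨1, by omega⟩) 1) := by
  refine ⟨trivial, trivial, by simp, ?_, fun h => ?_⟩
  · show H48.sf _ _ = 0
    simp [H48.sf_apply]
  · obtain ⟨c, hc⟩ := Submodule.mem_span_singleton.1 h
    simpa [Pi.single_apply, Fin.ext_iff] using congrFun hc (Sum.inl ⟨1, by omega⟩)

theorem sp_semi [Fintype F] [CharP F p] (hm : 2 ≤ m) (h4 : m = 2 → p ≠ 2)
    (α : MulAut (Cfsg.PSp m F)) :
    Semi (matRep (H17.Polar.spToMat m F)) (spSpace m F) α := by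
  obtain ⟨g, σ, rfl⟩ := H55.Psp.aut_PSp hm h4 α
  obtain ⟨c, hc⟩ := H55.Psp.mem_GSp.1 g.2
  let G : H55.Psp.Mt m F := ((g : H55.Psp.GG m F) : H55.Psp.Mt m F)
  let G' : H55.Psp.Mt m F := (((g : H55.Psp.GG m F)⁻¹ : H55.Psp.GG m F) : H55.Psp.Mt m F)
  let T : (Fin m ⊕ Fin m → F) ≃+ (Fin m ⊕ Fin m → F) :=
    { toFun := fun v => G *ᵥ fun i => σ (v i)
      invFun := fun v i => σ.symm ((G' *ᵥ v) i)
      left_inv := fun v => by funext i; simp [G, G']
      right_inv := fun v => by simp [G, G']
      map_add' := fun u v => by rw [← mulVec_add]; congr 1; funext i; simp }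
  have hTv : ∀ v, T v = G *ᵥ fun i => σ (v i) := fun _ => rfl
  refine ⟨σ, T, fun a v => ?_, fun _ _ => trivial, fun u v h => ?_, fun s => ?_⟩
  · rw [hTv, hTv, ← mulVec_smul]
    congr 1
    funext i
    simp
  · replace h : H48.sf u v = 0 := h
    show H48.sf (T u) (T v) = 0
    rw [hTv, hTv]
    show H48.sf (((g : H55.Psp.GG m F) : H55.Psp.Mt m F) *ᵥ _) (((g : H55.Psp.GG m F) : H55.Psp.Mt m F) *ᵥ _) = 0
    rw [hc, H55.Psp.map_sf, h, map_zero, mul_zero]
  · refine ⟨H55.Psp.conjSp g (H55.Psp.fieldSp σ s), rfl, fun v => ?_⟩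
    simp only [matRep_apply, hTv]
    show (G * (s : H55.Psp.Mt m F).map σ * G') *ᵥ (G *ᵥ fun i => σ (v i)) =
      G *ᵥ fun i => σ (((s : H55.Psp.Mt m F) *ᵥ v) i)
    rw [← mulVec_mulVec, H55.Psp.gl_inv_mulVec, ← mulVec_mulVec, H55.Psp.map_mulVec]

theorem split_psp [Fintype F] [CharP F p] (hm : 2 ≤ m) (h4 : m = 2 → p ≠ 2) :
    Split p (Cfsg.PSp m F) := by
  haveI : Finite (Matrix.symplecticGroup (Fin m) F) := inferInstance
  exact split_polar sp_isom sp_roots sp_moves (sp_flag hm) sp_bend
    ((injective_iff_map_eq_one _).2 fun g h => matRep_eq_one Subtype.val_injective h) p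
    (sp_semi p hm h4)

end Sp

theorem split_psu {F : Type*} [Field F] [Fintype F] [CharP F p] {n q : ℕ} (hn : 4 ≤ n)
    (hF : Fintype.card F = q ^ 2) : Split p (Cfsg.PSU n F q) := by
  classical
  have hp : p.Prime := Fact.out
  obtain ⟨e, -, he⟩ := FiniteField.card F p
  have hqdvd : q ∣ p ^ (e : ℕ) := ⟨q, by rw [← he, hF, sq]⟩
  obtain ⟨k, -, rfl⟩ := (Nat.dvd_prime_pow hp).1 hqdvd
  have hk : 0 < k := by
    rcases Nat.eq_zero_or_pos k with rfl | h
    · have := Fintype.one_lt_card (α := F)
      rw [hF] at this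
      simp at this
    · exact h
  let σ : F →+* F := iterateFrobenius F p k
  have hσ : ∀ x, σ x = x ^ p ^ k := iterateFrobenius_def p k
  have hσσ : ∀ x, σ (σ x) = x := fun x => by
    rw [hσ, hσ, ← pow_mul, ← sq, ← hF, FiniteField.pow_card]
  have hne : ∃ x, σ x ≠ x := by
    by_contra hcon
    push Not at hcon
    have h2 : 1 < p ^ k := Nat.one_lt_pow hk.ne' hp.one_lt
    have hle : Fintype.card F ≤ p ^ k := by
      have hsub : (Finset.univ : Finset F) ⊆
          (Polynomial.X ^ p ^ k - Polynomial.X : Polynomial F).roots.toFinset := by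
        intro x _
        rw [Multiset.mem_toFinset, Polynomial.mem_roots (FiniteField.X_pow_card_sub_X_ne_zero F h2)]
        simp [← hσ, hcon x]
      refine (Finset.card_le_card hsub).trans ((Multiset.toFinset_card_le _).trans ?_)
      refine (Polynomial.card_roots' _).trans ?_
      rw [FiniteField.X_pow_card_sub_X_natDegree_eq F h2]
    rw [hF] at hle
    nlinarith
  let S := suSpace (n := n) σ hσ hσσ hne
  haveI : Nonempty (Fin n) := ⟨⟨0, by omega⟩⟩
  haveI : Finite (Cfsg.SU n F (p ^ k)) := inferInstance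
  have hρ : Isom (matRep H17.Polar.suToMat) S := ⟨fun g u v => g.2 u v, fun g v hv => (g.2 v v).trans hv⟩
  have hlong : ∀ r x, S.Sing r → S.Sing x → S.B r x ≠ 0 → ∃ a : F, a ≠ 0 ∧ S.Sing (x + a • r) := by
    intro r x hr hx h
    obtain ⟨x₀, hx₀⟩ := hne
    set z := x₀ - σ x₀
    have hz : z + σ z = 0 := by
      simp only [z, map_sub, hσσ]; ring
    have hxr : S.B x r ≠ 0 := fun e => h (S.eq_zero_comm.1 e)
    set a := σ (z / S.B x r)
    have ha : a ≠ 0 := fun e => by
      have h0 := congrArg σ e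
      simp only [a, hσσ, map_zero, div_eq_zero_iff, z, sub_eq_zero] at h0
      rcases h0 with h0 | h0
      · exact hx₀ h0.symm
      · exact hxr h0
    refine ⟨a, ha, ?_⟩
    show S.B (x + a • r) (x + a • r) = 0
    have h1 : S.σ a * S.B x r = z := by
      show σ a * S.B x r = z
      simp only [a, hσσ]
      rw [div_mul_cancel₀ _ hxr]
    have h2 : a * S.B r x = σ z := by
      rw [← h1, map_mul]
      show a * S.B r x = σ (σ a) * σ (S.B x r)
      rw [hσσ, S.swap x r]
      show a * (1 * σ (S.B x r)) = _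
      rw [one_mul]
    simp only [S.add_left, S.add_right, S.smul_left, S.smul_right, S.sing_self r hr, S.sing_self x hx]
    linear_combination h1 + h2 + hz
  have hR : Roots (matRep (H17.Polar.suToMat (n := n) (F := F) (q := p ^ k))) S ⊤ ⊤ := by
      intro r x x' _ _ _ hr hx hx' h h'
      have hform := S.rootLin_form hr hx hx' h h'
      let A : Matrix (Fin n) (Fin n) F := LinearMap.toMatrix' (S.rootLin r x x')
      have hAv : ∀ v, A *ᵥ v = S.rootLin r x x' v := fun v => by
        simp only [A, ← Matrix.toLin'_apply, Matrix.toLin'_toMatrix']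
      have hdet : A.det = 1 := by
        refine det_eq_one_of_cube p A ?_
        refine Matrix.toLin'.injective (LinearMap.ext fun v => ?_)
        have hD : ∀ w, (A - 1) *ᵥ w = S.rootLin r x x' w - w := fun w => by
          rw [sub_mulVec, one_mulVec, hAv]
        simp only [Matrix.toLin'_apply, map_zero, LinearMap.zero_apply, pow_succ, pow_zero, one_mul,
          ← mulVec_mulVec, hD]
        set d1 := S.rootLin r x x' v - v
        have hd1 : S.B d1 r = 0 := by
          show S.B (S.rootLin r x x' v - v) r = 0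
          rw [S.sub_left, sub_eq_zero]
          have := hform v r
          rwa [S.rootLin_fix hr h h'] at this
        obtain ⟨d, hd⟩ : ∃ d, S.rootLin r x x' d1 - d1 = d • r := by
          refine ⟨-((S.B d1 x' - S.B d1 x) / S.B r x), ?_⟩
          rw [S.rootLin_apply, hd1]
          simp [sub_div, neg_sub, sub_smul]
        rw [hd, map_smul, S.rootLin_fix hr h h', sub_self]
      let g : Cfsg.SU n F (p ^ k) := ⟨⟨A, hdet⟩, fun u v => by
        show hermForm n F (p ^ k) (A *ᵥ u) (A *ᵥ v) = _
        rw [hAv, hAv]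
        exact hform u v⟩
      have happ : ∀ v, matRep H17.Polar.suToMat g v = S.rootLin r x x' v := hAv
      exact ⟨g, trivial, by rw [happ, S.rootLin_fix hr h h'], by rw [happ, S.rootLin_move hr h hx],
        fun v _ h1 h2 => by rw [happ, S.rootLin_orth hr h h' h1 h2]⟩
  have hX : Moves S := by
      intro r x hr hx h
      obtain ⟨a, ha, hs⟩ := hlong r x hr hx h
      refine ⟨x + a • r, hs, fun e => ?_, ?_⟩
      · rw [add_eq_left, smul_eq_zero] at e
        rcases e with e | e
        · exact ha e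
        · exact h (by rw [e, S.zero_left])
      · rw [S.add_right, S.smul_right, S.sing_self r hr, mul_zero, add_zero]
  have hb : Bend S := by
    intro x r y _ hr hy _ _ hry
    obtain ⟨a, ha, hs⟩ := hlong r y hr hy hry
    refine ⟨0, a, S.zero_left _, S.zero_left _, by rwa [add_zero], ?_⟩
    rw [add_zero, S.add_right, S.sing_self y hy, zero_add, S.smul_right]
    exact mul_ne_zero ((map_ne_zero σ).2 ha) fun e => hry (S.eq_zero_comm.1 e)
  obtain ⟨w, hw0, hw⟩ := H50.exists_isotropic (F := F) hF (n := 2) le_rfl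
  set x : Fin n → F := w 0 • Pi.single ⟨0, by omega⟩ 1 + w 1 • Pi.single ⟨1, by omega⟩ 1
  set a : Fin n → F := w 0 • Pi.single ⟨2, by omega⟩ 1 + w 1 • Pi.single ⟨3, by omega⟩ 1
  have hw' : w 0 * w 0 ^ p ^ k + w 1 * w 1 ^ p ^ k = 0 := by
    simpa [Cfsg.hermForm, Fin.sum_univ_two] using hw
  have hfl : Flag S x a := by
    refine ⟨?_, ?_, fun h => hw0 ?_, ?_, fun h => hw0 ?_⟩
    · show Cfsg.hermForm n F (p ^ k) x x = 0
      simpa [x, mul_comm, H50.h_add_left, H50.h_add_right hF, H50.h_smul_left, H50.h_smul_right hF,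
        H50.h_single_single hF, Fin.ext_iff] using hw'
    · show Cfsg.hermForm n F (p ^ k) a a = 0
      simpa [a, mul_comm, H50.h_add_left, H50.h_add_right hF, H50.h_smul_left, H50.h_smul_right hF,
        H50.h_single_single hF, Fin.ext_iff] using hw'
    · funext i
      fin_cases i
      · simpa [x, Pi.single_apply, Fin.ext_iff] using congrFun h ⟨0, by omega⟩
      · simpa [x, Pi.single_apply, Fin.ext_iff] using congrFun h ⟨1, by omega⟩
    · show Cfsg.hermForm n F (p ^ k) x a = 0
      simp [x, a, H50.h_add_left, H50.h_add_right hF, H50.h_smul_left, H50.h_smul_right hF,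
        H50.h_single_single hF, Fin.ext_iff]
    · obtain ⟨c, hc⟩ := Submodule.mem_span_singleton.1 h
      funext i
      fin_cases i
      · simpa [x, a, Pi.single_apply, Fin.ext_iff] using (congrFun hc ⟨2, by omega⟩).symm
      · simpa [x, a, Pi.single_apply, Fin.ext_iff] using (congrFun hc ⟨3, by omega⟩).symm
  refine split_polar hρ hR hX hfl hb
    ((injective_iff_map_eq_one _).2 fun g h => matRep_eq_one H17.Polar.suToMat_injective h) p fun α => ?_
  obtain ⟨g, τ, rfl⟩ := H55.Psu.exists_decomp hF (by omega) (by omega) α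
  let M : Matrix (Fin n) (Fin n) F := H50.guMat g
  let T : (Fin n → F) ≃+ (Fin n → F) :=
    { toFun := fun v => M *ᵥ fun i => τ (v i)
      invFun := fun v i => τ.symm ((H50.guMat g⁻¹ *ᵥ v) i)
      left_inv := fun v => by funext i; simp [M, mulVec_mulVec, H55.Psu.guMat_inv_mul]
      right_inv := fun v => by simp [M, mulVec_mulVec, H55.Psu.guMat_mul_inv]
      map_add' := fun u v => by rw [← mulVec_add]; congr 1; funext i; simp }
  have hTv : ∀ v, T v = H50.guMat g *ᵥ fun i => τ (v i) := fun _ => rfl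
  refine ⟨τ, T, fun c v => ?_, fun v hv => ?_, fun u v h => ?_, fun s => ?_⟩
  · rw [hTv, hTv, ← mulVec_smul]
    congr 1
    funext i
    simp
  · replace hv : Cfsg.hermForm n F (p ^ k) v v = 0 := hv
    show Cfsg.hermForm n F (p ^ k) (T v) (T v) = 0
    rw [hTv, H50.GU_isIso g, H55.Psu.map_h, hv, map_zero]
  · replace h : Cfsg.hermForm n F (p ^ k) u v = 0 := h
    show Cfsg.hermForm n F (p ^ k) (T u) (T v) = 0
    rw [hTv, hTv, H50.GU_isIso g, H55.Psu.map_h, h, map_zero]
  · refine ⟨H55.Psu.conjU g (H55.Psu.fieldU τ s), rfl, fun v => ?_⟩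
    simp only [matRep_apply, hTv]
    show (H50.guMat g * (H50.suMat s).map τ * H50.guMat g⁻¹) *ᵥ (H50.guMat g *ᵥ fun i => τ (v i)) =
      H50.guMat g *ᵥ fun i => τ ((H50.suMat s *ᵥ v) i)
    rw [← mulVec_mulVec, mulVec_mulVec _ (H50.guMat g⁻¹), H55.Psu.guMat_inv_mul, one_mulVec,
      ← mulVec_mulVec, H55.Psu.map_mulVec']

section Orth

variable {F : Type*} [Field F] [Fintype F] [CharP F p] {ι : Type} [Fintype ι] [DecidableEq ι]

theorem split_pomega (Q : QuadraticForm F (ι → F)) (hG : AutPO.Good Q) {x a : ι → F}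
    (hfl : Flag (orthSpace Q hG.nd) x a) : Split p (Cfsg.POmega F ⇑Q) := by
  classical
  have hQ := hG.nd
  have hdim : 5 ≤ Fintype.card ι := by simpa using hG.toBase.five
  let S := orthSpace Q hQ
  have hρ : Isom (omRep Q) S :=
    ⟨fun g u v => orth_polB_map (toOrth Q g.1) u v, fun g v hv => (orth_qmap (toOrth Q g.1) v).trans hv⟩
  have hfr : 5 ≤ Module.finrank F (ι → F) := by rwa [Module.finrank_fintype_fun_eq_card]
  -- a vector orthogonal to a hyperbolic pair
  have hM : ∀ r x : ι → F, ∃ m, m ≠ 0 ∧ polB Q m r = 0 ∧ polB Q m x = 0 := by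
    intro r x
    have hker : LinearMap.ker (((polB Q).flip r).prod ((polB Q).flip x)) ≠ ⊥ := by
      intro h
      have hinj := LinearMap.ker_eq_bot.1 h
      have := LinearMap.finrank_le_finrank_of_injective hinj
      rw [Module.finrank_prod, Module.finrank_self] at this
      omega
    obtain ⟨m, hm, hm0⟩ := Submodule.exists_mem_ne_zero_of_ne_bot hker
    rw [LinearMap.mem_ker] at hm
    exact ⟨m, hm0, congrArg Prod.fst hm, congrArg Prod.snd hm⟩
  have hR : Roots (omRep Q) S ⊤ ⊤ := by
      intro r x x' _ _ _ hr hx hx' h h'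
      replace hr : Q r = 0 := hr
      replace hx : Q x = 0 := hx
      replace hx' : Q x' = 0 := hx'
      replace h : polB Q r x ≠ 0 := h
      replace h' : polB Q r x' = polB Q r x := h'
      set w := (polB Q r x)⁻¹ • (x' - x) with hwdef
      have hw : polB Q r w = 0 := by rw [map_smul, map_sub, h', sub_self, smul_zero]
      have hmem : eichler Q r w ∈ commutator (orthGroup Q) :=
        eichler_mem_commutator hQ hr hx h (Or.inl hfr) (hM r x) hw
      obtain ⟨g, hg⟩ := (toOrth Q).surjective (eichler Q r w)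
      let g' : Cfsg.Omega F ⇑Q := ⟨g, (mem_Omega_iff g).2 (hg ▸ hmem)⟩
      have happ : ∀ v, omRep Q g' v = (eichler Q r w).1 v := fun v => by
        show (toOrth Q g).1 v = _
        rw [hg]
      refine ⟨g', trivial, ?_, ?_, fun m _ hmr hmx => ?_⟩
      · rw [happ, eichler_fix hr hw (by rw [polB_self, hr, mul_zero]) hw]
      · have hxx' : Q w = -(polB Q x x') * (polB Q r x)⁻¹ * (polB Q r x)⁻¹ := by
          rw [hwdef, qmap_smul, qmap_sub, hx, hx', polB_comm x' x]
          ring
        rw [happ, eichler_apply hr hw, hxx', hwdef, map_smul, map_sub, polB_self, hx, mul_zero,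
          sub_zero, polB_comm x r, smul_smul, mul_inv_cancel₀ h, one_smul, smul_eq_mul]
        have hz : -(polB Q x x') * (polB Q r x)⁻¹ * (polB Q r x)⁻¹ * polB Q r x =
            -((polB Q r x)⁻¹ * polB Q x x') := by field_simp
        rw [hz, neg_smul]
        abel
      · replace hmr : polB Q m r = 0 := hmr
        replace hmx : polB Q m x = 0 := hmx
        show omRep Q g' m = m - (polB Q m x' / polB Q r x') • r
        rw [happ, eichler_apply hr hw, hmr, zero_smul, mul_zero, zero_smul, sub_zero, add_zero, hwdef,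
          map_smul, map_sub, hmx, sub_zero, h', smul_eq_mul, div_eq_inv_mul]
  have hX : Moves S := by
      intro r x hr hx h
      obtain ⟨m, hm0, hmr, hmx⟩ := hM r x
      replace hr : Q r = 0 := hr
      replace hx : Q x = 0 := hx
      replace h : polB Q r x ≠ 0 := h
      replace hmr : polB Q m r = 0 := hmr
      replace hmx : polB Q m x = 0 := hmx
      refine ⟨x + m + (-Q m / polB Q r x) • r, ?_, fun e => ?_, ?_⟩
      · show Q _ = 0
        rw [qmap_add_smul, qmap_add, hx, hr, map_add, LinearMap.add_apply, hmr, polB_comm x m, hmx,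
          polB_comm x r, add_zero, add_zero, div_mul_cancel₀ _ h]
        ring
      · rw [add_assoc, add_eq_left] at e
        have h1 : polB Q (m + (-Q m / polB Q r x) • r) x = 0 := by rw [e, map_zero, LinearMap.zero_apply]
        rw [map_add, LinearMap.add_apply, hmx, zero_add, map_smul, LinearMap.smul_apply, smul_eq_mul,
          mul_eq_zero] at h1
        rw [(h1.resolve_right h), zero_smul, add_zero] at e
        exact hm0 e
      · show polB Q r _ = polB Q r x
        rw [map_add, map_add, map_smul, polB_comm r m, hmr, polB_self, hr, mul_zero, smul_zero,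
          add_zero, add_zero]
  have hb : Bend S := by
    intro x r y _ hr hy _ hxy hry
    replace hr : Q r = 0 := hr
    replace hy : Q y = 0 := hy
    replace hry : polB Q r y ≠ 0 := hry
    let f : (ι → F) →ₗ[F] F × F := ((polB Q).flip x).prod ((polB Q).flip r)
    obtain ⟨u, hu, hQu⟩ : ∃ u ∈ LinearMap.ker f, Q u ≠ 0 := by
      by_contra hcon
      push Not at hcon
      have h1 := two_mul_finrank_singular_le hQ _ hcon
      have h2 := f.finrank_range_add_finrank_ker
      have h3 : Module.finrank F (LinearMap.range f) ≤ 2 :=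
        (Submodule.finrank_le _).trans (by simp)
      omega
    rw [LinearMap.mem_ker] at hu
    have hux : polB Q u x = 0 := congrArg Prod.fst hu
    have hur : polB Q u r = 0 := congrArg Prod.snd hu
    have hyr : polB Q y r ≠ 0 := by rwa [polB_comm]
    refine ⟨u, -(polB Q y u + Q u) / polB Q y r, hux, hur, ?_, ?_⟩
    · show Q _ = 0
      rw [qmap_add_smul, qmap_add, hy, hr, map_add, LinearMap.add_apply, hur, add_zero,
        div_mul_cancel₀ _ hyr]
      ring
    · show polB Q y _ ≠ 0
      rw [map_add, map_add, map_smul, smul_eq_mul, polB_self, hy, mul_zero, zero_add,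
        div_mul_cancel₀ _ hyr]
      simpa using hQu
  refine split_polar hρ hR hX hfl hb (omRep_injective Q) p fun α => ?_
  obtain ⟨g, hg⟩ := AutPO.exists_semi hG ((pomegaEquiv Q).symm.trans (α.trans (pomegaEquiv Q)))
  refine ⟨g.σ, g.toAddEquiv, g.map_smul', fun v hv => g.map_singular hv, fun u v h => ?_, fun s => ?_⟩
  · replace h : polB Q u v = 0 := h
    show polB Q (g.toAddEquiv u) (g.toAddEquiv v) = 0
    rw [g.map_polB, h, map_zero, mul_zero]
  · refine ⟨(omegaEquiv Q).symm (g.conjOm (omegaEquiv Q s)), (pomegaEquiv Q).injective ?_, fun v => ?_⟩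
    · have h1 : g.pAut (pomegaEquiv Q s) = pomegaEquiv Q (α s) := by simp [hg]
      rw [← h1]
      show AutPO.pmk Q (omegaEquiv Q ((omegaEquiv Q).symm _)) = g.pAut (AutPO.pmk Q (omegaEquiv Q s))
      rw [MulEquiv.apply_symm_apply, AutPO.Semi.pAut_pmk]
    · show ((omegaEquiv Q ((omegaEquiv Q).symm (g.conjOm (omegaEquiv Q s)))).1).1 (g.toAddEquiv v) =
        g.toAddEquiv (((omegaEquiv Q s).1).1 v)
      rw [MulEquiv.apply_symm_apply, AutPO.Semi.conjOm_map]

end Orth

theorem split_odd {F : Type*} [Field F] [Fintype F] [CharP F p] {m : ℕ} (hm : 3 ≤ m)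
    (h2 : (2 : F) ≠ 0) : Split p (Cfsg.POmega F (Cfsg.quadFormOdd m F)) := by
  rw [← coe_qOdd]
  refine split_pomega p _ (AutPO.good_qOdd hm h2)
    (x := Pi.single (.inr (.inl ⟨0, by omega⟩)) 1) (a := Pi.single (.inr (.inl ⟨1, by omega⟩)) 1)
    ⟨?_, ?_, by simp, ?_, fun h => ?_⟩
  · show qOdd m F _ = 0
    simp [coe_qOdd, Cfsg.quadFormOdd]
  · show qOdd m F _ = 0
    simp [coe_qOdd, Cfsg.quadFormOdd]
  · show polB _ _ _ = 0
    simp [polB_apply, QuadraticMap.polar, coe_qOdd, Cfsg.quadFormOdd]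
  · obtain ⟨c, hc⟩ := Submodule.mem_span_singleton.1 h
    simpa [Fin.ext_iff] using congrFun hc (.inr (.inl ⟨1, by omega⟩))

theorem split_plus {F : Type} [Field F] [Fintype F] [CharP F p] {m : ℕ} (hm : 4 ≤ m) :
    Split p (Cfsg.POmega F (Cfsg.quadFormPlus m F)) := by
  rcases hm.eq_or_lt with rfl | hm
  · obtain ⟨e⟩ := Cfsg.Agent.S1082.result (F := F)
    exact (split_D4 p).congr e
  rw [← coe_qPlus]
  refine split_pomega p _ (AutPO.good_qPlus hm)
    (x := Pi.single (.inl ⟨0, by omega⟩) 1) (a := Pi.single (.inl ⟨1, by omega⟩) 1)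
    ⟨?_, ?_, by simp, ?_, fun h => ?_⟩
  · show qPlus m F _ = 0
    simp [coe_qPlus, Cfsg.quadFormPlus]
  · show qPlus m F _ = 0
    simp [coe_qPlus, Cfsg.quadFormPlus]
  · show polB _ _ _ = 0
    simp [polB_apply, QuadraticMap.polar, coe_qPlus, Cfsg.quadFormPlus]
  · obtain ⟨c, hc⟩ := Submodule.mem_span_singleton.1 h
    simpa [Fin.ext_iff] using congrFun hc (.inl ⟨1, by omega⟩)

theorem split_minus {F : Type*} [Field F] [Fintype F] [CharP F p] {m : ℕ} (hm : 4 ≤ m) {a b : F}
    (hab : ∀ z₁ z₂ : F, z₁ ^ 2 + a * z₁ * z₂ + b * z₂ ^ 2 = 0 → z₁ = 0 ∧ z₂ = 0) :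
    Split p (Cfsg.POmega F (Cfsg.quadFormMinus (m - 1) F a b)) := by
  rw [← coe_qMinus]
  refine split_pomega p _ (AutPO.good_qMinus (by omega) hab)
    (x := Pi.single (.inl (.inl ⟨0, by omega⟩)) 1) (a := Pi.single (.inl (.inl ⟨1, by omega⟩)) 1)
    ⟨?_, ?_, by simp, ?_, fun h => ?_⟩
  · show qMinus (m - 1) F a b _ = 0
    simp [coe_qMinus, Cfsg.quadFormMinus]
  · show qMinus (m - 1) F a b _ = 0
    simp [coe_qMinus, Cfsg.quadFormMinus]
  · show polB _ _ _ = 0
    simp [polB_apply, QuadraticMap.polar, coe_qMinus, Cfsg.quadFormMinus]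
  · obtain ⟨c, hc⟩ := Submodule.mem_span_singleton.1 h
    simpa [Fin.ext_iff] using congrFun hc (.inl (.inl ⟨1, by omega⟩))

end H32.PMin.Pol
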