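import Cfsg.Prelude.Def_LocalEven
import Cfsg.Prelude.Def_Local
import Cfsg.Agent.H32.Sylow
import Mathlib

/-!
`p`-minimal groups with a simple normal subgroup `K`: a Sylow `p`-subgroup `S` permutes the
overgroups of `U = S ⊓ K` in `K`, and every proper `S`-invariant one lies in the maximal subgroup
above `S`.
-/

set_option autoImplicit false
set_option linter.unusedSectionVars false

open scoped Pointwise

namespace H32.PMin

universe u v

variable {K : Type u} [Group K]

/-- An automorphism of `p`-power order preserving `U`. -/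
def Adm (p : ℕ) (U : Subgroup K) (α : MulAut K) : Prop :=
  (∃ k : ℕ, orderOf α = p ^ k) ∧ U.map α.toMonoidHom = U

/-- Two proper overgroups of `U` generating everything. -/
structure Pair (U Y₁ Y₂ : Subgroup K) : Prop where
  le₁ : U ≤ Y₁
  le₂ : U ≤ Y₂
  ne₁ : Y₁ ≠ ⊤
  ne₂ : Y₂ ≠ ⊤
  sup : Y₁ ⊔ Y₂ = ⊤

/-- The normalizer of a Sylow subgroup is maximal. -/
def Tight (p : ℕ) (K : Type u) [Group K] : Prop :=
  ∃ U : Subgroup K, IsPGroup p U ∧ ¬ p ∣ U.index ∧ Subgroup.normalizer (U : Set K) ≠ ⊤ ∧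
    ∀ D : Subgroup K, Subgroup.normalizer (U : Set K) ≤ D → D ≠ ⊤ → D = Subgroup.normalizer (U : Set K)

/-- A generating pair of overgroups fixed by the `p`-automorphisms preserving `U`. -/
def Split (p : ℕ) (K : Type u) [Group K] : Prop :=
  ∃ U Y₁ Y₂ : Subgroup K, IsPGroup p U ∧ ¬ p ∣ U.index ∧ Subgroup.normalizer (U : Set K) ≠ ⊤ ∧
    Pair U Y₁ Y₂ ∧
    ∀ α, Adm p U α → Y₁.map α.toMonoidHom = Y₁ ∧ Y₂.map α.toMonoidHom = Y₂

/-- A generating pair fixed by a `p`-automorphism preserving `U`, unless this automorphism fixes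
no proper subgroup properly above the normalizer. -/
def Dich (p : ℕ) (K : Type u) [Group K] : Prop :=
  ∃ U Y₁ Y₂ : Subgroup K, IsPGroup p U ∧ ¬ p ∣ U.index ∧ Subgroup.normalizer (U : Set K) ≠ ⊤ ∧
    Pair U Y₁ Y₂ ∧
    ∀ α, Adm p U α → (Y₁.map α.toMonoidHom = Y₁ ∧ Y₂.map α.toMonoidHom = Y₂) ∨
      ∀ D : Subgroup K, Subgroup.normalizer (U : Set K) ≤ D → D ≠ ⊤ → D.map α.toMonoidHom = D →
        D = Subgroup.normalizer (U : Set K)

section Congr

variable {L : Type v} [Group L] (e : K ≃* L)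

theorem index_map_iso (U : Subgroup K) : (U.map e.toMonoidHom).index = U.index :=
  Subgroup.index_map_of_bijective (f := e.toMonoidHom) e.bijective U

theorem map_congr_aut (α : MulAut L) (Y : Subgroup K)
    (h : Y.map (MulAut.congr e.symm α).toMonoidHom = Y) :
    (Y.map e.toMonoidHom).map α.toMonoidHom = Y.map e.toMonoidHom := by
  conv_rhs => rw [← h]
  rw [Subgroup.map_map, Subgroup.map_map]
  congr 1
  ext x
  simp [MulAut.congr]

theorem map_congr_aut' (α : MulAut L) (Y : Subgroup L) (h : Y.map α.toMonoidHom = Y) :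
    (Y.map e.symm.toMonoidHom).map (MulAut.congr e.symm α).toMonoidHom = Y.map e.symm.toMonoidHom := by
  conv_rhs => rw [← h]
  rw [Subgroup.map_map, Subgroup.map_map]
  congr 1
  ext x
  simp [MulAut.congr]

theorem adm_congr {p : ℕ} {U : Subgroup K} {α : MulAut L}
    (h : Adm p (U.map e.toMonoidHom) α) : Adm p U (MulAut.congr e.symm α) := by
  refine ⟨by rw [MulEquiv.orderOf_eq]; exact h.1, ?_⟩
  have h1 := map_congr_aut' e α _ h.2
  rwa [show (U.map e.toMonoidHom).map e.symm.toMonoidHom = U by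
    rw [Subgroup.map_map, show e.symm.toMonoidHom.comp e.toMonoidHom = MonoidHom.id K from
      MonoidHom.ext e.symm_apply_apply, Subgroup.map_id]] at h1

theorem Pair.map {U Y₁ Y₂ : Subgroup K} (h : Pair U Y₁ Y₂) :
    Pair (U.map e.toMonoidHom) (Y₁.map e.toMonoidHom) (Y₂.map e.toMonoidHom) := by
  have htop : (⊤ : Subgroup K).map e.toMonoidHom = ⊤ := by
    rw [← MonoidHom.range_eq_map, MonoidHom.range_eq_top]; exact e.surjective
  exact ⟨Subgroup.map_mono h.le₁, Subgroup.map_mono h.le₂,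
    fun hh => h.ne₁ (Subgroup.map_injective e.injective (hh.trans htop.symm)),
    fun hh => h.ne₂ (Subgroup.map_injective e.injective (hh.trans htop.symm)),
    by rw [← Subgroup.map_sup, h.sup, htop]⟩

theorem normalizer_map_iso (U : Subgroup K) :
    Subgroup.normalizer ((U.map e.toMonoidHom : Subgroup L) : Set L) =
      (Subgroup.normalizer (U : Set K)).map e.toMonoidHom :=
  (Subgroup.map_normalizer_eq_of_bijective U (f := e.toMonoidHom) e.bijective).symm

theorem eq_normalizer_congr {U : Subgroup K} {D : Subgroup L}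
    (hD : Subgroup.normalizer ((U.map e.toMonoidHom : Subgroup L) : Set L) ≤ D) (hne : D ≠ ⊤) :
    Subgroup.normalizer (U : Set K) ≤ D.map e.symm.toMonoidHom ∧ D.map e.symm.toMonoidHom ≠ ⊤ ∧
      (D.map e.symm.toMonoidHom = Subgroup.normalizer (U : Set K) →
        D = Subgroup.normalizer ((U.map e.toMonoidHom : Subgroup L) : Set L)) := by
  have hid : (D.map e.symm.toMonoidHom).map e.toMonoidHom = D := by
    rw [Subgroup.map_map, show e.toMonoidHom.comp e.symm.toMonoidHom = MonoidHom.id L from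
      MonoidHom.ext e.apply_symm_apply, Subgroup.map_id]
  refine ⟨?_, fun h => hne ?_, fun h => ?_⟩
  · intro x hx
    refine ⟨e x, hD ?_, e.symm_apply_apply x⟩
    rw [normalizer_map_iso]
    exact ⟨x, hx, rfl⟩
  · rw [← hid, h, ← MonoidHom.range_eq_map, MonoidHom.range_eq_top]
    exact e.surjective
  · rw [normalizer_map_iso, ← h, hid]

theorem normalizer_ne_congr {U : Subgroup K} (h : Subgroup.normalizer (U : Set K) ≠ ⊤) :
    Subgroup.normalizer ((U.map e.toMonoidHom : Subgroup L) : Set L) ≠ ⊤ := fun hh => h (by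
  rw [normalizer_map_iso] at hh
  refine top_le_iff.1 fun x _ => ?_
  obtain ⟨y, hy, hye⟩ : e x ∈ (Subgroup.normalizer (U : Set K)).map e.toMonoidHom := hh ▸ Subgroup.mem_top _
  rwa [e.injective hye] at hy)

theorem Tight.congr {p : ℕ} (h : Tight p K) (e : K ≃* L) : Tight p L := by
  obtain ⟨U, hU, hidx, hN, hD⟩ := h
  refine ⟨U.map e.toMonoidHom, hU.map _, by rwa [index_map_iso], normalizer_ne_congr e hN,
    fun D hND hne => ?_⟩
  obtain ⟨h1, h2, h3⟩ := eq_normalizer_congr e hND hne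
  exact h3 (hD _ h1 h2)

theorem Split.congr {p : ℕ} (h : Split p K) (e : K ≃* L) : Split p L := by
  obtain ⟨U, Y₁, Y₂, hU, hidx, hN, hY, hfix⟩ := h
  refine ⟨_, _, _, hU.map _, by rwa [index_map_iso], normalizer_ne_congr e hN, hY.map e, fun α hα => ?_⟩
  obtain ⟨h1, h2⟩ := hfix _ (adm_congr e hα)
  exact ⟨map_congr_aut e α _ h1, map_congr_aut e α _ h2⟩

theorem Dich.congr {p : ℕ} (h : Dich p K) (e : K ≃* L) : Dich p L := by
  obtain ⟨U, Y₁, Y₂, hU, hidx, hN, hY, hfix⟩ := h
  refine ⟨_, _, _, hU.map _, by rwa [index_map_iso], normalizer_ne_congr e hN, hY.map e, fun α hα => ?_⟩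
  rcases hfix _ (adm_congr e hα) with ⟨h1, h2⟩ | h1
  · exact Or.inl ⟨map_congr_aut e α _ h1, map_congr_aut e α _ h2⟩
  · refine Or.inr fun D hND hne hDα => ?_
    obtain ⟨g1, g2, g3⟩ := eq_normalizer_congr e hND hne
    exact g3 (h1 _ g1 g2 (map_congr_aut' e α D hDα))

end Congr

section Reduce

variable {X : Type u} [Group X] [Finite X] {p : ℕ} [Fact p.Prime] {N : Subgroup X} [N.Normal]

theorem map_conjNormal (Y : Subgroup N) (g : X) :
    (Y.map (MulAut.conjNormal (H := N) g).toMonoidHom).map N.subtype =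
      (Y.map N.subtype).map (MulAut.conj g).toMonoidHom := by
  rw [Subgroup.map_map, Subgroup.map_map]
  congr 1

theorem conjNormal_fix_iff {Y : Subgroup N} {g : X} :
    Y.map (MulAut.conjNormal (H := N) g).toMonoidHom = Y ↔
      g ∈ Subgroup.normalizer ((Y.map N.subtype : Subgroup X) : Set X) := by
  rw [← (Subgroup.map_injective N.subtype_injective).eq_iff, map_conjNormal]
  constructor
  · intro h
    rw [Subgroup.mem_normalizer_iff]
    intro x
    constructor
    · intro hx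
      rw [← h]
      exact ⟨x, hx, rfl⟩
    · intro hx
      rw [← h] at hx
      obtain ⟨y, hy, hyx⟩ := hx
      rwa [show y = x from (MulAut.conj g).injective hyx] at hy
  · intro h
    ext x
    constructor
    · rintro ⟨y, hy, rfl⟩
      exact (Subgroup.mem_normalizer_iff.1 h y).1 hy
    · intro hx
      refine ⟨g⁻¹ * x * g, ?_, by simp [mul_assoc]⟩
      exact (Subgroup.mem_normalizer_iff.1 h _).2 (by simpa [mul_assoc] using hx)

/-- The data at a Sylow subgroup of the normal subgroup. -/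
theorem main_data (hX : Cfsg.IsPMinimal p X)
    (U : Subgroup N) (hU : IsPGroup p U) (hidx : ¬ p ∣ U.index)
    (hna : Subgroup.normalizer (U : Set N) ≠ ⊤) :
    ∃ (S : Sylow p X) (M : Subgroup X), IsCoatom M ∧ (S : Subgroup X) ≤ M ∧
      U.map N.subtype ≤ S ∧
      (∀ s ∈ (S : Subgroup X), Adm p U (MulAut.conjNormal (H := N) s)) ∧
      (∀ Y : Subgroup N, U ≤ Y → Y ≠ ⊤ →
        (∀ s ∈ (S : Subgroup X), Y.map (MulAut.conjNormal (H := N) s).toMonoidHom = Y) →
          Y.map N.subtype ≤ M) ∧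
      Subgroup.normalizer ((U.map N.subtype : Subgroup X) : Set X) ≤ M ∧
      N ⊔ Subgroup.normalizer ((U.map N.subtype : Subgroup X) : Set X) = ⊤ ∧
      M.subgroupOf N ≠ ⊤ := by
  obtain ⟨S, hS⟩ := (hU.map N.subtype).exists_le_sylow
  obtain ⟨-, M, ⟨hM, hSM⟩, huniq⟩ := hX S
  have hbig : ∀ H : Subgroup X, (S : Subgroup X) ≤ H → H ≠ ⊤ → H ≤ M := fun H hH hne => by
    obtain ⟨C, hC, hHC⟩ := (eq_top_or_exists_le_coatom H).resolve_left hne
    rwa [← huniq C ⟨hC, hH.trans hHC⟩]
  -- `S ⊓ N` is `U`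
  have hSN : (S : Subgroup X).subgroupOf N = U := by
    have hp' : IsPGroup p ((S : Subgroup X).subgroupOf N) :=
      S.isPGroup'.comap_of_injective N.subtype N.subtype_injective
    have hle : U ≤ (S : Subgroup X).subgroupOf N := fun x hx => hS ⟨x, hx, rfl⟩
    let P := hU.toSylow hidx
    have := P.3 hp' hle
    exact this
  have hSU : ∀ s ∈ (S : Subgroup X), s ∈ Subgroup.normalizer ((U.map N.subtype : Subgroup X) : Set X) := by
    intro s hs
    rw [← hSN, Subgroup.subgroupOf_map_subtype, Subgroup.mem_normalizer_iff]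
    intro x
    simp only [Subgroup.mem_inf]
    constructor
    · exact fun ⟨h1, h2⟩ => ⟨mul_mem (mul_mem hs h1) (inv_mem hs), Subgroup.Normal.conj_mem ‹_› x h2 s⟩
    · intro ⟨h1, h2⟩
      refine ⟨?_, ?_⟩
      · simpa [mul_assoc] using mul_mem (mul_mem (inv_mem hs) h1) hs
      · simpa [mul_assoc] using Subgroup.Normal.conj_mem ‹_› _ h2 s⁻¹
  have hNU : Subgroup.normalizer ((U.map N.subtype : Subgroup X) : Set X) ≠ ⊤ := fun h => hna (by
    refine top_le_iff.1 fun x _ => Subgroup.mem_normalizer_iff.2 fun y => ?_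
    have := Subgroup.mem_normalizer_iff.1 (h ▸ Subgroup.mem_top (x : X)) (y : X)
    constructor
    · intro hy
      obtain ⟨z, hz, hze⟩ := this.1 ⟨y, hy, rfl⟩
      rwa [show x * y * x⁻¹ = z from Subtype.ext hze.symm]
    · intro hy
      obtain ⟨z, hz, hze⟩ := this.2 ⟨_, hy, rfl⟩
      rwa [show y = z from Subtype.ext hze.symm])
  have hNM := hbig _ hSU hNU
  have hsup : N ⊔ Subgroup.normalizer ((U.map N.subtype : Subgroup X) : Set X) = ⊤ := by
    rw [sup_comm]
    exact Sylow.normalizer_sup_eq_top (hU.toSylow hidx)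
  refine ⟨S, M, hM, hSM, hS, fun s hs => ⟨?_, conjNormal_fix_iff.2 (hSU s hs)⟩,
    fun Y hUY hY hinv => ?_, hNM, hsup, fun h => hM.1 (top_le_iff.1 ?_)⟩
  · obtain ⟨k, hk⟩ := IsPGroup.iff_orderOf.1 S.isPGroup' ⟨s, hs⟩
    rw [Subgroup.orderOf_mk] at hk
    obtain ⟨j, -, hj⟩ := (Nat.dvd_prime_pow (Fact.out : p.Prime)).1
      (hk ▸ orderOf_map_dvd (MulAut.conjNormal (H := N)) s)
    exact ⟨j, hj⟩
  · set Y' := Y.map N.subtype
    have hSY : (S : Subgroup X) ≤ Subgroup.normalizer (Y' : Set X) := fun s hs =>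
      conjNormal_fix_iff.1 (hinv s hs)
    refine le_trans le_sup_left (hbig (Y' ⊔ S) le_sup_right fun htop => hY ?_)
    rw [eq_top_iff]
    intro n _
    have hn : (n : X) ∈ ((Y' : Subgroup X) : Set X) * ((S : Subgroup X) : Set X) := by
      rw [← Subgroup.coe_mul_of_right_le_normalizer_left Y' S hSY, htop]; trivial
    obtain ⟨y, ⟨y', hy', rfl⟩, s, hs, hys⟩ := hn
    have hsN : s ∈ N := by
      have : s = ((y' : N) : X)⁻¹ * n := by rw [← hys]; simp
      rw [this]
      exact mul_mem (inv_mem y'.2) n.2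
    have hsU : (⟨s, hsN⟩ : N) ∈ U := hSN ▸ (Subgroup.mem_subgroupOf.2 hs)
    have : n = y' * ⟨s, hsN⟩ := Subtype.ext hys.symm
    rw [this]
    exact mul_mem hy' (hUY hsU)
  · rw [← hsup]
    exact sup_le (Subgroup.subgroupOf_eq_top.1 h) hNM

/-- If all of `S` fixes a generating pair, there is no such group. -/
theorem false_of_fixed {U Y₁ Y₂ : Subgroup N} (hY : Pair U Y₁ Y₂) {S : Sylow p X} {M : Subgroup X}
    (hbig : ∀ Y : Subgroup N, U ≤ Y → Y ≠ ⊤ →
        (∀ s ∈ (S : Subgroup X), Y.map (MulAut.conjNormal (H := N) s).toMonoidHom = Y) →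
          Y.map N.subtype ≤ M)
    (hMN : M.subgroupOf N ≠ ⊤)
    (hfix : ∀ s ∈ (S : Subgroup X), Y₁.map (MulAut.conjNormal (H := N) s).toMonoidHom = Y₁ ∧
      Y₂.map (MulAut.conjNormal (H := N) s).toMonoidHom = Y₂) : False := by
  refine hMN (top_le_iff.1 ?_)
  rw [← hY.sup]
  exact sup_le (Subgroup.map_le_iff_le_comap.1 (hbig _ hY.le₁ hY.ne₁ fun s hs => (hfix s hs).1))
    (Subgroup.map_le_iff_le_comap.1 (hbig _ hY.le₂ hY.ne₂ fun s hs => (hfix s hs).2))

/-- From maximality of the normalizer inside `N` to maximality in `X`. -/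
theorem coatom_of_data {U : Subgroup N} {M : Subgroup X} (hM : IsCoatom M) (hidx : ¬ p ∣ U.index)
    (hU : IsPGroup p U) (hNM : Subgroup.normalizer ((U.map N.subtype : Subgroup X) : Set X) ≤ M)
    (hD : M.subgroupOf N = Subgroup.normalizer (U : Set N)) :
    IsCoatom (Subgroup.normalizer ((U.map N.subtype : Subgroup X) : Set X)) := by
  suffices h : Subgroup.normalizer ((U.map N.subtype : Subgroup X) : Set X) = M by rwa [h]
  refine le_antisymm hNM fun m hm => ?_
  have hm' : m ∈ ((N : Subgroup X) : Set X) *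
      (Subgroup.normalizer ((U.map N.subtype : Subgroup X) : Set X) : Set X) := by
    rw [← Subgroup.normal_mul, sup_comm]
    have h : Subgroup.normalizer ((U.map N.subtype : Subgroup X) : Set X) ⊔ N = ⊤ :=
      Sylow.normalizer_sup_eq_top (hU.toSylow hidx)
    rw [h]
    trivial
  obtain ⟨n, hn, g, hg, hng⟩ := hm'
  subst hng
  refine mul_mem ?_ hg
  have hnM : n ∈ M := by simpa using mul_mem hm (inv_mem (hNM hg))
  have hn' : (⟨n, hn⟩ : N) ∈ Subgroup.normalizer (U : Set N) := hD ▸ Subgroup.mem_subgroupOf.2 hnM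
  exact Subgroup.le_normalizer_map N.subtype ⟨_, hn', rfl⟩

theorem coatom_any {U₀ : Subgroup N} (hU₀ : IsPGroup p U₀) (hidx : ¬ p ∣ U₀.index)
    (h : IsCoatom (Subgroup.normalizer ((U₀.map N.subtype : Subgroup X) : Set X))) (U : Sylow p N) :
    IsCoatom (Subgroup.normalizer (((U : Subgroup N).map N.subtype : Subgroup X) : Set X)) := by
  obtain ⟨g, hg⟩ := MulAction.exists_smul_eq N (hU₀.toSylow hidx) U
  have h1 : (U : Subgroup N).map N.subtype = (U₀.map N.subtype).map (MulAut.conj (g : X)).toMonoidHom := by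
    rw [← hg, Sylow.coe_subgroup_smul]
    ext x
    simp only [Subgroup.mem_map]
    constructor
    · rintro ⟨y, hy, rfl⟩
      rw [Subgroup.mem_pointwise_smul_iff_inv_smul_mem] at hy
      exact ⟨_, ⟨_, hy, rfl⟩, by simp [MulAut.smul_def, mul_assoc]⟩
    · rintro ⟨-, ⟨y, hy, rfl⟩, rfl⟩
      refine ⟨g * y * g⁻¹, ?_, by simp⟩
      rw [Subgroup.mem_pointwise_smul_iff_inv_smul_mem]
      simpa [MulAut.smul_def, mul_assoc] using hy
  rw [h1, ← Subgroup.map_normalizer_eq_of_bijective _ (f := (MulAut.conj (g : X)).toMonoidHom) (MulAut.conj (g : X)).bijective]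
  exact ((MulAut.conj (g : X)).mapSubgroup.isCoatom_iff _).2 h

end Reduce

end H32.PMin
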