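import Cfsg.Agent.H55.PSLBasics
import Cfsg.Agent.H17.PolarModels
import Cfsg.Agent.H37.Generation
import Cfsg.Prelude.Def_Classical

/-!
The standard flag of `F^n` and its unitriangular group.
-/

set_option autoImplicit false
set_option linter.unusedSectionVars false

namespace H32.PMin.Lin

open Matrix H55 H17.Polar

variable {n : ℕ} {F : Type*} [Field F]

/-- `SL_n` on column vectors. -/
noncomputable abbrev rho (n : ℕ) (F : Type*) [Field F] : SLn n F →* ((Fin n → F) ≃ₗ[F] (Fin n → F)) :=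
  matRep (Cfsg.slToMat n F)

theorem rho_apply (g : SLn n F) (v : Fin n → F) : rho n F g v = (g : Mat n F) *ᵥ v := rfl

theorem rho_injective : Function.Injective (rho n F) :=
  (injective_iff_map_eq_one _).2 fun _ h =>
    matRep_eq_one (toMat := Cfsg.slToMat n F) (fun _ _ e => Subtype.ext e) h

/-- The first `k` coordinates. -/
def co (k : ℕ) : Submodule F (Fin n → F) where
  carrier := {v | ∀ i : Fin n, k ≤ i.val → v i = 0}
  add_mem' {a b} ha hb i hi := by simp [ha i hi, hb i hi]
  zero_mem' i _ := rfl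
  smul_mem' c a ha i hi := by simp [ha i hi]

theorem mem_co {k : ℕ} {v : Fin n → F} : v ∈ co k ↔ ∀ i : Fin n, k ≤ i.val → v i = 0 := Iff.rfl

theorem co_mono {j k : ℕ} (h : j ≤ k) : (co j : Submodule F (Fin n → F)) ≤ co k :=
  fun _ hv i hi => hv i (h.trans hi)

theorem single_mem_co {k : ℕ} {i : Fin n} (hi : i.val < k) (c : F) :
    (Pi.single i c : Fin n → F) ∈ co k := fun j hj => by
  rw [Pi.single_eq_of_ne]
  intro e; subst e; omega

theorem single_notMem_co {k : ℕ} {i : Fin n} (hi : k ≤ i.val) :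
    (Pi.single i 1 : Fin n → F) ∉ co k := fun h => one_ne_zero (α := F) (by simpa using h i hi)

theorem co_zero : (co 0 : Submodule F (Fin n → F)) = ⊥ :=
  eq_bot_iff.2 fun v hv => (Submodule.mem_bot F).2 (funext fun i => hv i (Nat.zero_le _))

theorem co_top {k : ℕ} (hk : n ≤ k) : (co k : Submodule F (Fin n → F)) = ⊤ :=
  eq_top_iff.2 fun v _ i hi => absurd i.isLt (by omega)

theorem co_lt {j k : ℕ} (h : j < k) (hj : j < n) : (co j : Submodule F (Fin n → F)) < co k :=
  lt_of_le_of_ne (co_mono h.le) fun e =>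
    single_notMem_co (F := F) (i := ⟨j, hj⟩) le_rfl (e ▸ single_mem_co h 1)

theorem lt_of_co_lt {j k : ℕ} (h : (co j : Submodule F (Fin n → F)) < co k) : j < k := by
  by_contra hle
  exact (h.trans_le (co_mono (not_lt.1 hle))).false

/-- Transvections. -/
theorem exists_tv (c : Fin n → F) (φ : (Fin n → F) →ₗ[F] F) (h : φ c = 0) :
    ∃ g : SLn n F, ∀ v, rho n F g v = v + φ v • c := by
  set u : Fin n → F := fun j => φ (Pi.single j 1)
  have hu : ∀ v, φ v = u ⬝ᵥ v := fun v => by
    conv_lhs => rw [pi_eq_sum_univ' v]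
    simp only [map_sum, map_smul, dotProduct, u, smul_eq_mul, mul_comm]
  have hA : ∀ v, (1 + vecMulVec c u) *ᵥ v = v + φ v • c := fun v => by
    rw [add_mulVec, one_mulVec, vecMulVec_mulVec, hu]
    ext i
    simp [mul_comm]
  refine ⟨⟨1 + vecMulVec c u, ?_⟩, hA⟩
  rw [vecMulVec_eq Unit, det_one_add_replicateCol_mul_replicateRow, ← hu, h, add_zero]

/-- A tv of the flag is unitriangular. -/
theorem tv_mem_uniTri {c : Fin n → F} {φ : (Fin n → F) →ₗ[F] F} {k : ℕ} (hc : c ∈ co k)
    (hφ : ∀ v ∈ co k, φ v = 0) {g : SLn n F} (hg : ∀ v, rho n F g v = v + φ v • c) :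
    g ∈ uniTri n F := by
  have hent : ∀ i j, (g : Mat n F) i j = (1 : Mat n F) i j + φ (Pi.single j 1) * c i := fun i j => by
    have h := congrFun (hg (Pi.single j 1)) i
    rw [rho_apply, mulVec_single_one] at h
    simp only [col_apply, Pi.add_apply, Pi.smul_apply, smul_eq_mul] at h
    rw [h, one_apply, Pi.single_apply]
  have hz : ∀ i j : Fin n, j ≤ i → φ (Pi.single j 1) * c i = 0 := fun i j hij => by
    by_cases hi : i.val < k
    · rw [hφ _ (single_mem_co (lt_of_le_of_lt hij hi) 1), zero_mul]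
    · rw [hc i (not_lt.1 hi), mul_zero]
  refine mem_uniTri.2 ⟨fun i j hij => ?_, fun i => ?_⟩
  · rw [hent, hz i j hij.le, add_zero, one_apply_ne hij.ne']
  · rw [hent, hz i i le_rfl, add_zero, one_apply_eq]

theorem uni_stab {g : SLn n F} (hg : ∀ i j : Fin n, j < i → (g : Mat n F) i j = 0) (k : ℕ)
    [Finite F] : g ∈ stab (rho n F) (co k) := by
  refine act_eq_of_le _ fun v hv i hi => ?_
  rw [rho_apply, mulVec, dotProduct]
  refine Finset.sum_eq_zero fun j _ => ?_
  rcases le_or_gt k j.val with hj | hj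
  · rw [hv j hj, mul_zero]
  · rw [hg i j (Fin.lt_def.2 (by omega)), zero_mul]

theorem uniTri_le_stab [Finite F] (k : ℕ) : uniTri n F ≤ stab (rho n F) (co k) :=
  fun _ hg => uni_stab (mem_uniTri.1 hg).1 k

/-- The unitriangular group stabilises the standard flag only. -/
theorem eq_co_of_invariant [Finite F] {W : Submodule F (Fin n → F)}
    (hW : uniTri n F ≤ stab (rho n F) W) : ∃ k ≤ n, W = co k := by
  classical
  have hex : ∃ k ≤ n, W ≤ co k := ⟨n, le_rfl, (co_top (F := F) le_rfl).symm ▸ le_top⟩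
  have hs := Nat.find_spec hex
  set k := Nat.find hex with hk
  refine ⟨k, hs.1, le_antisymm hs.2 ?_⟩
  rcases Nat.eq_zero_or_pos k with h0 | h0
  · rw [h0, co_zero]; exact bot_le
  have hkn : k - 1 < n := by omega
  set i₀ : Fin n := ⟨k - 1, hkn⟩
  obtain ⟨z, hzW, hz⟩ : ∃ z ∈ W, z i₀ ≠ 0 := by
    by_contra hne
    push Not at hne
    have : W ≤ co (k - 1) := fun v hv i hi => by
      rcases eq_or_lt_of_le hi with e | e
      · rw [show i = i₀ from Fin.ext e.symm, hne v hv]
      · exact hs.2 hv i (by omega)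
    exact absurd (Nat.find_min' hex ⟨by omega, this⟩) (by omega)
  have hlow : co (k - 1) ≤ W := fun c hc => by
    have hci : c i₀ = 0 := hc i₀ le_rfl
    obtain ⟨g, hg⟩ := exists_tv c (LinearMap.proj i₀) hci
    have hgU := tv_mem_uniTri hc (fun v hv => hv i₀ le_rfl) hg
    have h1 : rho n F g z ∈ W := by
      have := hW hgU
      rw [mem_stab] at this
      exact this ▸ (mem_act _).2 ⟨z, hzW, rfl⟩
    rw [hg] at h1
    have h2 := W.smul_mem (z i₀)⁻¹ (W.sub_mem h1 hzW)
    rwa [add_sub_cancel_left, LinearMap.proj_apply, smul_smul, inv_mul_cancel₀ hz, one_smul] at h2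
  intro v hv
  set t : F := v i₀ / z i₀
  have h1 : v - t • z ∈ co (k - 1) := fun i hi => by
    rcases eq_or_lt_of_le hi with e | e
    · rw [show i = i₀ from Fin.ext e.symm]
      simp [t, hz]
    · simp [hv i (by omega), hs.2 hzW i (by omega)]
  simpa using W.add_mem (hlow h1) (W.smul_mem t hzW)

/-- A subgroup with all transvections is everything. -/
theorem eq_top_of_tv {D : Subgroup (SLn n F)}
    (h : ∀ (c : Fin n → F) (φ : (Fin n → F) →ₗ[F] F), φ c = 0 →
      ∀ g : SLn n F, (∀ v, rho n F g v = v + φ v • c) → g ∈ D) : D = ⊤ :=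
  H37.eq_top_of_transvection_mem D fun i j hij c =>
    h (Pi.single i c) (LinearMap.proj j) (by simp [Pi.single_eq_of_ne hij.symm]) _ fun v => by
      rw [rho_apply]
      show (1 + Matrix.single i j c) *ᵥ v = _
      rw [add_mulVec, one_mulVec, single_mulVec]
      congr 1
      ext l
      by_cases hl : l = i
      · subst hl; simp [mul_comm]
      · simp [hl]

theorem rho_conj (g h : SLn n F) (v : Fin n → F) :
    rho n F (g * h * g⁻¹) v = rho n F g (rho n F h (rho n F g⁻¹ v)) := by
  rw [map_mul, map_mul]; rfl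

theorem rho_inv (g : SLn n F) (v : Fin n → F) : rho n F g⁻¹ (rho n F g v) = v := by
  rw [← LinearEquiv.mul_apply, ← map_mul, inv_mul_cancel, map_one]; rfl

/-- The centres of all transvection groups reachable inside `D`. -/
theorem tv_transport {D : Subgroup (SLn n F)} {x : Fin n → F}
    (hD : ∀ (φ : (Fin n → F) →ₗ[F] F), φ x = 0 →
      ∀ g : SLn n F, (∀ v, rho n F g v = v + φ v • x) → g ∈ D)
    (hmove : ∀ c : Fin n → F, c ≠ 0 → ∃ d ∈ D, ∃ a : F, rho n F d x = a • c ∧ a ≠ 0) : D = ⊤ := by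
  refine eq_top_of_tv fun c φ hφ g hg => ?_
  by_cases hc : c = 0
  · have : g = 1 := rho_injective (LinearEquiv.ext fun v => by simp [hg, hc, map_one])
    rw [this]; exact one_mem D
  obtain ⟨d, hd, a, hda, ha⟩ := hmove c hc
  have key : d⁻¹ * g * d ∈ D := by
    refine hD (a⁻¹ • φ.comp (rho n F d : (Fin n → F) →ₗ[F] (Fin n → F))) ?_ _ fun v => ?_
    · simp [hda, hφ]
    · rw [map_mul, map_mul]
      show rho n F d⁻¹ (rho n F g (rho n F d v)) = _
      rw [hg, map_add, map_smul, rho_inv]
      have : rho n F d⁻¹ c = a⁻¹ • x := by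
        have h := congrArg (rho n F d⁻¹) hda
        rw [rho_inv, map_smul] at h
        rw [h, smul_smul, inv_mul_cancel₀ ha, one_smul]
      rw [this]
      simp [smul_smul, mul_comm]
  have := mul_mem (mul_mem hd key) (inv_mem hd)
  simpa [mul_assoc] using this

end H32.PMin.Lin
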