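import Cfsg.Agent.H32.PMin.Main
import Cfsg.Agent.H32.PMin.LinearBase
import Cfsg.Agent.H55.PSLAut

/-!
`PSL_n`, `n ≥ 3`: parabolic overgroups of the unitriangular group.
-/

set_option autoImplicit false
set_option linter.unusedSectionVars false
set_option linter.style.haveILetI false

namespace H32.PMin.Lin

open Matrix H55 H17.Polar

variable {n : ℕ} {F : Type*} [Field F] [Fintype F]

/-- The stabiliser in `PSL_n` of a subspace. -/
noncomputable def St (W : Submodule F (Fin n → F)) : Subgroup (PSLn n F) :=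
  (stab (rho n F) W).map pmk

theorem center_le_stab {z : SLn n F} (hz : pmk z = 1) (W : Submodule F (Fin n → F)) :
    z ∈ stab (rho n F) W := by
  obtain ⟨c, hc, hc'⟩ := pmk_eq_iff.1 (show pmk (1 : SLn n F) = pmk z by rw [map_one, hz])
  refine act_eq_of_le _ fun v hv => ?_
  rw [rho_apply, hc', Matrix.SpecialLinearGroup.coe_one, smul_mulVec, one_mulVec]
  exact W.smul_mem c hv

theorem comap_St (W : Submodule F (Fin n → F)) : (St W).comap pmk = stab (rho n F) W := by
  refine le_antisymm (fun g hg => ?_) (Subgroup.le_comap_map _ _)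
  obtain ⟨s, hs, hsg⟩ := hg
  have h := center_le_stab (z := g * s⁻¹) (by rw [map_mul, map_inv, hsg, mul_inv_cancel]) W
  have := mul_mem h hs
  rwa [inv_mul_cancel_right] at this

theorem uniTriP_le_St (k : ℕ) : uniTriP n F ≤ St (co k) := Subgroup.map_mono (uniTri_le_stab k)

theorem le_stab_of_le_St {W : Submodule F (Fin n → F)} (h : uniTriP n F ≤ St W) :
    uniTri n F ≤ stab (rho n F) W := by
  rw [← comap_St]
  exact Subgroup.map_le_iff_le_comap.1 h

theorem exists_not_mem_stab {k : ℕ} (hk : 1 ≤ k) (hkn : k < n) :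
    ∃ g : SLn n F, g ∉ stab (rho n F) (co k) := by
  set a : Fin n := ⟨0, by omega⟩
  set b : Fin n := ⟨n - 1, by omega⟩
  have hab : (b : ℕ) ≠ a := by show n - 1 ≠ 0; omega
  obtain ⟨g, hg⟩ := exists_tv (F := F) (Pi.single b 1) (LinearMap.proj a)
    (by simp [Pi.single_eq_of_ne (show a ≠ b from fun e => hab (congrArg Fin.val e.symm))])
  refine ⟨g, fun hgs => ?_⟩
  have h1 : rho n F g (Pi.single a 1) ∈ co k := by
    rw [mem_stab] at hgs
    exact hgs ▸ (mem_act _).2 ⟨_, single_mem_co (show a.val < k from hk) 1, rfl⟩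
  have h2 := h1 b (show k ≤ n - 1 by omega)
  rw [hg] at h2
  simp [Pi.single_eq_of_ne (show b ≠ a from fun e => hab (congrArg Fin.val e))] at h2

theorem St_ne_top {k : ℕ} (hk : 1 ≤ k) (hkn : k < n) : St (co k : Submodule F (Fin n → F)) ≠ ⊤ := by
  intro h
  obtain ⟨g, hg⟩ := exists_not_mem_stab (F := F) hk hkn
  rw [← comap_St, h] at hg
  exact hg (Subgroup.mem_top _)

theorem sylow_data {p : ℕ} [Fact p.Prime] [CharP F p] (hn : 2 ≤ n) :
    IsPGroup p (uniTriP n F) ∧ ¬ p ∣ (uniTriP n F).index ∧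
      Subgroup.normalizer (uniTriP n F : Set (PSLn n F)) ≠ ⊤ := by
  refine ⟨isPGroup_uniTri.map _, fun h => not_dvd_index_uniTri (n := n) (F := F) (p := p)
    (h.trans (Subgroup.index_map_dvd _ pmk_surjective)), fun h => ?_⟩
  have hnorm : (uniTriP n F).Normal := Subgroup.normalizer_eq_top_iff.1 h
  -- a normal subgroup inside the stabiliser of a point fixes every point
  set a : Fin n := ⟨0, by omega⟩
  set b : Fin n := ⟨n - 1, by omega⟩
  have hab : a ≠ b := fun e => by
    have := congrArg Fin.val e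
    change (0 : ℕ) = n - 1 at this
    omega
  obtain ⟨u, hu⟩ := exists_tv (F := F) (Pi.single a 1) (LinearMap.proj b) (by simp [Pi.single_eq_of_ne hab.symm])
  have huU : u ∈ uniTri n F := tv_mem_uniTri (k := 1) (single_mem_co (by show 0 < 1; omega) 1)
    (fun v hv => hv b (by show 1 ≤ n - 1; omega)) hu
  obtain ⟨g, hg⟩ := exists_tv (F := F) (Pi.single b 1) (LinearMap.proj a) (by simp [Pi.single_eq_of_ne hab])
  have h1 : pmk (g⁻¹ * u * g) ∈ St (co 1) := uniTriP_le_St 1 (by
    rw [map_mul, map_mul, map_inv]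
    simpa using hnorm.conj_mem (pmk u) ⟨u, huU, rfl⟩ (pmk g)⁻¹)
  have h2 : g⁻¹ * u * g ∈ stab (rho n F) (co 1) := by
    rw [← comap_St]; exact h1
  rw [mem_stab] at h2
  have h3 : rho n F (g⁻¹ * u * g) (Pi.single a 1) ∈ co 1 :=
    h2 ▸ (mem_act _).2 ⟨_, single_mem_co (show a.val < 1 from Nat.zero_lt_one) 1, rfl⟩
  set e := (Pi.single a 1 : Fin n → F)
  set f := (Pi.single b 1 : Fin n → F)
  have hea : e a = 1 := by simp [e]
  have heb : e b = 0 := by simp [e, Pi.single_eq_of_ne hab.symm]
  have hfa : f a = 0 := by simp [f, Pi.single_eq_of_ne hab]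
  have hfb : f b = 1 := by simp [f]
  have hginv : ∀ v, rho n F g⁻¹ v = v - v a • f := fun v => by
    apply (rho n F g).injective
    rw [← LinearEquiv.mul_apply, ← map_mul, mul_inv_cancel, map_one, hg]
    simp [hfa]
  have h4 := h3 b (show 1 ≤ n - 1 by omega)
  rw [map_mul, map_mul] at h4
  simp only [LinearEquiv.mul_apply, hg, hu, hginv, LinearMap.proj_apply, Pi.add_apply, Pi.sub_apply,
    Pi.smul_apply, smul_eq_mul, hea, heb, hfa, hfb, map_add, map_smul] at h4
  simp at h4

/-- Moving within a level of the flag. -/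
theorem move_level {k : ℕ} {z c : Fin n → F} (hz : z ∈ co k) (hc : c ∈ co k) {i : Fin n}
    (hi : i.val + 1 = k) (hzi : z i ≠ 0) (hci : c i ≠ 0) :
    ∃ u ∈ uniTri n F, ∃ a : F, a ≠ 0 ∧ rho n F u z = a • c := by
  obtain ⟨u, hu⟩ := exists_tv ((z i / c i) • c - z) ((z i)⁻¹ • LinearMap.proj i)
    (by simp [div_mul_cancel₀ _ hci])
  refine ⟨u, tv_mem_uniTri (k := i.val) (fun j hj => ?_) (fun v hv => ?_) hu, z i / c i,
    div_ne_zero hzi hci, by simp [hu, inv_mul_cancel₀ hzi]⟩
  · rcases eq_or_lt_of_le hj with e | e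
    · rw [show j = i from Fin.ext e.symm]; simp [div_mul_cancel₀ _ hci]
    · simp [hz j (by omega), hc j (by omega)]
  · simp [hv i le_rfl]

/-- The lines reachable from the first one. -/
def Reach (D : Subgroup (SLn n F)) (c : Fin n → F) : Prop :=
  ∃ d ∈ D, ∃ a : F, ∀ e : Fin n, e.val = 0 → rho n F d (Pi.single e 1) = a • c ∧ a ≠ 0

theorem reach_mul {D : Subgroup (SLn n F)} {c c' : Fin n → F} (hc : Reach D c) {u : SLn n F}
    (hu : u ∈ D) {b : F} (hb : b ≠ 0) (h : rho n F u c = b • c') : Reach D c' := by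
  obtain ⟨d, hd, a, ha⟩ := hc
  refine ⟨u * d, mul_mem hu hd, a * b, fun e he => ?_⟩
  obtain ⟨h1, h2⟩ := ha e he
  exact ⟨by rw [map_mul, LinearEquiv.mul_apply, h1, map_smul, h, smul_smul], mul_ne_zero h2 hb⟩

theorem reach_level {D : Subgroup (SLn n F)} (hUD : uniTri n F ≤ D) {k : ℕ} {z c : Fin n → F}
    (hr : Reach D z) (hz : z ∈ co k) (hc : c ∈ co k) {i : Fin n} (hi : i.val + 1 = k)
    (hzi : z i ≠ 0) (hci : c i ≠ 0) : Reach D c := by
  obtain ⟨u, hu, a, ha, h⟩ := move_level hz hc hi hzi hci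
  exact reach_mul hr (hUD hu) ha h

theorem reach_start {D : Subgroup (SLn n F)} {e : Fin n} (he : e.val = 0) :
    Reach D (Pi.single e 1) :=
  ⟨1, one_mem D, 1, fun e' he' => ⟨by
    rw [map_one, one_smul, show e' = e from Fin.ext (he'.trans he.symm)]; rfl, one_ne_zero⟩⟩

theorem top_of_reach (hn : 2 ≤ n) {D : Subgroup (SLn n F)} (hUD : uniTri n F ≤ D)
    (hlev : ∀ i : Fin n, ∃ z, Reach D z ∧ z ∈ co (i.val + 1) ∧ z i ≠ 0) : D = ⊤ := by
  classical
  set e : Fin n := ⟨0, by omega⟩
  refine tv_transport (x := Pi.single e 1) (fun φ hφ g hg => hUD (tv_mem_uniTri (k := 1)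
    (single_mem_co (show (e : ℕ) < 1 from Nat.zero_lt_one) 1) (fun v hv => ?_) hg)) fun c hc => ?_
  · have : v = v e • (Pi.single e 1 : Fin n → F) := funext fun j => by
      by_cases hj : j = e
      · subst hj; simp
      · have : 1 ≤ j.val := Nat.one_le_iff_ne_zero.2 fun h => hj (Fin.ext h)
        simp [hv j this, Pi.single_eq_of_ne hj]
    rw [this, map_smul, hφ, smul_zero]
  obtain ⟨i₀, hi₀⟩ := Function.ne_iff.1 hc
  obtain ⟨i, hi, hmax⟩ := (Finset.univ.filter fun i => c i ≠ 0).exists_max_image id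
    ⟨i₀, by simpa using hi₀⟩
  obtain ⟨z, hr, hz, hzi⟩ := hlev i
  obtain ⟨d, hd, a, ha⟩ := reach_level hUD hr hz (c := c) (fun j hj => by
    by_contra hj'
    have := hmax j (by simpa using hj')
    simp only [id_eq, Fin.le_def] at this
    omega) rfl hzi (by simpa using hi)
  exact ⟨d, hd, a, ha e rfl⟩

/-- The orthogonal of a subspace for the dot product. -/
def orth (W : Submodule F (Fin n → F)) : Submodule F (Fin n → F) where
  carrier := {v | ∀ w ∈ W, w ⬝ᵥ v = 0}
  add_mem' {a b} ha hb w hw := by rw [dotProduct_add, ha w hw, hb w hw, add_zero]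
  zero_mem' w _ := dotProduct_zero w
  smul_mem' c a ha w hw := by rw [dotProduct_smul, ha w hw, smul_zero]

theorem orth_strictAnti : StrictAnti (orth : Submodule F (Fin n → F) → _) := by
  intro W W' h
  refine lt_of_le_of_ne (fun v hv w hw => hv w (h.le hw)) fun e => ?_
  obtain ⟨y, hy', hy⟩ := SetLike.exists_of_lt h
  obtain ⟨φ, hφy, hφW⟩ := Submodule.exists_dual_map_eq_bot_of_notMem hy inferInstance
  set u : Fin n → F := fun j => φ (Pi.single j 1)
  have hu : ∀ v, φ v = v ⬝ᵥ u := fun v => by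
    conv_lhs => rw [pi_eq_sum_univ' v]
    simp only [map_sum, map_smul, dotProduct, u, smul_eq_mul]
  have h1 : u ∈ orth W := fun w hw => by
    have : φ w ∈ W.map φ := Submodule.mem_map_of_mem hw
    rwa [hφW, Submodule.mem_bot, hu] at this
  rw [← e] at h1
  exact hφy (by rw [hu]; exact h1 y hy')

/-- The image under a field automorphism. -/
def fieldImg (σ : F ≃+* F) (W : Submodule F (Fin n → F)) : Submodule F (Fin n → F) where
  carrier := {v | (fun i => σ.symm (v i)) ∈ W}
  add_mem' {a b} ha hb := by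
    have := W.add_mem ha hb
    simpa [Pi.add_def] using this
  zero_mem' := by
    show (fun i => σ.symm ((0 : Fin n → F) i)) ∈ W
    convert W.zero_mem
    simp
  smul_mem' c a ha := by
    have := W.smul_mem (σ.symm c) ha
    simpa [Pi.smul_def] using this

theorem fieldImg_strictMono (σ : F ≃+* F) :
    StrictMono (fieldImg σ : Submodule F (Fin n → F) → _) := by
  intro W W' h
  refine lt_of_le_of_ne (fun v hv => h.le hv) fun e => ?_
  obtain ⟨y, hy', hy⟩ := SetLike.exists_of_lt h
  have : (fun i => σ (y i)) ∈ fieldImg σ W' := by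
    show (fun i => σ.symm (σ (y i))) ∈ W'
    simpa using hy'
  rw [← e] at this
  change (fun i => σ.symm (σ (y i))) ∈ W at this
  exact hy (by simpa using this)

/-- An automorphism carrying stabilisers along `f`. -/
def Carries (α : MulAut (PSLn n F)) (f : Submodule F (Fin n → F) → Submodule F (Fin n → F)) : Prop :=
  ∀ W, (St W).map α.toMonoidHom ≤ St (f W)

theorem Carries.mul {α β : MulAut (PSLn n F)} {f g} (ha : Carries α f) (hb : Carries β g) :
    Carries (α * β) (f ∘ g) := fun W => by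
  rintro _ ⟨x, hx, rfl⟩
  exact ha _ ⟨β x, hb W ⟨x, hx, rfl⟩, rfl⟩

theorem carries_centre {β : MulAut (SLn n F)} {f : Submodule F (Fin n → F) → Submodule F (Fin n → F)}
    (h : ∀ W s, s ∈ stab (rho n F) W → ∀ v ∈ f W, rho n F (β s) v ∈ f W) :
    Carries (pslAut β) f := fun W => by
  rintro _ ⟨_, ⟨s, hs, rfl⟩, rfl⟩
  exact ⟨β s, act_eq_of_le _ (h W s hs), (pslAut_pmk β s).symm⟩

theorem stab_apply {W : Submodule F (Fin n → F)} {s : SLn n F} (hs : s ∈ stab (rho n F) W)
    {v : Fin n → F} (hv : v ∈ W) : rho n F s v ∈ W := by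
  rw [mem_stab] at hs
  exact hs ▸ (mem_act _).2 ⟨v, hv, rfl⟩

theorem carries_conjP (g : GL (Fin n) F) :
    Carries (conjP g) (fun W => W.map (g : Mat n F).mulVecLin) :=
  carries_centre (β := conjSL g) fun W s hs => by
    rintro _ ⟨w, hw, rfl⟩
    refine ⟨_, stab_apply hs hw, ?_⟩
    simp only [mulVecLin_apply, rho_apply, coe_conjSL, mulVec_mulVec]
    rw [mul_assoc _ _ (g : Mat n F), GL_inv_mul, mul_one]

theorem carries_fieldP (σ : F ≃+* F) : Carries (fieldP σ) (fieldImg (n := n) σ) :=
  carries_centre (β := fieldSL σ) fun W s hs v hv => by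
    have h := stab_apply hs hv
    show (fun i => σ.symm ((rho n F (fieldSL σ s) v) i)) ∈ W
    convert h using 1
    funext i
    simp [rho_apply, mulVec, dotProduct]

theorem carries_iotaP : Carries (iotaP : MulAut (PSLn n F)) (orth (n := n)) :=
  carries_centre (β := iotaSL) fun W s hs v hv w hw => by
    rw [rho_apply, coe_iotaSL, dotProduct_mulVec, vecMul_transpose]
    exact hv _ (stab_apply (inv_mem hs) hw)

theorem carries_one : Carries (1 : MulAut (PSLn n F)) id := fun W => by
  rintro _ ⟨x, hx, rfl⟩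
  exact hx

theorem exists_carries (hn : 2 ≤ n) (α : MulAut (PSLn n F)) :
    ∃ f, Carries α f ∧ (StrictMono f ∨ StrictAnti f) := by
  obtain ⟨g, σ, γ, hγ, rfl⟩ := aut_PSL hn α
  have hm : StrictMono fun W : Submodule F (Fin n → F) => W.map (g : Mat n F).mulVecLin :=
    Submodule.map_strictMono_of_injective fun v w h => by
      simp only [mulVecLin_apply] at h
      have := congrArg (fun x => ((g⁻¹ : GL (Fin n) F) : Mat n F) *ᵥ x) h
      simpa [mulVec_mulVec, GL_inv_mul] using this
  rcases hγ with rfl | ⟨-, rfl⟩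
  · exact ⟨_, ((carries_conjP g).mul (carries_fieldP σ)).mul carries_one,
      Or.inl ((hm.comp (fieldImg_strictMono σ)).comp strictMono_id)⟩
  · exact ⟨_, ((carries_conjP g).mul (carries_fieldP σ)).mul carries_iotaP,
      Or.inr ((hm.comp (fieldImg_strictMono σ)).comp_strictAnti orth_strictAnti)⟩

theorem index_lemma {m : ℕ} {h : ℕ → ℕ} (hb : ∀ k ≤ m, h k ≤ m)
    (hm : ∀ j k, j < k → k ≤ m → h j < h k) : ∀ k ≤ m, h k = k := by
  have h1 : ∀ k ≤ m, k ≤ h k := by
    intro k
    induction k with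
    | zero => intro _; exact Nat.zero_le _
    | succ k ih =>
      intro hk
      have := hm k (k + 1) (by omega) hk
      have := ih (by omega)
      omega
  have h2 : ∀ d, d ≤ m → h (m - d) ≤ m - d := by
    intro d
    induction d with
    | zero => intro _; simpa using hb m le_rfl
    | succ d ih =>
      intro hd
      have := hm (m - (d + 1)) (m - d) (by omega) (by omega)
      have := ih (by omega)
      omega
  intro k hk
  have := h2 (m - k) (by omega)
  rw [show m - (m - k) = k by omega] at this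
  have := h1 k hk
  omega

/-- An automorphism fixing the Sylow subgroup fixes or reverses the flag. -/
theorem flag_image (hn : 2 ≤ n) {α : MulAut (PSLn n F)}
    (hα : (uniTriP n F).map α.toMonoidHom = uniTriP n F) :
    (∀ k ≤ n, (St (co k)).map α.toMonoidHom ≤ St (co k : Submodule F (Fin n → F))) ∨
      ∀ k ≤ n, (St (co k)).map α.toMonoidHom ≤ St (co (n - k) : Submodule F (Fin n → F)) := by
  obtain ⟨f, hf, hmono⟩ := exists_carries hn α
  have hex : ∀ k, ∃ j ≤ n, f (co k) = co j := fun k =>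
    eq_co_of_invariant (le_stab_of_le_St (hα ▸ (Subgroup.map_mono (uniTriP_le_St k)).trans (hf _)))
  choose h hh hfh using hex
  rcases hmono with hm | hm
  · refine Or.inl fun k hk => ?_
    have := index_lemma (m := n) (h := h) (fun k _ => hh k)
      (fun j k hjk hkn => lt_of_co_lt (F := F) (n := n) (hfh j ▸ hfh k ▸ hm (co_lt hjk (by omega)))) k hk
    simpa [hfh, this] using hf (co k)
  · refine Or.inr fun k hk => ?_
    have := index_lemma (m := n) (h := fun k => n - h k) (fun k _ => Nat.sub_le _ _)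
      (fun j k hjk hkn => by
        have := lt_of_co_lt (F := F) (n := n) (hfh j ▸ hfh k ▸ hm (co_lt hjk (by omega)))
        have := hh j
        show n - h j < n - h k
        omega) k hk
    change n - h k = k at this
    have h2 : h k = n - k := by have := hh k; omega
    simpa [hfh, h2] using hf (co k)

theorem map_inf_eq {α : MulAut (PSLn n F)} {A B : Submodule F (Fin n → F)}
    (hA : (St A).map α.toMonoidHom ≤ St A ∧ (St B).map α.toMonoidHom ≤ St B ∨
      (St A).map α.toMonoidHom ≤ St B ∧ (St B).map α.toMonoidHom ≤ St A) :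
    (St A ⊓ St B).map α.toMonoidHom = St A ⊓ St B := by
  refine Subgroup.eq_of_le_of_card_ge ?_
    (Subgroup.card_map_of_injective (f := α.toMonoidHom) α.injective).ge
  rw [Subgroup.map_inf _ _ _ α.injective]
  rcases hA with ⟨h1, h2⟩ | ⟨h1, h2⟩
  · exact inf_le_inf h1 h2
  · exact le_inf (inf_le_right.trans h2) (inf_le_left.trans h1)

/-- `PSL_n`, `n ≥ 4`. -/
theorem split_psl {p : ℕ} [Fact p.Prime] [CharP F p] (hn : 4 ≤ n) : Split p (PSLn n F) := by
  obtain ⟨h1, h2, h3⟩ := sylow_data (F := F) (n := n) (p := p) (by omega)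
  set Y₁ := St (co 1 : Submodule F (Fin n → F)) ⊓ St (co (n - 1))
  set Y₂ := St (co 2 : Submodule F (Fin n → F)) ⊓ St (co (n - 2))
  refine ⟨uniTriP n F, Y₁, Y₂, h1, h2, h3, ⟨le_inf (uniTriP_le_St _) (uniTriP_le_St _),
    le_inf (uniTriP_le_St _) (uniTriP_le_St _),
    fun h => St_ne_top (F := F) (n := n) le_rfl (by omega) (top_le_iff.1 (h ▸ inf_le_left)),
    fun h => St_ne_top (F := F) (n := n) (k := 2) (by omega) (by omega) (top_le_iff.1 (h ▸ inf_le_left)),
    ?_⟩, fun α hα => ?_⟩
  · set D := (Y₁ ⊔ Y₂).comap pmk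
    have hY1 : ∀ s, s ∈ stab (rho n F) (co 1) → s ∈ stab (rho n F) (co (n - 1)) → s ∈ D := fun s a b =>
      Subgroup.mem_sup_left (show pmk s ∈ Y₁ from ⟨⟨s, a, rfl⟩, ⟨s, b, rfl⟩⟩)
    have hY2 : ∀ s, s ∈ stab (rho n F) (co 2) → s ∈ stab (rho n F) (co (n - 2)) → s ∈ D := fun s a b =>
      Subgroup.mem_sup_right (show pmk s ∈ Y₂ from ⟨⟨s, a, rfl⟩, ⟨s, b, rfl⟩⟩)
    have hUD : uniTri n F ≤ D := fun u hu => hY1 u (uniTri_le_stab _ hu) (uniTri_le_stab _ hu)
    set e0 : Fin n := ⟨0, by omega⟩
    set e1 : Fin n := ⟨1, by omega⟩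
    set eL : Fin n := ⟨n - 1, by omega⟩
    set eP : Fin n := ⟨n - 2, by omega⟩
    -- the second point
    obtain ⟨g, hg⟩ := exists_tv (F := F) (Pi.single e1 1) (LinearMap.proj e0)
      (by simp [Pi.single_eq_of_ne (show e0 ≠ e1 by simp [e0, e1])])
    have hgs : ∀ k, 2 ≤ k → g ∈ stab (rho n F) (co k) := fun k hk => act_eq_of_le _ fun v hv => by
      rw [hg]
      exact Submodule.add_mem _ hv (Submodule.smul_mem _ _ (single_mem_co (show 1 < k by omega) 1))
    have r2 : Reach D (Pi.single e1 1) := by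
      have hr : Reach D (Pi.single e0 1 + Pi.single e1 1) :=
        reach_mul (reach_start (e := e0) rfl) (hY2 g (hgs 2 le_rfl) (hgs (n - 2) (by omega))) one_ne_zero
          (by simp [hg])
      refine reach_level hUD (k := 2) (i := e1) hr ?_ (single_mem_co Nat.one_lt_two 1) rfl ?_ (by simp)
      · exact add_mem (single_mem_co Nat.zero_lt_two 1) (single_mem_co Nat.one_lt_two 1)
      · simp [e0, e1]
    -- inside the hyperplane
    have rk : ∀ i : Fin n, 1 ≤ i.val → i.val ≤ n - 2 → Reach D (Pi.single i 1) := by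
      intro i hi1 hi2
      by_cases hi : i = e1
      · rw [hi]; exact r2
      obtain ⟨g, hg⟩ := exists_tv (F := F) (Pi.single i 1) (LinearMap.proj e1)
        (by simp [Pi.single_eq_of_ne (Ne.symm hi)])
      have ha : g ∈ stab (rho n F) (co 1) := act_eq_of_le _ fun v hv => by
        rw [hg, LinearMap.proj_apply, hv e1 le_rfl, zero_smul, add_zero]; exact hv
      have hb : g ∈ stab (rho n F) (co (n - 1)) := act_eq_of_le _ fun v hv => by
        rw [hg]
        exact Submodule.add_mem _ hv (Submodule.smul_mem _ _ (single_mem_co (by omega) 1))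
      have hlt : 1 < i.val := lt_of_le_of_ne hi1 fun e => hi (Fin.ext e.symm)
      refine reach_level hUD (k := i.val + 1) (i := i)
        (reach_mul r2 (hY1 g ha hb) one_ne_zero (c' := Pi.single e1 1 + Pi.single i 1) (by simp [hg]))
        ?_ (single_mem_co (Nat.lt_succ_self _) 1) rfl ?_ (by simp)
      · exact add_mem (single_mem_co (show 1 < i.val + 1 by omega) 1)
          (single_mem_co (Nat.lt_succ_self _) 1)
      · simp [Pi.single_eq_of_ne hi]
    have rL : Reach D (Pi.single eP 1 + Pi.single eL 1) := by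
      have hne : eP ≠ eL := fun e => by
        have : n - 2 = n - 1 := congrArg Fin.val e
        omega
      obtain ⟨g, hg⟩ := exists_tv (F := F) (Pi.single eL 1) (LinearMap.proj eP)
        (by simp [Pi.single_eq_of_ne hne])
      have ha : ∀ k ≤ n - 2, g ∈ stab (rho n F) (co k) := fun k hk => act_eq_of_le _ fun v hv => by
        rw [hg, LinearMap.proj_apply, hv eP hk, zero_smul, add_zero]; exact hv
      exact reach_mul (rk eP (by show 1 ≤ n - 2; omega) le_rfl)
        (hY2 g (ha 2 (by omega)) (ha (n - 2) le_rfl)) one_ne_zero (by simp [hg])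
    have hD : D = ⊤ := top_of_reach (by omega) hUD fun i => by
      rcases Nat.eq_zero_or_pos i.val with hi | hi
      · exact ⟨_, reach_start hi, single_mem_co (Nat.lt_succ_self _) 1, by simp⟩
      by_cases hi2 : i.val ≤ n - 2
      · exact ⟨_, rk i hi hi2, single_mem_co (Nat.lt_succ_self _) 1, by simp⟩
      · have e : i = eL := Fin.ext (show i.val = n - 1 by omega)
        refine ⟨_, rL, fun j hj => absurd j.isLt (by omega), ?_⟩
        subst e
        simp [Pi.single_eq_of_ne (show eL ≠ eP from fun e => by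
          have : n - 1 = n - 2 := congrArg Fin.val e
          omega)]
    refine top_le_iff.1 fun x _ => ?_
    obtain ⟨s, rfl⟩ := pmk_surjective x
    exact (hD ▸ Subgroup.mem_top s : s ∈ D)
  · rcases flag_image (by omega) hα.2 with h | h
    · exact ⟨map_inf_eq (Or.inl ⟨h 1 (by omega), h _ (by omega)⟩),
        map_inf_eq (Or.inl ⟨h 2 (by omega), h _ (by omega)⟩)⟩
    · refine ⟨map_inf_eq (Or.inr ⟨h 1 (by omega), ?_⟩), map_inf_eq (Or.inr ⟨h 2 (by omega), ?_⟩)⟩
      · have := h (n - 1) (by omega)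
        rwa [show n - (n - 1) = 1 by omega] at this
      · have := h (n - 2) (by omega)
        rwa [show n - (n - 2) = 2 by omega] at this

theorem mem_uniTri_iff_flag {u : SLn n F} :
    u ∈ uniTri n F ↔ ∀ (i : Fin n) (v : Fin n → F), v ∈ co (i.val + 1) →
      rho n F u v - v ∈ co i.val := by
  constructor
  · intro hu i v hv j hj
    obtain ⟨h1, h2⟩ := mem_uniTri.1 hu
    rw [Pi.sub_apply, rho_apply, mulVec, dotProduct, Finset.sum_eq_single j]
    · rw [h2, one_mul, sub_self]
    · intro b _ hb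
      rcases lt_or_gt_of_ne hb with hlt | hgt
      · rw [h1 j b hlt, zero_mul]
      · rw [hv b (by rw [Fin.lt_def] at hgt; omega), mul_zero]
    · simp
  · intro h
    have key : ∀ i j : Fin n, j ≤ i → (u : Mat n F) i j = (1 : Mat n F) i j := fun i j hij => by
      have := h j (Pi.single j 1) (single_mem_co (Nat.lt_succ_self _) 1) i hij
      rw [Pi.sub_apply, rho_apply, mulVec_single_one, sub_eq_zero, col_apply] at this
      rw [this, one_apply, Pi.single_apply]
    exact mem_uniTri.2 ⟨fun i j hij => by rw [key i j hij.le, one_apply_ne hij.ne'],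
      fun i => by rw [key i i le_rfl, one_apply_eq]⟩

/-- `PSL₃`: exactly two maximal overgroups. -/
theorem twoOver_psl3 :
    TwoOver (uniTriP 3 F) (St (co 1)) (St (co 2)) := by
  classical
  have key : ∀ D : Subgroup (SLn 3 F), uniTri 3 F ≤ D → ¬ D ≤ stab (rho 3 F) (co 1) →
      ¬ D ≤ stab (rho 3 F) (co 2) → D = ⊤ := by
    intro D hUD h1 h2
    -- the span of the orbit
    let W : Submodule F (Fin 3 → F) :=
      Submodule.span F (Set.range fun d : D => rho 3 F (d : SLn 3 F) (Pi.single 0 1))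
    have hW : ∀ d ∈ D, d ∈ stab (rho 3 F) W := fun d hd => by
      refine act_eq_of_le _ fun v hv => ?_
      have : rho 3 F d v ∈ W.map (rho 3 F d : (Fin 3 → F) →ₗ[F] (Fin 3 → F)) :=
        Submodule.mem_map_of_mem hv
      rw [Submodule.map_span] at this
      refine Submodule.span_mono ?_ this
      rintro _ ⟨_, ⟨e, rfl⟩, rfl⟩
      exact ⟨⟨d * e, mul_mem hd e.2⟩, by simp⟩
    obtain ⟨k, hk, hWk⟩ := eq_co_of_invariant fun u hu => hW u (hUD hu)
    have h0 : (Pi.single 0 1 : Fin 3 → F) ∈ W := Submodule.subset_span ⟨1, by simp⟩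
    obtain ⟨z2, hz2, hz2'⟩ : ∃ z, Reach D z ∧ z 2 ≠ 0 := by
      by_contra hne
      push Not at hne
      have hW2 : W ≤ co 2 := Submodule.span_le.2 (by
        rintro _ ⟨d, rfl⟩ j hj
        rw [show j = 2 from Fin.ext (by omega)]
        exact hne _ ⟨d, d.2, 1, fun e he => ⟨by
          rw [one_smul, show e = 0 from Fin.ext he], one_ne_zero⟩⟩)
      interval_cases k
      · rw [hWk] at h0
        exact single_notMem_co (F := F) (Nat.zero_le _) h0
      · exact h1 (hWk ▸ hW)
      · exact h2 (hWk ▸ hW)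
      · have := (hWk ▸ hW2) (fun i hi => absurd i.isLt (by omega) : (Pi.single 2 1 : Fin 3 → F) ∈ co 3)
        exact single_notMem_co (F := F) (i := (2 : Fin 3)) le_rfl this
    have hall2 : ∀ c : Fin 3 → F, c 2 ≠ 0 → Reach D c := fun c hc =>
      reach_level hUD (k := 3) (i := 2) hz2 (fun i hi => absurd i.isLt (by omega))
        (fun i hi => absurd i.isLt (by omega)) rfl hz2' hc
    obtain ⟨z1, hz1, hz1c, hz1'⟩ : ∃ z, Reach D z ∧ z ∈ co 2 ∧ z 1 ≠ 0 := by
      by_contra hne
      push Not at hne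
      refine h2 fun d hd => ?_
      have hout : ∀ c : Fin 3 → F, c ∈ co 2 → c 1 ≠ 0 → rho 3 F d c ∈ co 2 := by
        intro c hc hc1 j hj
        rw [show j = 2 from Fin.ext (by omega)]
        by_contra hne'
        exact hc1 (hne c (reach_mul (hall2 _ hne') (inv_mem hd) one_ne_zero
          (by rw [rho_inv, one_smul])) hc)
      refine act_eq_of_le _ fun v hv => ?_
      by_cases hv1 : v 1 = 0
      · have hs : (Pi.single 1 1 : Fin 3 → F) ∈ co 2 := single_mem_co Nat.one_lt_two 1
        have h := sub_mem (hout (v + Pi.single 1 1) (add_mem hv hs) (by simp [hv1]))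
          (hout _ hs (by simp))
        rwa [map_add, add_sub_cancel_right] at h
      · exact hout v hv hv1
    refine top_of_reach (by norm_num) hUD fun i => ?_
    fin_cases i
    · exact ⟨_, reach_start (e := (0 : Fin 3)) rfl, single_mem_co (by simp) 1, by simp⟩
    · exact ⟨z1, hz1, hz1c, hz1'⟩
    · exact ⟨z2, hz2, fun i hi => absurd i.isLt (by simp at hi; omega), hz2'⟩
  have hover : ∀ D : Subgroup (PSLn 3 F), uniTriP 3 F ≤ D → D ≠ ⊤ →
      D ≤ St (co 1) ∨ D ≤ St (co 2) := by
    intro D hUD hD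
    by_contra hne
    push Not at hne
    have hc : ∀ k, D.comap pmk ≤ stab (rho 3 F) (co k) → D ≤ St (co k) := fun k h => by
      rw [← Subgroup.map_comap_eq_self_of_surjective pmk_surjective D]
      exact Subgroup.map_mono h
    refine hD ?_
    rw [← Subgroup.map_comap_eq_self_of_surjective pmk_surjective D,
      key (D.comap pmk) (Subgroup.map_le_iff_le_comap.1 hUD) (fun h => hne.1 (hc _ h))
        fun h => hne.2 (hc _ h), ← MonoidHom.range_eq_map, MonoidHom.range_eq_top.2 pmk_surjective]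
  refine ⟨⟨uniTriP_le_St _, uniTriP_le_St _, St_ne_top le_rfl (by norm_num),
    St_ne_top (by norm_num) (by norm_num), ?_⟩, hover⟩
  by_contra hne
  have h12 : ∀ g : SLn 3 F, ∀ {a b : ℕ}, St (co a) ≤ St (co b : Submodule F (Fin 3 → F)) →
      g ∈ stab (rho 3 F) (co a) → g ∈ stab (rho 3 F) (co b) := fun g a b h hg => by
    rw [← comap_St] at hg ⊢
    exact h hg
  rcases hover _ ((uniTriP_le_St 1).trans le_sup_left) hne with h | h
  · obtain ⟨g, hg⟩ := exists_tv (F := F) (Pi.single (1 : Fin 3) 1) (LinearMap.proj 0) (by simp)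
    have hg2 : g ∈ stab (rho 3 F) (co 2) := act_eq_of_le _ fun v hv => by
      rw [hg]; exact add_mem hv (Submodule.smul_mem _ _ (single_mem_co Nat.one_lt_two 1))
    have h1 := stab_apply (h12 g (le_sup_right.trans h) hg2)
      (single_mem_co (show (0 : Fin 3).val < 1 from Nat.zero_lt_one) (1 : F)) 1 le_rfl
    rw [hg] at h1
    simp at h1
  · obtain ⟨g, hg⟩ := exists_tv (F := F) (Pi.single (2 : Fin 3) 1) (LinearMap.proj 1) (by simp)
    have hg1 : g ∈ stab (rho 3 F) (co 1) := act_eq_of_le _ fun v hv => by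
      rw [hg, LinearMap.proj_apply, hv 1 le_rfl, zero_smul, add_zero]; exact hv
    have h1 := stab_apply (h12 g (le_sup_left.trans h) hg1)
      (single_mem_co (show (1 : Fin 3).val < 2 from Nat.one_lt_two) (1 : F)) 2 le_rfl
    rw [hg] at h1
    simp at h1

theorem inf_le_normalizer3 : St (co 1 : Submodule F (Fin 3 → F)) ⊓ St (co 2) ≤
    Subgroup.normalizer (uniTriP 3 F : Set (PSLn 3 F)) := by
  intro x hx
  obtain ⟨s, rfl⟩ := pmk_surjective x
  have hs : ∀ k, s ∈ stab (rho 3 F) (co k) := fun k => by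
    rcases k with _ | _ | _ | k
    · rw [co_zero]; exact act_eq_of_le _ fun v hv => by simp_all
    · rw [← comap_St]; exact hx.1
    · rw [← comap_St]; exact hx.2
    · rw [co_top (by omega)]; exact act_eq_of_le _ fun v _ => Submodule.mem_top
  have hn : s ∈ Subgroup.normalizer (uniTri 3 F : Set (SLn 3 F)) := by
    have step : ∀ t : SLn 3 F, (∀ k, t ∈ stab (rho 3 F) (co k)) → ∀ u ∈ uniTri 3 F,
        t * u * t⁻¹ ∈ uniTri 3 F := by
      intro t ht u hu
      rw [mem_uniTri_iff_flag]
      intro i v hv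
      have h1 := mem_uniTri_iff_flag.1 hu i _ (stab_apply (inv_mem (ht _)) hv)
      have h2 := stab_apply (ht i.val) h1
      rw [map_sub] at h2
      rw [rho_conj]
      convert h2 using 2
      rw [← LinearEquiv.mul_apply, ← map_mul, mul_inv_cancel, map_one]
      rfl
    rw [Subgroup.mem_normalizer_iff]
    exact fun u => ⟨step s hs u, fun h => by
      simpa [mul_assoc] using step s⁻¹ (fun k => inv_mem (hs k)) _ h⟩
  exact Subgroup.le_normalizer_map pmk ⟨s, hn, rfl⟩

theorem dich_psl3 {p : ℕ} [Fact p.Prime] [CharP F p] : Dich p (PSLn 3 F) := by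
  obtain ⟨h1, h2, h3⟩ := sylow_data (F := F) (n := 3) (p := p) (by norm_num)
  exact twoOver_psl3.dich h1 h2 h3 inf_le_normalizer3

theorem split_psl3 {p : ℕ} [Fact p.Prime] [CharP F p] (hp : p ≠ 2) : Split p (PSLn 3 F) := by
  obtain ⟨h1, h2, h3⟩ := sylow_data (F := F) (n := 3) (p := p) (by norm_num)
  exact twoOver_psl3.split hp h1 h2 h3

end H32.PMin.Lin
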