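import Cfsg.Agent.H32.PMin.Core
import Cfsg.Agent.H14.RigidOne
import Cfsg.Agent.H43.PSLBal.Field
import Cfsg.Agent.H57.PSLTriple
import Cfsg.Agent.H57.SzSimple
import Cfsg.Agent.H50.Simple
import Cfsg.Agent.H52.ReeOrder
import Cfsg.Prelude.Def_AlmostLie

/-!
In rank one the normalizer of a Sylow subgroup is maximal.
-/

set_option autoImplicit false
set_option linter.unusedSectionVars false
set_option linter.style.haveILetI false

namespace H32.PMin

open H14.Rigid

/-- A Sylow subgroup with two double cosets has a maximal normalizer. -/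
theorem tight_of_rankOne {p : ℕ} [Fact p.Prime] {G : Type*} [Group G] [Finite G] [IsSimpleGroup G]
    (hnc : ∃ a b : G, a * b ≠ b * a) (h : RankOne p G) : Tight p G := by
  obtain ⟨U, s, hUp, hidx, hne, hg⟩ := h
  refine ⟨U, hUp, hidx, fun hN => ?_, fun D hND hD => le_antisymm (fun g hgD => ?_) hND⟩
  · rcases (Subgroup.normalizer_eq_top_iff.1 hN).eq_bot_or_eq_top with h | h
    · exact hne h
    · subst h
      obtain ⟨a, b, hab⟩ := hnc
      have hG : IsPGroup p G := fun g => by
        obtain ⟨k, hk⟩ := hUp ⟨g, Subgroup.mem_top g⟩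
        exact ⟨k, congrArg Subtype.val hk⟩
      haveI := hG.center_nontrivial
      rcases (inferInstance : (Subgroup.center G).Normal).eq_bot_or_eq_top with hc | hc
      · exact (Subgroup.nontrivial_iff_ne_bot _).1 inferInstance hc
      · exact hab (Subgroup.mem_center_iff.1 (hc ▸ Subgroup.mem_top b) a)
  · by_contra hgN
    refine hD (top_le_iff.1 fun x _ => ?_)
    obtain ⟨u, hu, n, hn, rfl⟩ := (hg g).resolve_left hgN
    have hUD : U ≤ D := Subgroup.le_normalizer.trans hND
    have hs : s ∈ D := by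
      have := mul_mem (mul_mem (inv_mem (hUD hu)) hgD) (inv_mem (hND hn))
      simpa [mul_assoc] using this
    rcases hg x with h | ⟨v, hv, m, hm, rfl⟩
    · exact hND h
    · exact mul_mem (mul_mem (hUD hv) hs) (hND hm)

theorem pair_congr {A B : Type*} [Group A] [Group B] (e : A ≃* B) (h : ∃ a b : A, a * b ≠ b * a) :
    ∃ a b : B, a * b ≠ b * a := by
  obtain ⟨a, b, hab⟩ := h
  exact ⟨e a, e b, fun h => hab (e.injective (by rwa [map_mul, map_mul]))⟩

theorem pair_of_perfect {A : Type*} [Group A] [Nontrivial A] (h : commutator A = ⊤) :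
    ∃ a b : A, a * b ≠ b * a := by
  by_contra hc
  push Not at hc
  have : commutator A = ⊥ := by
    rw [commutator_def, Subgroup.commutator_eq_bot_iff_le_centralizer]
    exact fun x _ => Subgroup.mem_centralizer_iff.2 fun y _ => hc y x
  exact top_ne_bot (h.symm.trans this)

section Eight

variable {F : Type} [Field F] [Fintype F]

open Matrix H39
open scoped MatrixGroups

/-- `PSL₂(8)` in characteristic three. -/
theorem tight_eight (h8 : Fintype.card F = 8) :
    Tight 3 (Matrix.ProjectiveSpecialLinearGroup (Fin 2) F) := by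
  classical
  haveI : Fact (Nat.Prime 2) := ⟨Nat.prime_two⟩
  haveI : Fact (Nat.Prime 3) := ⟨Nat.prime_three⟩
  haveI : CharP F 2 := charP_of_card_eq_prime_pow (f := 3) (by rw [h8]; norm_num)
  have h4 : 4 ≤ Fintype.card F := by omega
  have h20 : (2 : F) = 0 := by exact_mod_cast CharP.cast_eq_zero F 2
  haveI := H57.PSL.isSimple h4
  set G := Matrix.ProjectiveSpecialLinearGroup (Fin 2) F
  have hG : Nat.card G = 504 := by
    rw [card_G2_eq, h8]
    norm_num
  obtain ⟨P⟩ : Nonempty (Sylow 3 G) := inferInstance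
  have hP : ∀ Q : Sylow 3 G, Nat.card ↥(Q : Subgroup G) = 9 := fun Q => by
    rw [Q.card_eq_multiplicity, hG]
    have : (504 : ℕ).factorization 3 = 2 := by
      rw [Nat.factorization_def _ Nat.prime_three, show (504 : ℕ) = 3 ^ 2 * 56 by norm_num,
        padicValNat.mul (by norm_num) (by norm_num), padicValNat.prime_pow,
        padicValNat.eq_zero_of_not_dvd (by norm_num)]
    rw [this]; norm_num
  -- distinct Sylow subgroups meet trivially
  have hTI : ∀ Q R : Sylow 3 G, Q ≠ R → (Q : Subgroup G) ⊓ R = ⊥ := by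
    intro Q R hQR
    refine (Subgroup.eq_bot_iff_forall _).2 fun z ⟨hzQ, hzR⟩ => by_contra fun hz => hQR ?_
    have hle : ∀ S : Sylow 3 G, z ∈ (S : Subgroup G) → (S : Subgroup G) ≤ Subgroup.centralizer {z} := by
      intro S hzS x hx
      haveI := IsPGroup.isMulCommutative_of_card_eq_prime_sq (p := 3) (G := ↥(S : Subgroup G))
        (by rw [hP]; norm_num)
      rw [Subgroup.mem_centralizer_singleton_iff]
      exact congrArg Subtype.val (mul_comm' (⟨x, hx⟩ : ↥(S : Subgroup G)) ⟨z, hzS⟩)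
    obtain ⟨g, rfl⟩ := proj_surjective z
    have h2 : proj g ^ 2 ≠ 1 := fun h => hz (by
      have h1 : orderOf (proj g) ∣ 2 := orderOf_dvd_of_pow_eq_one h
      have h3 : orderOf (proj g) ∣ 9 := hP Q ▸ (by
        simpa using orderOf_dvd_natCard (⟨proj g, hzQ⟩ : ↥(Q : Subgroup G)))
      exact orderOf_eq_one_iff.1 (Nat.dvd_one.1 ((show Nat.gcd 2 9 = 1 from rfl) ▸ Nat.dvd_gcd h1 h3)))
    have ht : tr g ≠ 0 := fun h0 => h2 ((pow_char_eq_one_iff (F := F) 2).2 (by
      rw [h0]; linear_combination (-2 : F) * h20))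
    have hcard : Nat.card ↥(Subgroup.centralizer ({proj g} : Set G)) ≤ 9 := by
      rw [H57.PSL.centralizer_proj ht]
      rcases (tor_trichotomy 2 h2).1 with e | e <;> rw [e, h8] <;> norm_num
    exact Sylow.ext ((Subgroup.eq_of_le_of_card_ge (hle Q hzQ) (by rw [hP]; exact hcard)).trans
      (Subgroup.eq_of_le_of_card_ge (hle R hzR) (by rw [hP]; exact hcard)).symm)
  have hne : Subgroup.normalizer ((P : Subgroup G) : Set G) ≠ ⊤ := by
    refine H57.PSL.normalizer_ne_top h4 ?_ ?_ <;> intro h <;> have h9 := hP P <;> rw [h] at h9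
    · rw [Subgroup.card_bot] at h9; omega
    · rw [Subgroup.card_top, hG] at h9; omega
  refine ⟨P, P.isPGroup', P.not_dvd_index, hne, fun D hND hD => le_antisymm ?_ hND⟩
  by_contra hDN
  obtain ⟨d, hdD, hdN⟩ := SetLike.not_le_iff_exists.1 hDN
  have hPD : (P : Subgroup G) ≤ D := Subgroup.le_normalizer.trans hND
  set Q : Sylow 3 G := d • P
  have hQP : Q ≠ P := fun h => hdN (Sylow.smul_eq_iff_mem_normalizer.1 h)
  have hQD : (Q : Subgroup G) ≤ D := by
    intro x hx
    rw [Sylow.coe_subgroup_smul, Subgroup.mem_pointwise_smul_iff_inv_smul_mem] at hx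
    have h1 := mul_mem (mul_mem hdD (hPD hx)) (inv_mem hdD)
    simpa [MulAut.smul_def, mul_assoc] using h1
  have h81 : 81 ≤ Nat.card ↥D := by
    have hinj : Function.Injective (fun x : ↥(P : Subgroup G) × ↥(Q : Subgroup G) =>
        (⟨(x.1 : G) * x.2, mul_mem (hPD x.1.2) (hQD x.2.2)⟩ : ↥D)) := fun a b e =>
      Subgroup.mul_injective_of_disjoint (disjoint_iff.2 (hTI P Q (Ne.symm hQP)))
        (congrArg Subtype.val e)
    have := Nat.card_le_card_of_injective _ hinj
    rwa [Nat.card_prod, hP, hP] at this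
  have hidx := H57.PSL.card_dvd_factorial_index h4 hD
  rw [hG] at hidx
  have hmul := D.card_mul_index
  rw [hG] at hmul
  have hi : D.index ≤ 6 := by nlinarith
  interval_cases hk : D.index <;> simp [Nat.factorial] at hidx

end Eight

/-- All groups of rank one. -/
theorem tight_rankOneChar {p : ℕ} [Fact p.Prime] {G : Type*} [Group G] [Finite G]
    (h : Cfsg.IsLieRankOneChar p G) : Tight p G := by
  rcases h with ⟨F, _, _, _, h4, ⟨e⟩⟩ | ⟨F, _, _, _, q, hF, hq, ⟨e⟩⟩ | ⟨rfl, h⟩ | ⟨rfl, h | h⟩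
  · haveI := H57.PSL.isSimple (F := F) h4
    exact (tight_of_rankOne ⟨_, _, H43.PSLBal.xe_not_comm⟩ rankOne_psl2).congr e.symm
  · haveI := H50.PSU_isSimple hF (n := 3) le_rfl (fun h => hq h.2)
    refine (tight_of_rankOne (pair_of_perfect ?_) (rankOne_psu3 hF)).congr e.symm
    rw [commutator_def, ← Subgroup.map_top_of_surjective _ (QuotientGroup.mk'_surjective _),
      ← Subgroup.map_commutator, ← commutator_def, H50.SU_perfect hF le_rfl (fun h => hq h.2)]
  · obtain ⟨F, _, _, m, hm, hF, ⟨e⟩⟩ := id h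
    haveI := H57.sz_simple (F := F) hm hF
    haveI : IsSimpleGroup G := (e.trans (H57.lieSzEquiv hm hF).symm |>.isSimpleGroup_congr).2 ‹_›
    refine tight_of_rankOne (pair_congr (e.trans (H57.lieSzEquiv hm hF).symm).symm
      (pair_of_perfect (H57.sz_perfect hm hF))) (rankOne_suzuki h)
  · obtain ⟨K, _, _, m, hm, hK, ⟨e⟩⟩ := id h
    obtain ⟨hs, hc⟩ := H52.Ree2.simple hK hm
    haveI : IsSimpleGroup G := e.isSimpleGroup_congr.2 hs
    refine tight_of_rankOne (pair_congr e.symm ?_) (rankOne_ree h)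
    by_contra hne
    push Not at hne
    exact hc ⟨⟨hne⟩⟩
  · obtain ⟨F, _, _, h8, ⟨e⟩⟩ := h
    exact (tight_eight h8).congr e.symm

end H32.PMin
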