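import Cfsg.Agent.H32.PMin.Classical

/-!
`PSp₄` in characteristic two: every proper overgroup of a Sylow subgroup lies in the stabiliser of
the point or of the line.
-/

set_option autoImplicit false
set_option linter.unusedSectionVars false
set_option linter.style.haveILetI false

namespace H32.PMin.Pol.Sp4

open Matrix Cfsg H17.Polar H32.Local

variable {F : Type*} [Field F] [Fintype F]

local notation "V" => (Fin 2 ⊕ Fin 2 → F)
local notation "ρ'" => matRep (H17.Polar.spToMat 2 F)
local notation "S'" => spSpace 2 F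

/-- The point. -/
def px : V := Pi.single (Sum.inl ⟨0, by omega⟩) 1

/-- The second point. -/
def pa : V := Pi.single (Sum.inl ⟨1, by omega⟩) 1

theorem flag : Flag S' (px : V) pa := sp_flag le_rfl

theorem sf_px (v : V) : H48.sf v (px : V) = v (Sum.inr 0) := by
  simp [H48.sf_apply, px, Fin.sum_univ_two, Pi.single_apply]

theorem sf_pa (v : V) : H48.sf v (pa : V) = v (Sum.inr 1) := by
  simp [H48.sf_apply, pa, Fin.sum_univ_two, Pi.single_apply]

/-- The line is its own perp. -/
theorem mem_line {v : V} (h0 : H48.sf v (px : V) = 0) (h1 : H48.sf v (pa : V) = 0) :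
    v ∈ (F ∙ (px : V)) ⊔ (F ∙ (pa : V)) := by
  rw [sf_px] at h0
  rw [sf_pa] at h1
  refine Submodule.mem_sup.2 ⟨v (.inl 0) • px, Submodule.smul_mem _ _ (Submodule.mem_span_singleton_self _),
    v (.inl 1) • pa, Submodule.smul_mem _ _ (Submodule.mem_span_singleton_self _), ?_⟩
  funext i
  rcases i with i | i <;> fin_cases i <;> simp [px, pa, Pi.single_apply, h0, h1]

theorem over_le [CharP F 2] {P : Subgroup (Matrix.symplecticGroup (Fin 2) F)}
    (hRP : flagRad ρ' S' (px : V) pa ≤ P) {D : Subgroup (Matrix.symplecticGroup (Fin 2) F)}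
    (hPD : P ≤ D) (hD : D ≠ ⊤) :
    D ≤ stab ρ' (F ∙ (px : V)) ∨ D ≤ stab ρ' ((F ∙ (px : V)) ⊔ (F ∙ (pa : V))) := by
  classical
  have hfl := flag (F := F)
  by_cases hA : ∃ d ∈ D, (spSpace 2 F).B px (ρ' d px) ≠ 0
  · obtain ⟨d, hd, hdx⟩ := hA
    have hrad : H32.Local.rad ρ' S' (F ∙ (px : V)) ≤ D := le_trans (le_trans le_sup_left hRP) hPD
    refine absurd (top_le_iff.1 ?_) hD
    rw [← H48.transGroup_eq_top (l := Fin 2) (F := F), H48.transGroup, Subgroup.closure_le]
    rintro z ⟨y, c, hz⟩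
    obtain rfl : z = H48.tv y c := Subtype.ext hz
    by_cases hy : y = 0
    · have h1 : H48.tv y c = 1 := H48.sp_ext fun z => by simp [hy]
      rw [h1]
      exact one_mem _
    obtain ⟨e, he, hey⟩ := transitive hfl sp_isom sp_roots hrad hd hdx (y := y) trivial hy
    obtain ⟨t, ht⟩ := Submodule.mem_span_singleton.1 hey
    have ht0 : t ≠ 0 := fun h => hfl.x0 ((ρ' e).injective (by rw [← ht, h, zero_smul, map_zero]))
    have hy' : y = t⁻¹ • ρ' e px := by rw [← ht, smul_smul, inv_mul_cancel₀ ht0, one_smul]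
    have hmem : H48.tv (px : V) (t⁻¹ * t⁻¹ * c) ∈ D := hrad ⟨fun w hw => by
        obtain ⟨b, rfl⟩ := Submodule.mem_span_singleton.1 hw
        show H48.tv (px : V) _ • (b • (px : V)) = _
        simp, fun m hm => by
        have h0 : H48.sf m (px : V) = 0 := (spSpace 2 F).perp_span_singleton.1 hm
        show H48.tv (px : V) _ • m - m ∈ _
        simp [h0]⟩
    rw [hy', H48.tv_scale, show ρ' e px = e • (px : V) from rfl, ← H48.tv_conj]
    exact mul_mem (mul_mem he hmem) (inv_mem he)
  push Not at hA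
  let W : Submodule F V := Submodule.span F ((fun d => ρ' d px) '' (D : Set _))
  have hpair : ∀ d ∈ D, ∀ d' ∈ D, (spSpace 2 F).B (ρ' d px) (ρ' d' px) = 0 := fun d hd d' hd' => by
    rw [← sp_isom.form d⁻¹, ρ_inv, ← LinearEquiv.mul_apply, ← map_mul]
    exact hA _ (mul_mem (inv_mem hd) hd')
  have hperp : W ≤ (spSpace 2 F).perp W := by
    refine Submodule.span_le.2 ?_
    rintro _ ⟨d, hd, rfl⟩ w hw
    induction hw using Submodule.span_induction with
    | mem z hz => obtain ⟨d', hd', rfl⟩ := hz; exact hpair d hd d' hd'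
    | zero => exact Space.zero_right _ _
    | add a b _ _ ha hb => rw [Space.add_right, ha, hb, add_zero]
    | smul c a _ ha => rw [Space.smul_right, ha, mul_zero]
  have hW : (spSpace 2 F).TI W := ⟨fun _ _ => trivial, hperp⟩
  have hDW : D ≤ stab ρ' W := fun d hd => act_eq_of_le ρ' fun v hv => by
    have : W.map ((ρ' d).toLinearMap) ≤ W := by
      rw [Submodule.map_span, Submodule.span_le]
      rintro _ ⟨_, ⟨d', hd', rfl⟩, rfl⟩
      exact Submodule.subset_span ⟨d * d', mul_mem hd hd', by simp⟩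
    exact this ⟨v, hv, rfl⟩
  have hxW : (px : V) ∈ W := Submodule.subset_span ⟨1, one_mem D, by simp⟩
  by_cases hWx : W = F ∙ (px : V)
  · exact Or.inl (hWx ▸ hDW)
  refine Or.inr (le_of_le_of_eq hDW (congrArg (stab ρ') (le_antisymm ?_ ?_)))
  · have hL : (F ∙ (px : V)) ⊔ (F ∙ (pa : V)) ≤ W := line_le_of_invariant hfl sp_isom sp_roots sp_bend
      hW (fun h => hfl.x0 ((Submodule.mem_bot F).1 (h ▸ hxW))) hWx ((hRP.trans hPD).trans hDW)
    exact fun v hv => mem_line (hperp hv _ hxW)
      (hperp hv _ (hL (Submodule.mem_sup_right (Submodule.mem_span_singleton_self _))))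
  · exact line_le_of_invariant hfl sp_isom sp_roots sp_bend
      hW (fun h => hfl.x0 ((Submodule.mem_bot F).1 (h ▸ hxW))) hWx ((hRP.trans hPD).trans hDW)

/-- The unipotent part of the flag stabiliser. -/
def unip : Subgroup (Matrix.symplecticGroup (Fin 2) F) where
  carrier := {g | ρ' g px = px ∧ ρ' g pa - pa ∈ F ∙ (px : V)}
  one_mem' := ⟨by simp, by simp⟩
  mul_mem' {g h} hg hh := by
    obtain ⟨s, hs⟩ := Submodule.mem_span_singleton.1 hh.2
    refine ⟨by rw [map_mul, LinearEquiv.mul_apply, hh.1, hg.1], ?_⟩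
    rw [map_mul, LinearEquiv.mul_apply, eq_add_of_sub_eq' hs.symm, map_add, map_smul, hg.1,
      add_sub_right_comm]
    exact Submodule.add_mem _ hg.2 (Submodule.smul_mem _ _ (Submodule.mem_span_singleton_self _))
  inv_mem' {g} hg := by
    have h1 : ρ' g⁻¹ px = px := by
      conv_lhs => rw [← hg.1]
      exact ρ_inv g _
    obtain ⟨s, hs⟩ := Submodule.mem_span_singleton.1 hg.2
    refine ⟨h1, Submodule.mem_span_singleton.2 ⟨-s, ?_⟩⟩
    have h2 := congrArg (ρ' g⁻¹) hs
    rw [map_smul, h1, map_sub, ρ_inv] at h2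
    rw [neg_smul, h2, neg_sub]

variable [CharP F 2]

theorem unip_p : IsPGroup 2 (unip (F := F)) := by
  rintro ⟨g, hx, ha⟩
  refine ⟨2, Subtype.ext ?_⟩
  obtain ⟨s, hs⟩ := Submodule.mem_span_singleton.1 ha
  have hga : ρ' g pa = pa + s • px := eq_add_of_sub_eq' hs.symm
  set N : Module.End F V := (ρ' g : Module.End F V) - 1 with hN
  have hNv : ∀ v, N v = ρ' g v - v := fun v => rfl
  have n1 : ∀ v, H48.sf (N v) (px : V) = 0 := fun v => by
    rw [hNv, map_sub, LinearMap.sub_apply, sub_eq_zero]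
    conv_lhs => arg 2; rw [← hx]
    exact sp_isom.form g v px
  have n2 : ∀ v, H48.sf v (px : V) = 0 → N v ∈ (F ∙ (px : V)) ⊔ (F ∙ (pa : V)) := fun v hv => by
    refine mem_line (n1 v) ?_
    have h1 : H48.sf (ρ' g v) (px : V) = 0 := by
      conv_lhs => arg 2; rw [← hx]
      exact (sp_isom.form g v px).trans hv
    have h2 : H48.sf (ρ' g v) (ρ' g pa) = H48.sf v (pa : V) := sp_isom.form g v pa
    rw [hga, map_add, map_smul, h1, smul_zero, add_zero] at h2
    rw [hNv, map_sub, LinearMap.sub_apply, h2, sub_self]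
  have n3 : ∀ v ∈ (F ∙ (px : V)) ⊔ (F ∙ (pa : V)), N (N v) = 0 := fun v hv => by
    obtain ⟨_, hb, _, hc, rfl⟩ := Submodule.mem_sup.1 hv
    obtain ⟨b, rfl⟩ := Submodule.mem_span_singleton.1 hb
    obtain ⟨c, rfl⟩ := Submodule.mem_span_singleton.1 hc
    have e1 : N (px : V) = 0 := by rw [hNv, hx, sub_self]
    have e2 : N (pa : V) = s • px := by rw [hNv, hs]
    simp [e1, e2]
  have hNN : N ^ 4 = 0 := LinearMap.ext fun v => by
    show N (N (N (N v))) = 0
    exact n3 _ (n2 _ (n1 v))
  haveI : CharP (Module.End F V) 2 := charP_of_injective_algebraMap (algebraMap F _).injective 2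
  have h4 : (ρ' g : Module.End F V) ^ (2 ^ 2) = 1 := by
    rw [show (ρ' g : Module.End F V) = N + 1 from (sub_add_cancel _ _).symm,
      add_pow_char_pow_of_commute 2 2 (Commute.one_right N),
      show (2 : ℕ) ^ 2 = 4 from rfl, hNN, one_pow, zero_add]
  refine (injective_iff_map_eq_one ρ').2 (fun g h => matRep_eq_one Subtype.val_injective h) |>
    fun hinj => hinj ?_
  refine LinearEquiv.ext fun v => ?_
  rw [SubgroupClass.coe_pow, coe_pow_apply, h4]
  simp

theorem conj_unip {m g : Matrix.symplecticGroup (Fin 2) F} (hm : m ∈ flagStab ρ' (px : V) pa)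
    (hg : g ∈ unip) : m * g * m⁻¹ ∈ unip := by
  have e : ∀ v, ρ' (m * g * m⁻¹) v = ρ' m (ρ' g (ρ' m⁻¹ v)) := fun v => by rw [map_mul, map_mul]; rfl
  obtain ⟨b, hb⟩ := Submodule.mem_span_singleton.1
    (stab_apply (inv_mem hm.1) (Submodule.mem_span_singleton_self (px : V)))
  refine ⟨by rw [e, ← hb, map_smul, hg.1, hb, ρ_inv'], ?_⟩
  obtain ⟨_, hc, _, hd, he⟩ := Submodule.mem_sup.1 (stab_apply (inv_mem hm.2)
    (Submodule.mem_sup_right (S := F ∙ (px : V)) (Submodule.mem_span_singleton_self (pa : V))))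
  obtain ⟨c, rfl⟩ := Submodule.mem_span_singleton.1 hc
  obtain ⟨d, rfl⟩ := Submodule.mem_span_singleton.1 hd
  have h1 : ρ' (m * g * m⁻¹) pa - pa = ρ' m (d • (ρ' g pa - pa)) := by
    rw [e]
    conv_lhs => arg 2; rw [← ρ_inv' (ρ := ρ') m pa]
    rw [← map_sub, ← he, map_add, map_smul, map_smul, hg.1, smul_sub]
    congr 1
    abel
  rw [h1]
  exact stab_apply hm.1 (Submodule.smul_mem _ _ hg.2)

theorem eq_one_of_pow {c : F} {k : ℕ} (h : c ^ 2 ^ k = 1) : c = 1 := by
  have h1 : (c - 1) ^ 2 ^ k = 0 := by rw [sub_pow_char_pow, h, one_pow, sub_self]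
  exact sub_eq_zero.1 (eq_zero_of_pow_eq_zero h1)

theorem sylow_eq {P : Sylow 2 (Matrix.symplecticGroup (Fin 2) F)}
    (hPM : (P : Subgroup (Matrix.symplecticGroup (Fin 2) F)) ≤ flagStab ρ' (px : V) pa) : (P : Subgroup (Matrix.symplecticGroup (Fin 2) F)) = unip := by
  refine le_antisymm (fun g hg => ?_) ?_
  · obtain ⟨k, hk⟩ := P.isPGroup' ⟨g, hg⟩
    have hk' : g ^ 2 ^ k = 1 := congrArg Subtype.val hk
    have hfix : ∀ v, ρ' (g ^ 2 ^ k) v = v := fun v => by rw [hk', map_one]; rfl
    obtain ⟨b, hb⟩ := Submodule.mem_span_singleton.1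
      (stab_apply (hPM hg).1 (Submodule.mem_span_singleton_self (px : V)))
    have hbn : ∀ n, ρ' (g ^ n) px = b ^ n • (px : V) := fun n => by
      induction n with
      | zero => simp
      | succ n ih => rw [pow_succ', map_mul, LinearEquiv.mul_apply, ih, map_smul, ← hb, smul_smul, pow_succ]
    have hb1 : b = 1 := eq_one_of_pow (k := k)
      (smul_left_injective F (flag (F := F)).x0 (by
        show b ^ 2 ^ k • (px : V) = (1 : F) • px
        rw [← hbn, hfix, one_smul]))
    rw [hb1, one_smul] at hb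
    refine ⟨hb.symm, ?_⟩
    obtain ⟨_, hc, _, hd, he⟩ := Submodule.mem_sup.1 (stab_apply (hPM hg).2
      (Submodule.mem_sup_right (S := F ∙ (px : V)) (Submodule.mem_span_singleton_self (pa : V))))
    obtain ⟨c, rfl⟩ := Submodule.mem_span_singleton.1 hc
    obtain ⟨d, rfl⟩ := Submodule.mem_span_singleton.1 hd
    have hdn : ∀ n, ρ' (g ^ n) pa - d ^ n • pa ∈ F ∙ (px : V) := fun n => by
      induction n with
      | zero => simp
      | succ n ih =>
        obtain ⟨t, ht⟩ := Submodule.mem_span_singleton.1 ih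
        rw [pow_succ', map_mul, LinearEquiv.mul_apply, eq_add_of_sub_eq' ht.symm, map_add, map_smul,
          map_smul, ← he, ← hb, smul_add, smul_smul, smul_smul, ← pow_succ]
        exact Submodule.mem_span_singleton.2 ⟨d ^ n * c + t, by rw [add_smul]; abel⟩
    have hd1 : d = 1 := eq_one_of_pow (k := k) (by
      have h1 := hdn (2 ^ k)
      rw [hfix] at h1
      obtain ⟨t, ht⟩ := Submodule.mem_span_singleton.1 h1
      have h2 := congrFun ht (Sum.inl ⟨1, by omega⟩)
      simp [px, pa, Pi.single_apply, Fin.ext_iff] at h2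
      linear_combination h2)
    rw [← he, hd1, one_smul, add_sub_cancel_right]
    exact Submodule.smul_mem _ _ (Submodule.mem_span_singleton_self _)
  · have hsup : IsPGroup 2 (((P : Subgroup (Matrix.symplecticGroup (Fin 2) F)) ⊔ unip : Subgroup (Matrix.symplecticGroup (Fin 2) F))) :=
      P.isPGroup'.to_sup_of_normal_right' unip_p fun m hm => Subgroup.mem_normalizer_iff.2 fun g =>
        ⟨fun hg => conj_unip (hPM hm) hg,
          fun hg => by simpa [mul_assoc] using conj_unip (inv_mem (hPM hm)) hg⟩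
    exact le_of_le_of_eq le_sup_right (P.3 hsup le_sup_left)

theorem dich_psp4 : Dich 2 (Cfsg.PSp 2 F) := by
  classical
  haveI : Finite (Matrix.symplecticGroup (Fin 2) F) := inferInstance
  have hfl := flag (F := F)
  obtain ⟨P, hRP, hPM, h1, h2, h3, hpair⟩ := pair_data (ρ := ρ') sp_isom sp_roots sp_moves hfl sp_bend
    ((injective_iff_map_eq_one _).2 fun g h => matRep_eq_one Subtype.val_injective h) 2
  have hxTI := (spSpace 2 F).ti_singleton hfl.sx
  refine TwoOver.dich ⟨hpair, fun D hUD hD => ?_⟩ h1 h2 h3 ?_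
  · have hle : (P : Subgroup (Matrix.symplecticGroup (Fin 2) F)) ≤ D.comap (QuotientGroup.mk' _) :=
      Subgroup.map_le_iff_le_comap.1 hUD
    have hne : D.comap (QuotientGroup.mk' (Subgroup.center (Matrix.symplecticGroup (Fin 2) F))) ≠ ⊤ :=
      fun h => hD (Subgroup.comap_injective (QuotientGroup.mk'_surjective _) (h.trans (Subgroup.comap_top _).symm))
    exact (over_le hRP hle hne).imp
      (fun h => by
        rw [← Subgroup.map_comap_eq_self_of_surjective (QuotientGroup.mk'_surjective _) D]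
        exact Subgroup.map_mono h)
      (fun h => by
        rw [← Subgroup.map_comap_eq_self_of_surjective (QuotientGroup.mk'_surjective _) D]
        exact Subgroup.map_mono h)
  · intro y hy
    obtain ⟨s, rfl⟩ := QuotientGroup.mk'_surjective
      (Subgroup.center (Matrix.symplecticGroup (Fin 2) F)) y
    have hs : s ∈ flagStab ρ' (px : V) pa :=
      ⟨by rw [← comap_St sp_isom sp_roots sp_moves hxTI]; exact hy.1,
        by rw [← comap_St sp_isom sp_roots sp_moves hfl.ti]; exact hy.2⟩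
    have hn : s ∈ Subgroup.normalizer ((P : Subgroup (Matrix.symplecticGroup (Fin 2) F)) : Set (Matrix.symplecticGroup (Fin 2) F)) := by
      rw [sylow_eq hPM]
      exact Subgroup.mem_normalizer_iff.2 fun g =>
        ⟨fun hg => conj_unip hs hg, fun hg => by simpa [mul_assoc] using conj_unip (inv_mem hs) hg⟩
    exact Subgroup.le_normalizer_map _ ⟨s, hn, rfl⟩

end H32.PMin.Pol.Sp4
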