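import Cfsg.Agent.CompLayer
import Cfsg.Prelude.Def_EvenType
import Cfsg.Prelude.Def_AlmostLie
import Cfsg.Agent.H32.PMin.Classical
import Cfsg.Agent.H32.PMin.Exceptional
import Cfsg.Agent.H32.PMin.Linear
import Cfsg.Agent.H32.PMin.RankOne
import Cfsg.Agent.H32.PMin.Sp4Even

/-!
`p`-minimal groups with a simple socle of Lie type, the three small groups being parameters.
-/

set_option autoImplicit false

namespace H32.PMin

open Cfsg

universe u

/-- The conclusion for a normal subgroup `K`. -/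
def Concl (p : ℕ) {X : Type u} [Group X] (K : Subgroup X) : Prop :=
  Cfsg.IsLieRankOneChar p ↥K ∨ (p = 2 ∧ K ≠ ⊤ ∧
    ((∃ (F : Type) (_ : Field F) (_ : Fintype F) (_ : CharP F 2),
        Nonempty (↥K ≃* Matrix.ProjectiveSpecialLinearGroup (Fin 3) F)) ∨
      (∃ (F : Type) (_ : Field F) (_ : Fintype F) (_ : CharP F 2),
        4 ≤ Fintype.card F ∧ Nonempty (↥K ≃* Cfsg.PSp 2 F)) ∨
      Nonempty (↥K ≃* ↥(alternatingGroup (Fin 6)))))

theorem four_le_card {F : Type*} [Field F] [Fintype F] [CharP F 2] (h : 3 ≤ Fintype.card F) :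
    4 ≤ Fintype.card F := by
  obtain ⟨n, -, hn⟩ := FiniteField.card F 2
  have hne : Fintype.card F ≠ 3 := fun h3 => by
    have h2 : (2 : ℕ) ∣ 3 := h3 ▸ hn ▸ dvd_pow_self 2 n.pos.ne'
    omega
  omega

theorem main {X : Type u} [Group X] [Finite X] {p : ℕ} [Fact p.Prime] {K : Subgroup X} [K.Normal]
    (hA6 : Dich 2 ↥(alternatingGroup (Fin 6)))
    (hU33 : p = 2 → (∃ (F : Type) (_ : Field F) (_ : Fintype F),
      Fintype.card F = 9 ∧ Nonempty (↥K ≃* Cfsg.PSU 3 F 3)) → False)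
    (hTits : p = 2 → Cfsg.Lie.IsoTits ↥K → False)
    (hX : Cfsg.IsPMinimal p X) (hK : Cfsg.IsChevSimple p ↥K) (U : Sylow p ↥K) :
    IsCoatom (Subgroup.normalizer (((U : Subgroup ↥K).map K.subtype : Subgroup X) : Set X)) ∧
      Concl p K := by
  have one : Cfsg.IsLieRankOneChar p ↥K →
      IsCoatom (Subgroup.normalizer (((U : Subgroup ↥K).map K.subtype : Subgroup X) : Set X)) ∧
        Concl p K := fun h => ⟨tight_out hX (tight_rankOneChar h) U, Or.inl h⟩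
  have no : Split p ↥K →
      IsCoatom (Subgroup.normalizer (((U : Subgroup ↥K).map K.subtype : Subgroup X) : Set X)) ∧
        Concl p K := fun h => (split_out hX h).elim
  rcases hK with h | ⟨rfl, ⟨⟨e⟩⟩ | h | h⟩ | ⟨rfl, h⟩
  · rcases h with h | h | h | h | h | h | h | h | ⟨rfl, h⟩ | ⟨rfl, h⟩ | ⟨rfl, h⟩
    · obtain ⟨F, hF1, hF2, hF3, n, hn, hn2, ⟨e⟩⟩ := h
      rcases hn.eq_or_lt with rfl | hn3
      · exact one (Or.inl ⟨F, hF1, hF2, hF3, hn2 rfl, ⟨e⟩⟩)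
      rcases (show 3 ≤ n from hn3).eq_or_lt with rfl | hn4
      · by_cases hp : p = 2
        · subst hp
          obtain ⟨h1, h2⟩ := dich_out hX ((Lin.dich_psl3 (p := 2) (F := F)).congr e.symm) U
          exact ⟨h1, Or.inr ⟨rfl, h2, Or.inl ⟨F, hF1, hF2, hF3, ⟨e⟩⟩⟩⟩
        · exact no ((Lin.split_psl3 (F := F) hp).congr e.symm)
      · exact no ((Lin.split_psl (F := F) (n := n) hn4).congr e.symm)
    · obtain ⟨F, hF1, hF2, hF3, m, hm, hm2, ⟨e⟩⟩ := h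
      by_cases hp : m = 2 ∧ p = 2
      · obtain ⟨rfl, rfl⟩ := hp
        obtain ⟨h1, h2⟩ := dich_out hX ((Pol.Sp4.dich_psp4 (F := F)).congr e.symm) U
        exact ⟨h1, Or.inr ⟨rfl, h2, Or.inr (Or.inl ⟨F, hF1, hF2, hF3, four_le_card (hm2 rfl), ⟨e⟩⟩)⟩⟩
      · exact no ((Pol.split_psp (F := F) p hm fun h h' => hp ⟨h, h'⟩).congr e.symm)
    · obtain ⟨F, hF1, hF2, hF3, n, q, hF, hn, hq, ⟨e⟩⟩ := h
      rcases hn.eq_or_lt with rfl | hn4
      · exact one (Or.inr (Or.inl ⟨F, hF1, hF2, hF3, q, hF, fun h => hq ⟨rfl, h⟩, ⟨e⟩⟩))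
      · exact no ((Pol.split_psu p hn4 hF).congr e.symm)
    · obtain ⟨F, _, _, _, m, hm, ho, ⟨e⟩⟩ := h
      exact no ((Pol.split_odd p hm (Ring.two_ne_zero (H44.ringChar_ne_two_of_odd_card ho))).congr e.symm)
    · obtain ⟨F, _, _, _, m, hm, ⟨e⟩⟩ := h
      exact no ((Pol.split_plus p hm).congr e.symm)
    · obtain ⟨F, _, _, _, m, a, b, hm, hab, ⟨e⟩⟩ := h
      exact no ((Pol.split_minus p hm hab).congr e.symm)
    · exact no (split_exceptional p h)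
    · exact no (split_twisted p h)
    · exact one (Or.inr (Or.inr (Or.inl ⟨rfl, h⟩)))
    · exact no (split_2F4 h)
    · exact one (Or.inr (Or.inr (Or.inr ⟨rfl, Or.inl h⟩)))
  · obtain ⟨h1, h2⟩ := dich_out hX (hA6.congr e.symm) U
    exact ⟨h1, Or.inr ⟨rfl, h2, Or.inr (Or.inr ⟨e⟩)⟩⟩
  · exact (hU33 rfl h).elim
  · exact (hTits rfl h).elim
  · exact one (Or.inr (Or.inr (Or.inr ⟨rfl, Or.inr h⟩)))

end H32.PMin
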