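import Cfsg.Agent.H32.PMin.Main
import Cfsg.Agent.H13.EA.Abstract

/-!
Groups with a framed `(B,N)`-pair: an invariant set of nodes gives an invariant generating pair of
parabolic subgroups.
-/

set_option autoImplicit false
set_option linter.unusedSectionVars false
set_option linter.style.haveILetI false

namespace H32.PMin

open H13.EA

universe u

variable {G : Type u} [Group G] [Finite G] {ι : Type*} [Finite ι] {A : Frame G ι} (hA : A.Hyp)

/-- The minimal parabolic of a node. -/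
abbrev mpar (A : Frame G ι) (i : ι) : Subgroup G := A.P.parabolic {A.s i}

include hA

theorem s_mem_S (i : ι) : A.s i ∈ A.P.S := hA.s_range ▸ ⟨i, rfl⟩

theorem image_subset (J : Set ι) : A.s '' J ⊆ A.P.S := by
  rintro _ ⟨i, -, rfl⟩; exact s_mem_S hA i

theorem B_le_normalizer : A.P.B ≤ Subgroup.normalizer (A.U : Set G) := fun _ hb =>
  Subgroup.mem_normalizer_iff_map_conj_eq.2 (Frame.B_norm_U hA hb)

theorem normalizer_U : Subgroup.normalizer (A.U : Set G) = A.P.B :=
  le_antisymm (fun _ hg => hA.norm_U _ (Subgroup.mem_normalizer_iff_map_conj_eq.1 hg)) (B_le_normalizer hA)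

theorem normalizer_ne_top [Nonempty ι] : Subgroup.normalizer (A.U : Set G) ≠ ⊤ := fun h => by
  obtain ⟨i⟩ := ‹Nonempty ι›
  exact H56.S_not_mem_B A.P (s_mem_S hA i) (normalizer_U hA ▸ h ▸ Subgroup.mem_top _)

theorem parabolic_ne_top {J : Set ι} {i : ι} (hi : i ∉ J) : A.P.parabolic (A.s '' J) ≠ ⊤ := fun h => by
  obtain ⟨j, hj, he⟩ := (H56.simple_mem_parabolic_iff A.P (image_subset hA J) (s_mem_S hA i)).1
    (h ▸ Subgroup.mem_top _)
  exact hi (hA.s_inj he ▸ hj)

theorem parabolic_sup (J : Set ι) : A.P.parabolic (A.s '' J) ⊔ A.P.parabolic (A.s '' Jᶜ) = ⊤ := by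
  have htop : A.P.parabolic A.P.S = ⊤ := by
    rw [eq_top_iff, ← A.P.sup_eq_top, sup_le_iff]
    refine ⟨le_sup_left, ?_⟩
    rw [← A.P.closure_sup, sup_le_iff]
    exact ⟨le_sup_right, inf_le_left.trans le_sup_left⟩
  rw [eq_top_iff, ← htop, hA.s_range]
  refine sup_le (le_sup_left.trans' le_sup_left) ((Subgroup.closure_le _).2 ?_)
  rintro _ ⟨i, rfl⟩
  by_cases hi : i ∈ J
  · exact Subgroup.mem_sup_left (Subgroup.mem_sup_right (Subgroup.subset_closure ⟨i, hi, rfl⟩))
  · exact Subgroup.mem_sup_right (Subgroup.mem_sup_right (Subgroup.subset_closure ⟨i, hi, rfl⟩))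

theorem mpar_injective : Function.Injective (mpar A) := fun i j h => by
  have h1 : A.s i ∈ mpar A i := Subgroup.mem_sup_right (Subgroup.subset_closure rfl)
  rw [h] at h1
  exact hA.s_inj ((H56.simple_mem_parabolic_iff A.P
    (Set.singleton_subset_iff.2 (s_mem_S hA j)) (s_mem_S hA i)).1 h1)

/-- A set of nodes invariant under the `p`-automorphisms fixing `U`. -/
theorem split_frame {p : ℕ} (hUp : IsPGroup p A.U) (hidx : ¬ p ∣ A.U.index) (J : Set ι) {a b : ι}
    (ha : a ∈ J) (hb : b ∉ J)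
    (hfix : ∀ α, Adm p A.U α → ∀ i j, (mpar A i).map α.toMonoidHom = mpar A j → (i ∈ J ↔ j ∈ J)) :
    Split p G := by
  haveI : Nonempty ι := ⟨a⟩
  refine ⟨A.U, A.P.parabolic (A.s '' J), A.P.parabolic (A.s '' Jᶜ), hUp, hidx, normalizer_ne_top hA,
    ⟨hA.U_le.trans le_sup_left, hA.U_le.trans le_sup_left, parabolic_ne_top hA hb,
      parabolic_ne_top hA (i := a) (fun h => h ha), parabolic_sup hA J⟩, fun α hα => ?_⟩
  have key : ∀ J' : Set ι, (∀ i j, (mpar A i).map α.toMonoidHom = mpar A j → (i ∈ J' ↔ j ∈ J')) →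
      (A.P.parabolic (A.s '' J')).map α.toMonoidHom = A.P.parabolic (A.s '' J') := by
    intro J' hJ'
    refine Subgroup.eq_of_le_of_card_ge ?_
      (Subgroup.card_map_of_injective (f := α.toMonoidHom) α.injective).ge
    rw [Subgroup.map_le_iff_le_comap]
    refine sup_le ?_ ((Subgroup.closure_le _).2 ?_)
    · rw [← Subgroup.map_le_iff_le_comap, Frame.map_B hA hα.2]
      exact le_sup_left
    · rintro _ ⟨i, hi, rfl⟩
      obtain ⟨j, hj⟩ := Frame.exists_par_map hA hα.2 i
      have h0 : α (A.s i) ∈ (A.P.parabolic {A.s i}).map α.toMonoidHom :=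
        ⟨A.s i, Subgroup.mem_sup_right (Subgroup.subset_closure rfl), rfl⟩
      have h1 : α (A.s i) ∈ mpar A j := by rwa [hj] at h0
      exact sup_le_sup_left (Subgroup.closure_mono
        (show ({A.s j} : Set G) ⊆ A.s '' J' by
          rintro _ rfl; exact ⟨j, (hJ' i j hj).1 hi, rfl⟩)) _ h1
  exact ⟨key J (hfix α hα), key Jᶜ fun i j h => not_congr (hfix α hα i j h)⟩

/-- With two nodes and `p` odd nothing moves. -/
theorem split_frame_two {p : ℕ} [Fact p.Prime] (hp : p ≠ 2) (hUp : IsPGroup p A.U)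
    (hidx : ¬ p ∣ A.U.index) {a b : ι} (hab : a ≠ b) (hall : ∀ i, i = a ∨ i = b) : Split p G := by
  refine split_frame hA hUp hidx {a} (a := a) (b := b) rfl (fun h => hab h.symm) fun α hα i j h => ?_
  obtain ⟨f, hf⟩ := Classical.axiom_of_choice (Frame.exists_par_map hA hα.2)
  have hinj : Function.Injective f := fun x y e => mpar_injective hA
    (Subgroup.map_injective (f := α.toMonoidHom) α.injective ((hf x).trans (e ▸ (hf y).symm)))
  have hij : f i = j := mpar_injective hA ((hf i).symm.trans h)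
  rcases hall (f a) with hfa | hfa
  · have hfb : f b = b := (hall (f b)).resolve_left fun e => hab (hinj (hfa.trans e.symm))
    rcases hall i with rfl | rfl <;> simp [← hij, hfa, hfb]
  · have hfb : f b = a := (hall (f b)).resolve_right fun e => hab (hinj (hfa.trans e.symm))
    obtain ⟨k, hk⟩ := hα.1
    have hodd : Odd (orderOf α) := by
      rw [hk]; exact ((Fact.out : p.Prime).odd_of_ne_two hp).pow
    have h1 := map_pow_swap (hfa ▸ hf a) (hfb ▸ hf b) _ hodd
    rw [pow_orderOf_eq_one, show (1 : MulAut G).toMonoidHom = MonoidHom.id G from rfl,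
      Subgroup.map_id] at h1
    exact absurd (mpar_injective hA h1) hab

/-- The node permutation read off from a corrected automorphism. -/
theorem perm_of_corrected {α : MulAut G} (hα : A.U.map α.toMonoidHom = A.U) {x : G} {θ : G ≃* G}
    (hθ : ∀ y, θ y = x⁻¹ * α y * x) (hU : A.U.map θ.toMonoidHom = A.U) {π : ι → ι}
    (hπ : ∀ i, (A.Xn i).map θ.toMonoidHom ≤ A.Xn (π i)) {i j : ι}
    (h : (mpar A i).map α.toMonoidHom = mpar A j) : π i = j := by
  have hxB : x⁻¹ ∈ A.P.B := hA.norm_U _ (by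
    conv_rhs => rw [← hU]
    conv_lhs => rw [← hα, Subgroup.map_map]
    congr 1
    ext y
    simp [hθ])
  have hxB' : x ∈ A.P.B := inv_inv x ▸ inv_mem hxB
  by_contra hne
  apply hA.Xn_ne i
  apply Subgroup.map_injective (f := θ.toMonoidHom) θ.injective
  rw [Subgroup.map_bot, eq_bot_iff, ← hA.B_V]
  intro y hy
  have hy' : y ∈ A.Xn (π i) := hπ i hy
  refine ⟨?_, hA.Xn_le _ hy'⟩
  have h1 : y ∈ mpar A (π i) := hA.Xn_par _ hy'
  have h2 : y ∈ mpar A j := by
    obtain ⟨z, hz, rfl⟩ := hy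
    show θ z ∈ mpar A j
    rw [hθ]
    exact mul_mem (mul_mem (H56.B_le_parabolic A.P _ hxB) (h ▸ ⟨z, hA.Xn_par _ hz, rfl⟩))
      (H56.B_le_parabolic A.P _ hxB')
  have h3 : y ∈ mpar A (π i) ⊓ mpar A j := ⟨h1, h2⟩
  rw [H56.parabolic_inf A.P (Set.singleton_subset_iff.2 (s_mem_S hA _))
    (Set.singleton_subset_iff.2 (s_mem_S hA _))] at h3
  rwa [show ({A.s (π i)} : Set G) ∩ {A.s j} = ∅ from Set.singleton_inter_eq_empty.2
    (fun e => hne (hA.s_inj e)), show A.P.parabolic ∅ = A.P.B by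
      simp [Cfsg.BNPair.parabolic]] at h3

end H32.PMin
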