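import Cfsg.Agent.H32.PMin.Core

/-!
The consequences of the three kinds of Sylow data for a `p`-minimal group.
-/

set_option autoImplicit false
set_option linter.unusedSectionVars false

namespace H32.PMin

universe u

variable {X : Type u} [Group X] [Finite X] {p : ℕ} [Fact p.Prime] {N : Subgroup X} [N.Normal]

theorem le_subgroupOf_of_map {U : Subgroup N} {M : Subgroup X}
    (h : Subgroup.normalizer ((U.map N.subtype : Subgroup X) : Set X) ≤ M) :
    Subgroup.normalizer (U : Set N) ≤ M.subgroupOf N := fun _ hx =>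
  Subgroup.mem_subgroupOf.2 (h (Subgroup.le_normalizer_map N.subtype ⟨_, hx, rfl⟩))

/-- Elements of `S` fix `M ⊓ N`. -/
theorem subgroupOf_fixed {M : Subgroup X} {s : X} (hs : s ∈ M) :
    (M.subgroupOf N).map (MulAut.conjNormal (H := N) s).toMonoidHom = M.subgroupOf N := by
  rw [conjNormal_fix_iff, Subgroup.subgroupOf_map_subtype, Subgroup.mem_normalizer_iff]
  intro x
  simp only [Subgroup.mem_inf]
  constructor
  · exact fun ⟨h1, h2⟩ => ⟨mul_mem (mul_mem hs h1) (inv_mem hs), Subgroup.Normal.conj_mem ‹_› x h2 s⟩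
  · intro ⟨h1, h2⟩
    refine ⟨?_, ?_⟩
    · simpa [mul_assoc] using mul_mem (mul_mem (inv_mem hs) h1) hs
    · simpa [mul_assoc] using Subgroup.Normal.conj_mem ‹_› _ h2 s⁻¹

/-- A maximal normalizer inside `N` gives a maximal normalizer in `X`. -/
theorem tight_out (hX : Cfsg.IsPMinimal p X) (h : Tight p N) (U : Sylow p N) :
    IsCoatom (Subgroup.normalizer (((U : Subgroup N).map N.subtype : Subgroup X) : Set X)) := by
  obtain ⟨U₀, hU, hidx, hne, hD⟩ := h
  obtain ⟨S, M, hM, -, -, -, -, hNM, -, hMN⟩ := main_data hX U₀ hU hidx hne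
  exact coatom_any hU hidx (coatom_of_data hM hidx hU hNM (hD _ (le_subgroupOf_of_map hNM) hMN)) U

/-- An invariant generating pair is impossible. -/
theorem split_out (hX : Cfsg.IsPMinimal p X) (h : Split p N) : False := by
  obtain ⟨U₀, Y₁, Y₂, hU, hidx, hne, hY, hfix⟩ := h
  obtain ⟨S, M, -, -, -, hadm, hbig, -, -, hMN⟩ := main_data hX U₀ hU hidx hne
  exact false_of_fixed hY hbig hMN fun s hs => hfix _ (hadm s hs)

/-- With a dichotomy the normalizer is maximal and `N` is proper. -/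
theorem dich_out (hX : Cfsg.IsPMinimal p X) (h : Dich p N) (U : Sylow p N) :
    IsCoatom (Subgroup.normalizer (((U : Subgroup N).map N.subtype : Subgroup X) : Set X)) ∧ N ≠ ⊤ := by
  classical
  obtain ⟨U₀, Y₁, Y₂, hU, hidx, hne, hY, hfix⟩ := h
  obtain ⟨S, M, hM, hSM, hUS, hadm, hbig, hNM, -, hMN⟩ := main_data hX U₀ hU hidx hne
  by_cases hall : ∀ s ∈ (S : Subgroup X), Y₁.map (MulAut.conjNormal (H := N) s).toMonoidHom = Y₁ ∧
      Y₂.map (MulAut.conjNormal (H := N) s).toMonoidHom = Y₂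
  · exact (false_of_fixed hY hbig hMN hall).elim
  push Not at hall
  obtain ⟨s, hs, hsY⟩ := hall
  have hD := (hfix _ (hadm s hs)).resolve_left fun h => hsY h.1 h.2
  refine ⟨coatom_any hU hidx (coatom_of_data hM hidx hU hNM
    (hD _ (le_subgroupOf_of_map hNM) hMN (subgroupOf_fixed (hSM hs)))) U, fun htop => ?_⟩
  -- otherwise `s` acts as an element of `U₀`
  have hsN : s ∈ N := htop ▸ Subgroup.mem_top s
  have hSN : ((S : Subgroup X).subgroupOf N) = U₀ :=
    (hU.toSylow hidx).3 (S.isPGroup'.comap_of_injective N.subtype N.subtype_injective)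
      (fun x hx => hUS ⟨x, hx, rfl⟩)
  have hsU : (⟨s, hsN⟩ : N) ∈ U₀ := hSN ▸ Subgroup.mem_subgroupOf.2 hs
  have key : ∀ Y : Subgroup N, U₀ ≤ Y → Y.map (MulAut.conjNormal (H := N) s).toMonoidHom = Y := by
    intro Y hUY
    have hle : Y ≤ Subgroup.normalizer (Y : Set N) := Subgroup.le_normalizer
    have h1 : MulAut.conjNormal (H := N) s = MulAut.conj (⟨s, hsN⟩ : N) := by
      ext x; simp
    rw [h1]
    exact Subgroup.mem_normalizer_iff_map_conj_eq.1 (hle (hUY hsU))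
  exact hsY (key _ hY.le₁) (key _ hY.le₂)

section TwoOver

variable {K : Type u} [Group K]

/-- Two proper overgroups of `U`, one of which contains each of them. -/
structure TwoOver (U Y₁ Y₂ : Subgroup K) : Prop where
  pair : Pair U Y₁ Y₂
  over_le : ∀ D : Subgroup K, U ≤ D → D ≠ ⊤ → D ≤ Y₁ ∨ D ≤ Y₂

variable [Finite K]

theorem TwoOver.swap_or_fix {U Y₁ Y₂ : Subgroup K} (h : TwoOver U Y₁ Y₂) {α : MulAut K}
    (hα : U.map α.toMonoidHom = U) :
    (Y₁.map α.toMonoidHom = Y₁ ∧ Y₂.map α.toMonoidHom = Y₂) ∨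
      (Y₁.map α.toMonoidHom = Y₂ ∧ Y₂.map α.toMonoidHom = Y₁) := by
  have htop : (⊤ : Subgroup K).map α.toMonoidHom = ⊤ := by
    rw [← MonoidHom.range_eq_map, MonoidHom.range_eq_top]; exact α.surjective
  have him : ∀ Y : Subgroup K, U ≤ Y → Y ≠ ⊤ →
      Y.map α.toMonoidHom ≤ Y₁ ∨ Y.map α.toMonoidHom ≤ Y₂ := fun Y hY hne => by
    refine h.over_le _ (hα ▸ Subgroup.map_mono hY) fun hh => hne ?_
    exact Subgroup.map_injective (f := α.toMonoidHom) α.injective (hh.trans htop.symm)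
  have hcard : ∀ Y : Subgroup K, Nat.card ↥(Y.map α.toMonoidHom) = Nat.card ↥Y := fun Y =>
    Subgroup.card_map_of_injective (f := α.toMonoidHom) α.injective
  have hsup : Y₁.map α.toMonoidHom ⊔ Y₂.map α.toMonoidHom = ⊤ := by
    rw [← Subgroup.map_sup, h.pair.sup, htop]
  rcases him _ h.pair.le₁ h.pair.ne₁ with h1 | h1 <;> rcases him _ h.pair.le₂ h.pair.ne₂ with h2 | h2
  · exact (h.pair.ne₁ (top_le_iff.1 (hsup ▸ sup_le h1 h2))).elim
  · exact Or.inl ⟨Subgroup.eq_of_le_of_card_ge h1 (hcard _).ge,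
      Subgroup.eq_of_le_of_card_ge h2 (hcard _).ge⟩
  · have c1 := Subgroup.card_le_of_le h1
    have c2 := Subgroup.card_le_of_le h2
    rw [hcard] at c1 c2
    exact Or.inr ⟨Subgroup.eq_of_le_of_card_ge h1 (by rw [hcard]; exact c2),
      Subgroup.eq_of_le_of_card_ge h2 (by rw [hcard]; exact c1)⟩
  · exact (h.pair.ne₂ (top_le_iff.1 (hsup ▸ sup_le h1 h2))).elim

theorem TwoOver.dich {p : ℕ} {U Y₁ Y₂ : Subgroup K} (h : TwoOver U Y₁ Y₂) (hU : IsPGroup p U)
    (hidx : ¬ p ∣ U.index) (hne : Subgroup.normalizer (U : Set K) ≠ ⊤)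
    (hinf : Y₁ ⊓ Y₂ ≤ Subgroup.normalizer (U : Set K)) : Dich p K := by
  refine ⟨U, Y₁, Y₂, hU, hidx, hne, h.pair, fun α hα => (h.swap_or_fix hα.2).imp id ?_⟩
  rintro ⟨e1, e2⟩ D hND hD hDα
  refine le_antisymm (le_trans ?_ hinf) hND
  rcases h.over_le D (Subgroup.le_normalizer.trans hND) hD with hl | hl
  · exact le_inf hl (hDα ▸ e1 ▸ Subgroup.map_mono hl)
  · exact le_inf (hDα ▸ e2 ▸ Subgroup.map_mono hl) hl

omit [Finite K] in
theorem map_pow_swap {α : MulAut K} {Y₁ Y₂ : Subgroup K} (h1 : Y₁.map α.toMonoidHom = Y₂)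
    (h2 : Y₂.map α.toMonoidHom = Y₁) : ∀ n : ℕ, Odd n → Y₁.map (α ^ n).toMonoidHom = Y₂ := by
  rintro n ⟨k, rfl⟩
  induction k with
  | zero => simpa using h1
  | succ k ih =>
    have e : α ^ (2 * (k + 1) + 1) = α * (α * α ^ (2 * k + 1)) := by
      rw [← pow_succ', ← pow_succ']; ring_nf
    have e' : (α ^ (2 * (k + 1) + 1)).toMonoidHom =
        α.toMonoidHom.comp (α.toMonoidHom.comp (α ^ (2 * k + 1)).toMonoidHom) := by
      rw [e]; rfl
    rw [e', ← Subgroup.map_map, ← Subgroup.map_map, ih, h2, h1]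

/-- In odd characteristic the two overgroups are fixed. -/
theorem TwoOver.split {p : ℕ} [Fact p.Prime] {U Y₁ Y₂ : Subgroup K} (h : TwoOver U Y₁ Y₂)
    (hp : p ≠ 2) (hU : IsPGroup p U)
    (hidx : ¬ p ∣ U.index) (hne : Subgroup.normalizer (U : Set K) ≠ ⊤) : Split p K := by
  refine ⟨U, Y₁, Y₂, hU, hidx, hne, h.pair, fun α hα => (h.swap_or_fix hα.2).resolve_right ?_⟩
  rintro ⟨e1, e2⟩
  obtain ⟨k, hk⟩ := hα.1
  have hodd : Odd (orderOf α) := by
    rw [hk]; exact ((Fact.out : p.Prime).odd_of_ne_two hp).pow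
  have h1 := map_pow_swap e1 e2 _ hodd
  rw [pow_orderOf_eq_one, show (1 : MulAut K).toMonoidHom = MonoidHom.id K from rfl,
    Subgroup.map_id] at h1
  refine h.pair.ne₁ ?_
  rw [← h.pair.sup, ← h1, sup_idem]

end TwoOver

end H32.PMin
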