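import Cfsg.Agent.H32.PMin.Main
import Cfsg.Agent.H32.Local.Polar

/-!
Isometry groups of polar spaces: the stabiliser of a singular point and that of a singular line
form an invariant generating pair.
-/

set_option autoImplicit false
set_option linter.unusedSectionVars false
set_option linter.style.haveILetI false

namespace H32.PMin.Pol

open H17.Polar H32.Local

variable {F : Type*} [Field F] [Finite F] {V : Type*} [AddCommGroup V] [Module F V] [Finite V]
  {G : Type*} [Group G] (ρ : G →* (V ≃ₗ[F] V)) (S : Space F V)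

/-- A point on a totally singular line. -/
structure Flag (x a : V) : Prop where
  sx : S.Sing x
  sa : S.Sing a
  x0 : x ≠ 0
  perp : S.B x a = 0
  indep : a ∉ F ∙ x

/-- A vector moved by a root element to a non-orthogonal one. -/
def Bend : Prop :=
  ∀ x r y, S.Sing x → S.Sing r → S.Sing y → S.B x r = 0 → S.B x y = 0 → S.B r y ≠ 0 →
    ∃ u, ∃ e : F, S.B u x = 0 ∧ S.B u r = 0 ∧ S.Sing (y + u + e • r) ∧ S.B y (y + u + e • r) ≠ 0

/-- The two radicals. -/
noncomputable def flagRad (x a : V) : Subgroup G :=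
  H32.Local.rad ρ S (F ∙ x) ⊔ H32.Local.rad ρ S ((F ∙ x) ⊔ (F ∙ a))

/-- The stabiliser of the flag. -/
def flagStab (x a : V) : Subgroup G := stab ρ (F ∙ x) ⊓ stab ρ ((F ∙ x) ⊔ (F ∙ a))

variable {ρ S}

theorem line_eq {x y : V} (hy0 : y ≠ 0) (hy : y ∈ F ∙ x) : F ∙ y = F ∙ x := by
  obtain ⟨c, rfl⟩ := Submodule.mem_span_singleton.1 hy
  exact Submodule.span_singleton_smul_eq (isUnit_iff_ne_zero.2 fun h => hy0 (by rw [h, zero_smul])) x

theorem stab_apply {W : Submodule F V} {g : G} (hg : g ∈ stab ρ W) {v : V} (hv : v ∈ W) :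
    ρ g v ∈ W := by
  rw [mem_stab] at hg
  exact hg ▸ (mem_act ρ).2 ⟨v, hv, rfl⟩

theorem ρ_inv (g : G) (v : V) : ρ g⁻¹ (ρ g v) = v := by
  rw [← LinearEquiv.mul_apply, ← map_mul, inv_mul_cancel, map_one]; rfl

theorem ρ_inv' (g : G) (v : V) : ρ g (ρ g⁻¹ v) = v := by
  rw [← LinearEquiv.mul_apply, ← map_mul, mul_inv_cancel, map_one]; rfl

/-- Outside `W`, some vector orthogonal to `W` detects. -/
theorem exists_perp_ne {W : Submodule F V} (hW : S.TI W) {v : V} (hv : v ∈ S.perp W) (hnv : v ∉ W) :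
    ∃ u ∈ S.perp W, S.B v u ≠ 0 := by
  by_contra hne
  push Not at hne
  exact hnv (perp_perp_le hW ⟨hv, hne⟩)

theorem exists_sing_opp {x : V} (hx : S.Sing x) (hx0 : x ≠ 0) : ∃ z, S.Sing z ∧ S.B x z ≠ 0 := by
  obtain ⟨z, -, hz, h⟩ := S.exists_hyp S.nd_top Submodule.mem_top hx hx0
  exact ⟨z, hz, h⟩

section Flag

variable {x a : V} (hfl : Flag S x a)

include hfl

theorem Flag.a0 : a ≠ 0 := fun h => hfl.indep (h ▸ Submodule.zero_mem _)

theorem Flag.ti : S.TI ((F ∙ x) ⊔ (F ∙ a)) :=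
  S.ti_sup (S.ti_singleton hfl.sx) (S.ti_singleton hfl.sa)
    ((Submodule.span_singleton_le_iff_mem _ _).2 (S.perp_span_singleton.2 (S.eq_zero_comm.1 hfl.perp)))

theorem Flag.le : (F ∙ x) ≤ (F ∙ x) ⊔ (F ∙ a) := le_sup_left

theorem rad_x_le : H32.Local.rad ρ S (F ∙ x) ≤ flagStab ρ x a := fun g hg =>
  ⟨act_eq_of_fix ρ hg.1, act_eq_of_le ρ fun v hv => by
    have hv' : v ∈ S.perp (F ∙ x) := S.perp_antitone hfl.le (hfl.ti.2 hv)
    have := Submodule.add_mem _ (Submodule.mem_sup_left (T := F ∙ a) (hg.2 v hv')) hv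
    rwa [sub_add_cancel] at this⟩

theorem rad_L_le : H32.Local.rad ρ S ((F ∙ x) ⊔ (F ∙ a)) ≤ flagStab ρ x a := fun g hg =>
  ⟨act_eq_of_fix ρ fun v hv => hg.1 v (hfl.le hv), act_eq_of_fix ρ hg.1⟩

theorem flagRad_le : flagRad ρ S x a ≤ flagStab ρ x a := sup_le (rad_x_le hfl) (rad_L_le hfl)

theorem flag_normalises (hρ : Isom ρ S) :
    flagStab ρ x a ≤ Subgroup.normalizer (flagRad ρ S x a : Set G) := by
  have step : ∀ (W : Submodule F V) (m : G), m ∈ stab ρ W →
      (H32.Local.rad ρ S W).map (MulAut.conj m : G →* G) = H32.Local.rad ρ S W := fun W m hm => by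
    refine le_antisymm ?_ fun g hg => ⟨m⁻¹ * g * m, ?_, by simp [mul_assoc]⟩
    · rintro _ ⟨g, hg, rfl⟩
      exact rad_stab hρ hm hg
    · simpa using rad_stab hρ (inv_mem hm) hg
  intro m hm
  rw [Subgroup.mem_normalizer_iff_map_conj_eq, flagRad, Subgroup.map_sup, step _ m hm.1, step _ m hm.2]

theorem isPGroup_flagRad (hρ : Isom ρ S) (hinj : Function.Injective ρ) [Nontrivial V] (p : ℕ)
    [Fact p.Prime] [CharP F p] : IsPGroup p (flagRad ρ S x a) := by
  have hp : ∀ W : Submodule F V, IsPGroup p (H32.Local.rad ρ S W) := fun W g =>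
    ⟨2, Subtype.ext (H32.Local.rad_pow hρ hinj p g.2)⟩
  exact IsPGroup.to_sup_of_normal_left' (hp _) (hp _) fun g hg =>
    Subgroup.mem_normalizer_iff.2 fun h => by
      have hgx := (rad_L_le hfl hg).1
      refine ⟨fun hh => rad_stab hρ hgx hh, fun hh => ?_⟩
      simpa [mul_assoc] using rad_stab hρ (inv_mem hgx) hh

variable (hρ : Isom ρ S) (hR : Roots ρ S ⊤ ⊤)
include hρ hR

/-- An invariant totally singular subspace contains the point. -/
theorem mem_of_invariant {W : Submodule F V} (hW : S.TI W) (hne : W ≠ ⊥)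
    (hinv : flagRad ρ S x a ≤ stab ρ W) : x ∈ W := by
  by_contra hx
  have hxTI := S.ti_singleton hfl.sx
  have hperp : ∀ y ∈ W, S.B y x = 0 → y = 0 := by
    intro y hy hyx
    by_contra hy0
    have hyl : y ∉ F ∙ x := fun h => hx (by
      have := line_eq hy0 h ▸ (Submodule.span_singleton_le_iff_mem y W).2 hy
      exact this (Submodule.mem_span_singleton_self x))
    obtain ⟨u, hu, hyu⟩ := exists_perp_ne hxTI (S.perp_span_singleton.2 hyx) hyl
    obtain ⟨z, hz, hxz⟩ := exists_sing_opp hfl.sx hfl.x0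
    obtain ⟨e, he⟩ := S.sing_adjust x (z + u) hfl.sx (by
      rw [S.add_left, S.perp_span_singleton.1 hu, add_zero]
      exact fun h => hxz (S.eq_zero_comm.1 h))
    obtain ⟨g, hg, -, hgm⟩ := exists_rad hρ hR hxTI (Submodule.mem_span_singleton_self x) hz hxz hu he
    have h1 := W.sub_mem hy (stab_apply (hinv (Subgroup.mem_sup_left hg)) hy)
    rw [hgm y hyx, sub_sub_cancel] at h1
    exact hx ((W.smul_mem_iff (div_ne_zero hyu hxz)).1 h1)
  obtain ⟨y, hy, hy0⟩ := Submodule.exists_mem_ne_zero_of_ne_bot hne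
  have hyx : S.B y x ≠ 0 := fun h => hy0 (hperp y hy h)
  have hax : S.B a x = 0 := S.eq_zero_comm.1 hfl.perp
  obtain ⟨e, he⟩ := S.sing_adjust x (y + a) hfl.sx (by rw [S.add_left, hax, add_zero]; exact hyx)
  obtain ⟨g, hg, hgy, -⟩ := exists_rad hρ hR hxTI (Submodule.mem_span_singleton_self x) (hW.1 y hy)
    (fun h => hyx (S.eq_zero_comm.1 h)) (S.perp_span_singleton.2 hax) he
  have h1 := W.sub_mem (stab_apply (hinv (Subgroup.mem_sup_left hg)) hy) hy
  rw [hgy, add_assoc, add_sub_cancel_left] at h1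
  have h2 := hperp _ h1 (by rw [S.add_left, hax, S.smul_left, S.sing_self x hfl.sx, mul_zero, add_zero])
  exact hfl.indep (Submodule.mem_span_singleton.2 ⟨-e, by rw [neg_smul]; exact (eq_neg_of_add_eq_zero_left h2).symm⟩)

/-- An invariant totally singular subspace through the point, other than it, contains the line. -/
theorem line_le_of_invariant (hb : Bend S) {W : Submodule F V} (hW : S.TI W)
    (hne : W ≠ ⊥) (hnx : W ≠ F ∙ x) (hinv : flagRad ρ S x a ≤ stab ρ W) :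
    (F ∙ x) ⊔ (F ∙ a) ≤ W := by
  have hxW := mem_of_invariant hfl hρ hR hW hne hinv
  refine sup_le ((Submodule.span_singleton_le_iff_mem _ _).2 hxW)
    ((Submodule.span_singleton_le_iff_mem _ _).2 (by_contra fun haW => ?_))
  obtain ⟨b, hb', hbx⟩ := SetLike.exists_of_lt (lt_of_le_of_ne
    ((Submodule.span_singleton_le_iff_mem _ _).2 hxW) (Ne.symm hnx))
  have hbl : b ∉ (F ∙ x) ⊔ (F ∙ a) := fun h => by
    obtain ⟨s, hs, t, ht, rfl⟩ := Submodule.mem_sup.1 h
    obtain ⟨c, rfl⟩ := Submodule.mem_span_singleton.1 ht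
    obtain ⟨d, rfl⟩ := Submodule.mem_span_singleton.1 hs
    have h1 : c • a ∈ W := by
      have := W.sub_mem hb' (W.smul_mem d hxW)
      rwa [add_sub_cancel_left] at this
    by_cases hc : c = 0
    · exact hbx (by rw [hc, zero_smul, add_zero]; exact Submodule.smul_mem _ _ (Submodule.mem_span_singleton_self x))
    · exact haW ((W.smul_mem_iff hc).1 h1)
  have hbx0 : S.B b x = 0 := hW.2 hb' x hxW
  have haL : a ∈ (F ∙ x) ⊔ (F ∙ a) := Submodule.mem_sup_right (Submodule.mem_span_singleton_self a)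
  by_cases hba : S.B b a = 0
  · have hbp : b ∈ S.perp ((F ∙ x) ⊔ (F ∙ a)) := fun w hw => by
      obtain ⟨s, hs, t, ht, rfl⟩ := Submodule.mem_sup.1 hw
      obtain ⟨d, rfl⟩ := Submodule.mem_span_singleton.1 hs
      obtain ⟨c, rfl⟩ := Submodule.mem_span_singleton.1 ht
      simp [S.add_right, S.smul_right, hbx0, hba]
    obtain ⟨u, hu, hbu⟩ := exists_perp_ne hfl.ti hbp hbl
    obtain ⟨z, hz, haz⟩ := exists_sing_opp hfl.sa hfl.a0
    obtain ⟨e, he⟩ := S.sing_adjust a (z + u) hfl.sa (by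
      rw [S.add_left, hu a haL, add_zero]
      exact fun h => haz (S.eq_zero_comm.1 h))
    obtain ⟨g, hg, -, hgm⟩ := exists_rad hρ hR hfl.ti haL hz haz hu he
    have h1 := W.sub_mem hb' (stab_apply (hinv (Subgroup.mem_sup_right hg)) hb')
    rw [hgm b hba, sub_sub_cancel] at h1
    exact haW ((W.smul_mem_iff (div_ne_zero hbu haz)).1 h1)
  · have hab : S.B a b ≠ 0 := fun h => hba (S.eq_zero_comm.1 h)
    obtain ⟨u, e, hux, hua, hs, hne'⟩ := hb x a b hfl.sx hfl.sa (hW.1 b hb') hfl.perp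
      (S.eq_zero_comm.1 hbx0) hab
    have hu : u ∈ S.perp ((F ∙ x) ⊔ (F ∙ a)) := fun w hw => by
      obtain ⟨s, hs, t, ht, rfl⟩ := Submodule.mem_sup.1 hw
      obtain ⟨d, rfl⟩ := Submodule.mem_span_singleton.1 hs
      obtain ⟨c, rfl⟩ := Submodule.mem_span_singleton.1 ht
      simp [S.add_right, S.smul_right, hux, hua]
    obtain ⟨g, hg, hgb, -⟩ := exists_rad hρ hR hfl.ti haL (hW.1 b hb') hab hu hs
    refine hne' (hW.2 hb' _ ?_)
    rw [← hgb]
    exact stab_apply (hinv (Subgroup.mem_sup_right hg)) hb'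

/-- Subgroups containing the radical of the point and moving it off its perp are transitive. -/
theorem transitive {D : Subgroup G} (hD : H32.Local.rad ρ S (F ∙ x) ≤ D) {d : G} (hd : d ∈ D)
    (hdx : S.B x (ρ d x) ≠ 0) {y : V} (hy : S.Sing y) (hy0 : y ≠ 0) :
    ∃ d ∈ D, ρ d x ∈ F ∙ y := by
  have hxTI := S.ti_singleton hfl.sx
  have step : ∀ y, S.Sing y → S.B x y ≠ 0 → ∃ d ∈ D, ρ d x ∈ F ∙ y := by
    intro y hy hxy
    set w := ρ d x with hw
    set c := S.σ (S.B x w / S.B x y)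
    have h1 : S.B x (c • y) = S.B x w := by
      rw [S.smul_right, S.σ_σ, div_mul_cancel₀ _ hxy]
    have hu : c • y - w ∈ S.perp (F ∙ x) := S.perp_span_singleton.2 (S.eq_zero_comm.1 (by
      rw [S.sub_right, h1, sub_self]))
    have hs : S.Sing (w + (c • y - w) + (0 : F) • x) := by
      rw [zero_smul, add_zero, add_sub_cancel]
      exact S.sing_smul _ _ hy
    obtain ⟨g, hg, hgw, -⟩ := exists_rad hρ hR hxTI (Submodule.mem_span_singleton_self x)
      (hρ.sing d x hfl.sx) hdx hu hs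
    refine ⟨g * d, mul_mem (hD hg) hd, ?_⟩
    rw [map_mul, LinearEquiv.mul_apply, ← hw, hgw, zero_smul, add_zero, add_sub_cancel]
    exact Submodule.smul_mem _ _ (Submodule.mem_span_singleton_self y)
  by_cases hxy : S.B x y = 0
  swap
  · exact step y hy hxy
  obtain ⟨z, hz, hxz, hyz⟩ : ∃ z, S.Sing z ∧ S.B x z ≠ 0 ∧ S.B y z ≠ 0 := by
    obtain ⟨z₁, hz₁, h1⟩ := exists_sing_opp hfl.sx hfl.x0
    obtain ⟨z₂, hz₂, h2⟩ := exists_sing_opp hy hy0
    obtain ⟨z₀, g1, g2⟩ : ∃ z₀, S.B x z₀ ≠ 0 ∧ S.B y z₀ ≠ 0 := by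
      by_cases c1 : S.B y z₁ = 0
      · by_cases c2 : S.B x z₂ = 0
        · exact ⟨z₁ + z₂, by rw [S.add_right, c2, add_zero]; exact h1,
            by rw [S.add_right, c1, zero_add]; exact h2⟩
        · exact ⟨z₂, c2, h2⟩
      · exact ⟨z₁, h1, c1⟩
    obtain ⟨c, hc⟩ := S.sing_adjust x z₀ hfl.sx (fun h => g1 (S.eq_zero_comm.1 h))
    refine ⟨_, hc, ?_, ?_⟩
    · rw [S.add_right, S.smul_right, S.sing_self x hfl.sx, mul_zero, add_zero]; exact g1
    · rw [S.add_right, S.smul_right, S.eq_zero_comm.1 hxy, mul_zero, add_zero]; exact g2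
  obtain ⟨d₁, hd₁, hd₁x⟩ := step z hz hxz
  obtain ⟨c, hc⟩ := Submodule.mem_span_singleton.1 hd₁x
  have hc0 : c ≠ 0 := fun h => hfl.x0 ((ρ d₁).injective (by rw [← hc, h, zero_smul, map_zero]))
  have hopp : S.B x (ρ d₁⁻¹ y) ≠ 0 := by
    intro h0
    rw [← hρ.form d₁, ρ_inv', ← hc, S.smul_left, mul_eq_zero] at h0
    exact h0.elim hc0 fun h => hyz (S.eq_zero_comm.1 h)
  obtain ⟨d₂, hd₂, hd₂x⟩ := step _ (hρ.sing _ _ hy) hopp
  obtain ⟨b, hb⟩ := Submodule.mem_span_singleton.1 hd₂x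
  refine ⟨d₁ * d₂, mul_mem hd₁ hd₂, ?_⟩
  rw [map_mul, LinearEquiv.mul_apply, ← hb, map_smul, ρ_inv']
  exact Submodule.smul_mem _ _ (Submodule.mem_span_singleton_self y)

/-- An element of the line stabiliser moving the point. -/
theorem exists_shift : ∃ g ∈ stab ρ ((F ∙ x) ⊔ (F ∙ a)), ∃ c : F, c ≠ 0 ∧ ρ g x = x - c • a := by
  have haTI := S.ti_singleton hfl.sa
  have hxa' : x ∉ F ∙ a := fun h => hfl.indep (line_eq hfl.x0 h ▸ Submodule.mem_span_singleton_self a)
  obtain ⟨u, hu, hxu⟩ := exists_perp_ne haTI (S.perp_span_singleton.2 hfl.perp) hxa'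
  obtain ⟨z, hz, haz⟩ := exists_sing_opp hfl.sa hfl.a0
  obtain ⟨e, he⟩ := S.sing_adjust a (z + u) hfl.sa (by
    rw [S.add_left, S.perp_span_singleton.1 hu, add_zero]
    exact fun h => haz (S.eq_zero_comm.1 h))
  obtain ⟨g, hg, -, hgm⟩ := exists_rad hρ hR haTI (Submodule.mem_span_singleton_self a) hz haz hu he
  refine ⟨g, act_eq_of_le ρ fun v hv => ?_, _, div_ne_zero hxu haz, hgm x hfl.perp⟩
  rw [hgm v (hfl.ti.2 hv a (Submodule.mem_sup_right (Submodule.mem_span_singleton_self a)))]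
  exact Submodule.sub_mem _ hv (Submodule.smul_mem _ _ (Submodule.mem_sup_right (Submodule.mem_span_singleton_self a)))

theorem exists_moved : ∃ g : G, g ∉ stab ρ (F ∙ x) := by
  obtain ⟨g, -, c, hc, hgx⟩ := exists_shift hfl hρ hR
  refine ⟨g, fun hg => hfl.indep ?_⟩
  have h1 := Submodule.sub_mem _ (Submodule.mem_span_singleton_self x)
    (stab_apply hg (Submodule.mem_span_singleton_self x))
  rw [hgx, sub_sub_cancel] at h1
  exact ((F ∙ x).smul_mem_iff hc).1 h1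

/-- The two stabilisers move the point off its perp. -/
theorem exists_opp_move (hb : Bend S) {D : Subgroup G} (h1 : stab ρ (F ∙ x) ≤ D)
    (h2 : stab ρ ((F ∙ x) ⊔ (F ∙ a)) ≤ D) : ∃ d ∈ D, S.B x (ρ d x) ≠ 0 := by
  obtain ⟨g, hg, c, hc, hgx⟩ := exists_shift hfl hρ hR
  have hax : a ∈ S.perp (F ∙ x) := S.perp_span_singleton.2 (S.eq_zero_comm.1 hfl.perp)
  obtain ⟨z₀, hz₀, haz₀⟩ := exists_perp_ne (S.ti_singleton hfl.sx) hax hfl.indep
  obtain ⟨k, hk⟩ := S.sing_adjust a z₀ hfl.sa fun h => haz₀ (S.eq_zero_comm.1 h)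
  set z := z₀ + k • a with hz
  have hzx : S.B x z = 0 := by
    rw [hz, S.add_right, S.smul_right, hfl.perp, S.eq_zero_comm.1 (S.perp_span_singleton.1 hz₀),
      mul_zero, add_zero]
  have haz : S.B a z ≠ 0 := by
    rw [hz, S.add_right, S.smul_right, S.sing_self a hfl.sa, mul_zero, add_zero]; exact haz₀
  have hza : S.B z a ≠ 0 := fun h => haz (S.eq_zero_comm.1 h)
  obtain ⟨u, e, hux, huz, hs, hne⟩ := hb x z a hfl.sx hk hfl.sa hzx hfl.perp hza
  obtain ⟨h, -, hha, hhm⟩ := exists_rad hρ hR (S.ti_singleton hk) (Submodule.mem_span_singleton_self z)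
    hfl.sa hza (S.perp_span_singleton.2 huz) hs
  have hhx : ρ h x = x := by
    rw [hhm x hzx, S.eq_zero_comm.1 hux, zero_div, zero_smul, sub_zero]
  have hh : h ∈ stab ρ (F ∙ x) := act_eq_of_fix ρ fun v hv => by
    obtain ⟨b, rfl⟩ := Submodule.mem_span_singleton.1 hv
    rw [map_smul, hhx]
  refine ⟨g⁻¹ * h * g, mul_mem (mul_mem (inv_mem (h2 hg)) (h1 hh)) (h2 hg), ?_⟩
  have key : S.B (ρ g x) (ρ h (ρ g x)) = c * S.σ c * S.B a (ρ h a) := by
    have e1 : S.B x (ρ h a) = 0 := by rw [← hhx, hρ.form, hfl.perp]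
    rw [hgx, map_sub, map_smul, hhx, S.sub_left, S.sub_right, S.sub_right, S.smul_left, S.smul_left,
      S.smul_right, S.smul_right, S.sing_self x hfl.sx, e1, S.eq_zero_comm.1 hfl.perp]
    ring
  have e2 : ρ (g⁻¹ * h * g) x = ρ g⁻¹ (ρ h (ρ g x)) := by rw [map_mul, map_mul]; rfl
  rw [e2, ← hρ.form g, ρ_inv', key, hha]
  exact mul_ne_zero (mul_ne_zero hc fun h0 => hc (by rw [← S.σ_σ c, h0, map_zero])) hne

end Flag

end H32.PMin.Pol
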