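import Cfsg.Agent.H32.PMin.Polar

/-!
The invariant generating pair of a classical group modulo its centre.
-/

set_option autoImplicit false
set_option linter.unusedSectionVars false
set_option linter.style.haveILetI false

namespace H32.PMin

/-- A `p`-subgroup whose overgroups in `M` are normalised inside `M` lies in a Sylow subgroup in `M`. -/
theorem exists_sylow_between {G : Type*} [Group G] [Finite G] {p : ℕ} [Fact p.Prime] {R M : Subgroup G}
    (hRM : R ≤ M) (hR : IsPGroup p R)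
    (hN : ∀ P : Subgroup G, R ≤ P → P ≤ M → Subgroup.normalizer (P : Set G) ≤ M) :
    ∃ P : Sylow p G, R ≤ P ∧ (P : Subgroup G) ≤ M := by
  obtain ⟨P₀, hP₀⟩ := (hR.comap_of_injective M.subtype M.subtype_injective :
    IsPGroup p (R.subgroupOf M)).exists_le_sylow
  set P' : Subgroup G := (P₀ : Subgroup M).map M.subtype
  have hPM : P' ≤ M := Subgroup.map_subtype_le _
  have hRP : R ≤ P' := fun r hr => ⟨⟨r, hRM hr⟩, hP₀ (Subgroup.mem_subgroupOf.2 hr), rfl⟩
  obtain ⟨P, hP⟩ := (P₀.isPGroup'.map M.subtype).exists_le_sylow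
  refine ⟨P, hRP.trans hP, le_trans ?_ hPM⟩
  by_contra hne
  have hlt : P'.subgroupOf (P : Subgroup G) < ⊤ :=
    lt_top_iff_ne_top.2 fun e => hne (Subgroup.subgroupOf_eq_top.1 e)
  haveI : Group.IsNilpotent ↥(P : Subgroup G) := P.isPGroup'.isNilpotent
  obtain ⟨g, hgN, hgP⟩ := SetLike.exists_of_lt
    (Group.normalizerCondition_of_isNilpotent (G := ↥(P : Subgroup G)) _ hlt)
  have hgM : (g : G) ∈ M := hN P' hRP hPM (Subgroup.mem_normalizer_iff.2 fun x => by
    constructor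
    · intro hx
      exact ((Subgroup.mem_normalizer_iff.1 hgN) ⟨x, hP hx⟩).1 hx
    · intro hx
      have hxP : x ∈ (P : Subgroup G) := by
        have := mul_mem (mul_mem (inv_mem g.2) (hP hx)) g.2
        simpa [mul_assoc] using this
      exact ((Subgroup.mem_normalizer_iff.1 hgN) ⟨x, hxP⟩).2 hx)
  -- `g` together with `P₀` is a `p`-subgroup of `M`
  have hsub : (P₀ : Subgroup M) ≤ (P : Subgroup G).subgroupOf M := fun m hm =>
    Subgroup.mem_subgroupOf.2 (hP ⟨m, hm, rfl⟩)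
  have heq := P₀.3 (P.isPGroup'.comap_of_injective M.subtype M.subtype_injective) hsub
  exact hgP ⟨⟨g, hgM⟩, heq ▸ (Subgroup.mem_subgroupOf.2 g.2), rfl⟩

namespace Pol

open H17.Polar H32.Local

variable {F : Type*} [Field F] [Finite F] {V : Type*} [AddCommGroup V] [Module F V] [Finite V]
  {G : Type*} [Group G] (ρ : G →* (V ≃ₗ[F] V)) (S : Space F V)

/-- An automorphism of the central quotient induced by a semisimilarity. -/
def Semi (α : MulAut (G ⧸ Subgroup.center G)) : Prop :=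
  ∃ (σ : F ≃+* F) (T : V ≃+ V), (∀ (c : F) v, T (c • v) = σ c • T v) ∧ (∀ v, S.Sing v → S.Sing (T v)) ∧
    (∀ u v, S.B u v = 0 → S.B (T u) (T v) = 0) ∧
    ∀ s : G, ∃ s' : G, (s' : G ⧸ Subgroup.center G) = α s ∧ ∀ v, ρ s' (T v) = T (ρ s v)

/-- The central elements fix singular subspaces. -/
def Moves : Prop :=
  ∀ r x, S.Sing r → S.Sing x → S.B r x ≠ 0 → ∃ x', S.Sing x' ∧ x' ≠ x ∧ S.B r x' = S.B r x

/-- The stabiliser in the central quotient. -/
def St (W : Submodule F V) : Subgroup (G ⧸ Subgroup.center G) :=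
  (stab ρ W).map (QuotientGroup.mk' (Subgroup.center G))

/-- The image of a subspace under a semilinear bijection. -/
def semImg (σ : F ≃+* F) (T : V ≃+ V) (h : ∀ (c : F) v, T (c • v) = σ c • T v) (W : Submodule F V) :
    Submodule F V where
  carrier := T '' W
  add_mem' := by
    rintro _ _ ⟨a, ha, rfl⟩ ⟨b, hb, rfl⟩
    exact ⟨a + b, W.add_mem ha hb, map_add T a b⟩
  zero_mem' := ⟨0, W.zero_mem, map_zero T⟩
  smul_mem' := by
    rintro c _ ⟨a, ha, rfl⟩
    exact ⟨σ.symm c • a, W.smul_mem _ ha, by rw [h, RingEquiv.apply_symm_apply]⟩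

variable {ρ S} (hρ : Isom ρ S) (hR : Roots ρ S ⊤ ⊤) (hX : Moves S)

include hρ hR hX

theorem comap_St {W : Submodule F V} (hW : S.TI W) :
    (St ρ W).comap (QuotientGroup.mk' (Subgroup.center G)) = stab ρ W := by
  refine le_antisymm (fun g hg => ?_) (Subgroup.le_comap_map _ _)
  obtain ⟨s, hs, hsg⟩ := hg
  have hz : g * s⁻¹ ∈ Subgroup.center G := by
    rw [← QuotientGroup.eq_one_iff]
    show QuotientGroup.mk' (Subgroup.center G) (g * s⁻¹) = 1
    rw [map_mul, map_inv, hsg, mul_inv_cancel]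
  have h : g * s⁻¹ ∈ stab ρ W := act_central_eq hρ hR hX hz hW
  have := mul_mem h hs
  rwa [inv_mul_cancel_right] at this

variable {x a : V} (hfl : Flag S x a) (hb : Bend S)
include hfl hb

/-- The data of the point and the line. -/
theorem flag_data [Finite G] (hinj : Function.Injective ρ) (p : ℕ) [Fact p.Prime] [CharP F p] :
    ∃ P : Sylow p G, flagRad ρ S x a ≤ P ∧ (P : Subgroup G) ≤ flagStab ρ x a := by
  haveI : Nontrivial V := ⟨⟨x, 0, hfl.x0⟩⟩
  have hL1 : Module.finrank F (F ∙ x : Submodule F V) <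
      Module.finrank F ((F ∙ x) ⊔ (F ∙ a) : Submodule F V) :=
    Submodule.finrank_lt_finrank_of_lt (lt_of_le_of_ne hfl.le fun e => hfl.indep
      (e ▸ Submodule.mem_sup_right (Submodule.mem_span_singleton_self a)))
  refine exists_sylow_between (flagRad_le hfl) (isPGroup_flagRad hfl hρ hinj p) fun P hRP hPM n hn => ?_
  have hinv : ∀ W : Submodule F V, (∀ k ∈ flagStab ρ x a, k ∈ stab ρ W) →
      flagRad ρ S x a ≤ stab ρ (act ρ n W) := fun W hW r hr => by
    have h := hW _ (hPM ((Subgroup.mem_normalizer_iff.1 (inv_mem hn) r).1 (hRP hr)))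
    rw [mem_stab, inv_inv, act_mul, act_mul] at h
    rw [mem_stab]
    have h' := congrArg (act ρ n) h
    rwa [← act_mul, mul_inv_cancel, act_one] at h'
  have hne : ∀ W : Submodule F V, W ≠ ⊥ → act ρ n W ≠ ⊥ := fun W hW h0 => hW (by
    rw [← act_inv_act ρ n W, h0, act, Submodule.map_bot])
  have hx0 : (F ∙ x : Submodule F V) ≠ ⊥ := fun h => hfl.x0 (Submodule.span_singleton_eq_bot.1 h)
  constructor
  · have h1 := mem_of_invariant hfl hρ hR (hρ.act_ti n (S.ti_singleton hfl.sx)) (hne _ hx0)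
      (hinv _ fun k hk => hk.1)
    exact (Submodule.eq_of_le_of_finrank_le ((Submodule.span_singleton_le_iff_mem _ _).2 h1)
      (finrank_act ρ n _).le).symm
  · have h1 := line_le_of_invariant hfl hρ hR hb (hρ.act_ti n hfl.ti)
      (hne _ fun h => hx0 (le_bot_iff.1 (h ▸ hfl.le)))
      (fun e => hL1.ne (by rw [← finrank_act ρ n ((F ∙ x) ⊔ (F ∙ a)), e]))
      (hinv _ fun k hk => hk.2)
    exact (Submodule.eq_of_le_of_finrank_le h1 (finrank_act ρ n _).le).symm

/-- The stabilisers of the point and of the line generate. -/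
theorem sup_eq_top {D : Subgroup G} (h1 : stab ρ (F ∙ x) ≤ D)
    (h2 : stab ρ ((F ∙ x) ⊔ (F ∙ a)) ≤ D) : D = ⊤ := by
  obtain ⟨d, hd, hdx⟩ := exists_opp_move hfl hρ hR hb h1 h2
  refine top_le_iff.1 fun g _ => ?_
  obtain ⟨e, he, hex⟩ := transitive hfl hρ hR (fun r hr => h1 (rad_x_le hfl hr).1) hd hdx
    (hρ.sing g x hfl.sx) (fun h => hfl.x0 ((ρ g).injective (by rw [h, map_zero])))
  have hst : g⁻¹ * e ∈ stab ρ (F ∙ x) := act_eq_of_le ρ fun v hv => by
    obtain ⟨b, rfl⟩ := Submodule.mem_span_singleton.1 hv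
    rw [map_smul, map_mul, LinearEquiv.mul_apply]
    refine Submodule.smul_mem _ _ ?_
    obtain ⟨c, hc⟩ := Submodule.mem_span_singleton.1 hex
    rw [← hc, map_smul, ρ_inv]
    exact Submodule.smul_mem _ _ (Submodule.mem_span_singleton_self x)
  have := mul_mem he (inv_mem (h1 hst))
  simpa using this

omit hb in
theorem normalizer_ne_top [Finite G] {p : ℕ} {P : Sylow p G} (hRP : flagRad ρ S x a ≤ P)
    (hPM : (P : Subgroup G) ≤ flagStab ρ x a) :
    Subgroup.normalizer (((P : Subgroup G).map (QuotientGroup.mk' (Subgroup.center G)) :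
      Subgroup (G ⧸ Subgroup.center G)) : Set (G ⧸ Subgroup.center G)) ≠ ⊤ := by
  intro h
  obtain ⟨g, hg⟩ := exists_moved (ρ := ρ) hfl hρ hR
  have hn := Subgroup.normalizer_eq_top_iff.1 h
  refine hg ?_
  have hinv : flagRad ρ S x a ≤ stab ρ (act ρ g (F ∙ x)) := fun r hr => by
    have h1 : g⁻¹ * r * g ∈ stab ρ (F ∙ x) := by
      rw [← comap_St hρ hR hX (S.ti_singleton hfl.sx), Subgroup.mem_comap, map_mul, map_mul, map_inv]
      refine Subgroup.map_mono (fun k hk => (hPM hk).1) ?_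
      simpa using hn.conj_mem _ (⟨r, hRP hr, rfl⟩ : QuotientGroup.mk' (Subgroup.center G) r ∈
        (P : Subgroup G).map (QuotientGroup.mk' (Subgroup.center G)))
        (QuotientGroup.mk' (Subgroup.center G) g)⁻¹
    rw [mem_stab] at h1 ⊢
    have h' := congrArg (act ρ g) h1
    rw [← act_mul, ← mul_assoc, ← mul_assoc, mul_inv_cancel, one_mul, act_mul] at h'
    exact h'
  have hne : act ρ g (F ∙ x) ≠ ⊥ := fun h0 => hfl.x0 ((Submodule.span_singleton_eq_bot (R := F)).1 (by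
    rw [← act_inv_act ρ g (F ∙ x), h0, act, Submodule.map_bot]))
  have h1 := mem_of_invariant hfl hρ hR (hρ.act_ti g (S.ti_singleton hfl.sx)) hne hinv
  exact (Submodule.eq_of_le_of_finrank_le ((Submodule.span_singleton_le_iff_mem _ _).2 h1)
      (finrank_act ρ g _).le).symm

theorem St_ne_top : St ρ (F ∙ x) ≠ ⊤ ∧ St ρ ((F ∙ x) ⊔ (F ∙ a)) ≠ ⊤ := by
  constructor
  · intro h
    obtain ⟨g, hg⟩ := exists_moved (ρ := ρ) hfl hρ hR
    rw [← comap_St hρ hR hX (S.ti_singleton hfl.sx), h] at hg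
    exact hg (Subgroup.mem_top _)
  · intro h
    obtain ⟨d, -, hdx⟩ := exists_opp_move (ρ := ρ) hfl hρ hR hb (D := ⊤) le_top le_top
    have hd : d ∈ stab ρ ((F ∙ x) ⊔ (F ∙ a)) := by
      rw [← comap_St hρ hR hX hfl.ti, h]; exact Subgroup.mem_top _
    exact hdx (hfl.ti.2 (hfl.le (Submodule.mem_span_singleton_self x)) _
      (stab_apply hd (hfl.le (Submodule.mem_span_singleton_self x))))

theorem pair_data [Finite G] (hinj : Function.Injective ρ) (p : ℕ) [Fact p.Prime] [CharP F p] :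
    ∃ P : Sylow p G, flagRad ρ S x a ≤ P ∧ (P : Subgroup G) ≤ flagStab ρ x a ∧
      IsPGroup p ((P : Subgroup G).map (QuotientGroup.mk' (Subgroup.center G))) ∧
      ¬ p ∣ ((P : Subgroup G).map (QuotientGroup.mk' (Subgroup.center G))).index ∧
      Subgroup.normalizer (((P : Subgroup G).map (QuotientGroup.mk' (Subgroup.center G)) :
        Subgroup (G ⧸ Subgroup.center G)) : Set (G ⧸ Subgroup.center G)) ≠ ⊤ ∧
      Pair ((P : Subgroup G).map (QuotientGroup.mk' (Subgroup.center G))) (St ρ (F ∙ x))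
        (St ρ ((F ∙ x) ⊔ (F ∙ a))) := by
  obtain ⟨P, hRP, hPM⟩ := flag_data hρ hR hX hfl hb hinj p
  obtain ⟨n1, n2⟩ := St_ne_top (ρ := ρ) hρ hR hX hfl hb
  refine ⟨P, hRP, hPM, P.isPGroup'.map _,
    fun h => P.not_dvd_index (h.trans (Subgroup.index_map_dvd _ (QuotientGroup.mk'_surjective _))),
    normalizer_ne_top hρ hR hX hfl hRP hPM,
    Subgroup.map_mono fun k hk => (hPM hk).1, Subgroup.map_mono fun k hk => (hPM hk).2, n1, n2, ?_⟩
  refine top_le_iff.1 fun y _ => ?_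
  obtain ⟨s, rfl⟩ := QuotientGroup.mk'_surjective (Subgroup.center G) y
  have hD := sup_eq_top hρ hR hX hfl hb
    (D := (St ρ (F ∙ x) ⊔ St ρ ((F ∙ x) ⊔ (F ∙ a))).comap (QuotientGroup.mk' (Subgroup.center G)))
    (fun k hk => Subgroup.mem_sup_left (show QuotientGroup.mk' _ k ∈ St ρ (F ∙ x) from ⟨k, hk, rfl⟩))
    (fun k hk => Subgroup.mem_sup_right
      (show QuotientGroup.mk' _ k ∈ St ρ ((F ∙ x) ⊔ (F ∙ a)) from ⟨k, hk, rfl⟩))
  exact (hD ▸ Subgroup.mem_top s : s ∈ _)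

/-- Classical groups with semilinear automorphisms only. -/
theorem split_polar [Finite G] (hinj : Function.Injective ρ) (p : ℕ) [Fact p.Prime] [CharP F p]
    (hsemi : ∀ α, Semi ρ S α) : Split p (G ⧸ Subgroup.center G) := by
  obtain ⟨P, hRP, hPM, h1, h2, h3, hpair⟩ := pair_data hρ hR hX hfl hb hinj p
  refine ⟨_, _, _, h1, h2, h3, hpair, fun α hα => ?_⟩
  obtain ⟨σ, T, hT, hTs, hTB, hTG⟩ := hsemi α
  have hfti : ∀ W, S.TI W → S.TI (semImg σ T hT W) := fun W hW =>
    ⟨by rintro _ ⟨v, hv, rfl⟩; exact hTs v (hW.1 v hv),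
      by rintro _ ⟨v, hv, rfl⟩ _ ⟨w, hw, rfl⟩; exact hTB v w (hW.2 hv w hw)⟩
  have hcard : ∀ W : Submodule F V, Nat.card ↥(semImg σ T hT W) = Nat.card ↥W := fun W =>
    (Nat.card_congr (Equiv.Set.image T (W : Set V) T.injective)).symm
  have hle : ∀ W, (St ρ W).map α.toMonoidHom ≤ St ρ (semImg σ T hT W) := fun W => by
    rintro _ ⟨_, ⟨s, hs, rfl⟩, rfl⟩
    obtain ⟨s', hs', hv⟩ := hTG s
    refine ⟨s', act_eq_of_le ρ ?_, hs'⟩
    rintro _ ⟨v, hv', rfl⟩
    exact ⟨_, stab_apply hs hv', (hv v).symm⟩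
  have hinv : ∀ W, S.TI W → (P : Subgroup G) ≤ stab ρ W →
      flagRad ρ S x a ≤ stab ρ (semImg σ T hT W) := fun W hW hPW => by
    refine le_trans hRP ?_
    rw [← comap_St hρ hR hX (hfti W hW), ← Subgroup.map_le_iff_le_comap, ← hα.2]
    exact (Subgroup.map_mono (Subgroup.map_mono hPW)).trans (hle W)
  have hne : ∀ W : Submodule F V, W ≠ ⊥ → semImg σ T hT W ≠ ⊥ := fun W hW h0 => hW
    ((Submodule.eq_bot_iff _).2 fun v hv => T.injective (by
      have : T v ∈ semImg σ T hT W := ⟨v, hv, rfl⟩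
      rw [h0, Submodule.mem_bot] at this
      rw [this, map_zero]))
  have heq : ∀ {A B : Submodule F V}, A ≤ B → Nat.card ↥B = Nat.card ↥A → A = B := fun h hc =>
    SetLike.coe_injective (Set.eq_of_subset_of_ncard_le h (by
      rw [← Nat.card_coe_set_eq, ← Nat.card_coe_set_eq]; exact hc.le) (Set.toFinite _))
  have hx0 : (F ∙ x : Submodule F V) ≠ ⊥ := fun h => hfl.x0 (Submodule.span_singleton_eq_bot.1 h)
  have hxL : (F ∙ x : Submodule F V) ≠ (F ∙ x) ⊔ (F ∙ a) := fun e => hfl.indep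
    (e ▸ Submodule.mem_sup_right (Submodule.mem_span_singleton_self a))
  have e1 : semImg σ T hT (F ∙ x) = F ∙ x := (heq ((Submodule.span_singleton_le_iff_mem _ _).2
    (mem_of_invariant hfl hρ hR (hfti _ (S.ti_singleton hfl.sx)) (hne _ hx0)
      (hinv _ (S.ti_singleton hfl.sx) fun k hk => (hPM hk).1))) (hcard _)).symm
  have e2 : semImg σ T hT ((F ∙ x) ⊔ (F ∙ a)) = (F ∙ x) ⊔ (F ∙ a) := by
    refine (heq (line_le_of_invariant hfl hρ hR hb (hfti _ hfl.ti)
      (hne _ fun h => hx0 (le_bot_iff.1 (h ▸ hfl.le))) (fun e => hxL (heq hfl.le ?_))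
      (hinv _ hfl.ti fun k hk => (hPM hk).2)) (hcard _)).symm
    rw [← hcard ((F ∙ x) ⊔ (F ∙ a)), e]
  have key : ∀ W, semImg σ T hT W = W → (St ρ W).map α.toMonoidHom = St ρ W := fun W hW =>
    Subgroup.eq_of_le_of_card_ge (hW ▸ hle W :)
      (Subgroup.card_map_of_injective (f := α.toMonoidHom) α.injective).ge
  exact ⟨key _ e1, key _ e2⟩

end Pol

end H32.PMin
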