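import Cfsg.Agent.H53.TitsMain
import Cfsg.Agent.H50.Center
import Cfsg.Agent.H50.Simple
import Cfsg.Agent.H14.RigidSmall

/-!
Orders and simplicity of the derived groups of the smallest `G₂` and `²F₄`.
-/

set_option autoImplicit false
set_option maxRecDepth 4000

namespace H32.PMin

open Cfsg

theorem simple_sub {G L : Type*} [Group G] [Group L] {S : Subgroup L} (e : G ≃* ↥S)
    (h : IsSimpleGroup ↥S) : IsSimpleGroup G := e.isSimpleGroup_congr.mpr h

theorem tits_simple_two_dvd {G : Type*} [Group G] (h : Cfsg.Lie.IsoTits G) :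
    IsSimpleGroup G ∧ 2 ∣ Nat.card G := by
  obtain ⟨e⟩ := h
  refine ⟨simple_sub (S := commutator ↥H53.Tits.G2') e H53.Tits.tits_facts.1, ?_⟩
  rw [Nat.card_congr e.toEquiv]
  exact ⟨2 ^ 10 * 3 ^ 3 * 5 ^ 2 * 13, H53.Tits.card_derived⟩

theorem psu33_simple_two_dvd {G : Type*} [Group G] {F : Type*} [Field F] [Fintype F]
    (hF : Fintype.card F = 9) (e : G ≃* Cfsg.PSU 3 F 3) : IsSimpleGroup G ∧ 2 ∣ Nat.card G := by
  have hF2 : Fintype.card F = 3 ^ 2 := by rw [hF]; norm_num
  refine ⟨e.isSimpleGroup_congr.mpr (H50.PSU_isSimple hF2 le_rfl (by norm_num)), ?_⟩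
  have h := H50.card_PSU_mul hF2 (n := 3) (by norm_num)
  rw [H50.card_GU hF2] at h
  norm_num [Finset.prod_range_succ, -Nat.card_eq_fintype_card, Nat.even_add_one] at h
  rw [Nat.card_congr e.toEquiv]
  omega

end H32.PMin
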