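import Cfsg.Agent.H32.PMin.Main
import Cfsg.Agent.H55.PSUAut
import Cfsg.Agent.H50.Center
import Cfsg.Agent.H50.Simple

/-!
The unitary group of dimension three over nine elements at the prime two: the stabiliser of a
nonsingular point and that of an orthonormal frame.
-/

set_option autoImplicit false
set_option linter.unusedSectionVars false
set_option linter.style.haveILetI false

namespace H32.PMin.U33

open Matrix Cfsg H50

variable {F : Type*} [Field F] [Fintype F]

local notation "V" => (Fin 3 → F)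
local notation "SG" => Cfsg.SU 3 F 3

/-- The frame. -/
def ax (i : Fin 3) : V := Pi.single i 1

theorem mulVec_ax (M : Matrix (Fin 3) (Fin 3) F) (i : Fin 3) : M *ᵥ ax i = fun j => M j i :=
  funext fun j => by simp [ax]

theorem mul_app (s t : SG) (v : V) : suMat (s * t) *ᵥ v = suMat s *ᵥ (suMat t *ᵥ v) := by
  rw [suMat_mul, ← mulVec_mulVec]

theorem one_app (v : V) : suMat (1 : SG) *ᵥ v = v := by rw [suMat_one, one_mulVec]

/-- The stabiliser of a nonsingular point. -/
noncomputable def ptStab : Subgroup SG :=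
  { carrier := {s | suMat s *ᵥ ax 0 ∈ F ∙ (ax 0 : V)}
    one_mem' := by
      show suMat (1 : SG) *ᵥ ax 0 ∈ F ∙ (ax 0 : V)
      rw [one_app]
      exact Submodule.mem_span_singleton_self _
    mul_mem' := fun {s t} (hs : suMat s *ᵥ ax 0 ∈ F ∙ (ax 0 : V)) (ht : suMat t *ᵥ ax 0 ∈ F ∙ (ax 0 : V)) => by
      obtain ⟨c, hc⟩ := Submodule.mem_span_singleton.1 ht
      show suMat (s * t) *ᵥ ax 0 ∈ F ∙ (ax 0 : V)
      rw [mul_app, ← hc, mulVec_smul]
      exact Submodule.smul_mem _ _ hs
    inv_mem' := fun {s} (hs : suMat s *ᵥ ax 0 ∈ F ∙ (ax 0 : V)) => by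
      obtain ⟨c, hc⟩ := Submodule.mem_span_singleton.1 hs
      have h1 : suMat s⁻¹ *ᵥ (suMat s *ᵥ ax 0) = ax 0 := by rw [← mul_app, inv_mul_cancel, one_app]
      rw [← hc, mulVec_smul] at h1
      have hc0 : c ≠ 0 := fun h => by
        rw [h, zero_smul] at h1
        exact one_ne_zero (α := F) (by simpa [ax] using (congrFun h1 0).symm)
      show suMat s⁻¹ *ᵥ ax 0 ∈ F ∙ (ax 0 : V)
      refine Submodule.mem_span_singleton.2 ⟨c⁻¹, ?_⟩
      conv_lhs => rw [← h1, smul_smul, inv_mul_cancel₀ hc0, one_smul] }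

/-- The monomial elements, as a submonoid. -/
def frameMon : Submonoid SG where
  carrier := {s | ∀ i, ∃ j, suMat s *ᵥ ax i ∈ F ∙ (ax j : V)}
  one_mem' i := ⟨i, by rw [one_app]; exact Submodule.mem_span_singleton_self _⟩
  mul_mem' {s t} hs ht i := by
    obtain ⟨j, hj⟩ := ht i
    obtain ⟨k, hk⟩ := hs j
    obtain ⟨c, hc⟩ := Submodule.mem_span_singleton.1 hj
    exact ⟨k, by rw [mul_app, ← hc, mulVec_smul]; exact Submodule.smul_mem _ _ hk⟩

/-- The stabiliser of the frame. -/
noncomputable def frameStab : Subgroup SG :=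
  { frameMon with
    inv_mem' := fun {s} hs => by
      have h : s⁻¹ = s ^ (Nat.card SG - 1) := by
        refine inv_eq_of_mul_eq_one_right ?_
        rw [← pow_succ', Nat.sub_add_cancel Nat.card_pos, pow_card_eq_one']
      rw [h]
      exact Submonoid.pow_mem frameMon hs _ }

variable [CharP F 3] (hF : Fintype.card F = 9)

theorem three : (3 : F) = 0 := by exact_mod_cast CharP.cast_eq_zero F 3

include hF

theorem hF2 : Fintype.card F = 3 ^ 2 := by rw [hF]; norm_num

theorem exists_consts : ∃ b i : F, b ^ 4 = -1 ∧ i * i = -1 ∧ b ≠ 0 ∧ i ≠ 0 := by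
  classical
  obtain ⟨u, hu⟩ := IsCyclic.exists_ofOrder_eq_natCard (α := Fˣ)
  rw [Nat.card_units, Nat.card_eq_fintype_card, hF, show (9 - 1 : ℕ) = 8 from rfl] at hu
  have h8 : (u : F) ^ 8 = 1 := by
    rw [← Units.val_pow_eq_pow_val, ← hu, pow_orderOf_eq_one, Units.val_one]
  have h4 : (u : F) ^ 4 ≠ 1 := fun h => by
    have h1 : u ^ 4 = 1 := Units.ext (by simpa using h)
    have := orderOf_dvd_of_pow_eq_one h1
    rw [hu] at this
    norm_num at this
  have hb : (u : F) ^ 4 = -1 :=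
    (mul_self_eq_one_iff.1 (by rw [← pow_add]; exact h8)).resolve_left h4
  exact ⟨u, u ^ 2, hb, by rw [← pow_add]; exact hb, u.ne_zero, pow_ne_zero 2 u.ne_zero⟩

theorem exists_diag {a b c : F} (ha : a ^ 4 = 1) (hb : b ^ 4 = 1) (hc : c ^ 4 = 1) (h : a * b * c = 1) :
    ∃ s : SG, ∀ v : V, suMat s *ᵥ v = ![a * v 0, b * v 1, c * v 2] := by
  refine ⟨mkSU !![a, 0, 0; 0, b, 0; 0, 0, c] (fun u v => ?_) (by simp [det_fin_three, h]), fun v => ?_⟩
  · simp [Cfsg.hermForm, Fin.sum_univ_three, mulVec, dotProduct]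
    linear_combination u 0 * v 0 ^ 3 * ha + u 1 * v 1 ^ 3 * hb + u 2 * v 2 ^ 3 * hc
  · show !![a, 0, 0; 0, b, 0; 0, 0, c] *ᵥ v = _
    funext j
    fin_cases j <;> simp [mulVec, dotProduct, Fin.sum_univ_three]

theorem exists_swap : ∃ s : SG, ∀ v : V, suMat s *ᵥ v = ![-v 0, v 2, v 1] := by
  refine ⟨mkSU !![-1, 0, 0; 0, 0, 1; 0, 1, 0] (fun u v => ?_) (by simp [det_fin_three]), fun v => ?_⟩
  · simp [Cfsg.hermForm, Fin.sum_univ_three, mulVec, dotProduct]
    ring
  · show !![(-1 : F), 0, 0; 0, 0, 1; 0, 1, 0] *ᵥ v = _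
    funext j
    fin_cases j <;> simp [mulVec, dotProduct, Fin.sum_univ_three]

theorem exists_cycle : ∃ s : SG, ∀ v : V, suMat s *ᵥ v = ![v 2, v 0, v 1] := by
  refine ⟨mkSU !![0, 0, 1; 1, 0, 0; 0, 1, 0] (fun u v => ?_) (by simp [det_fin_three]), fun v => ?_⟩
  · simp [Cfsg.hermForm, Fin.sum_univ_three, mulVec, dotProduct]
    ring
  · show !![(0 : F), 0, 1; 1, 0, 0; 0, 1, 0] *ᵥ v = _
    funext j
    fin_cases j <;> simp [mulVec, dotProduct, Fin.sum_univ_three]

theorem exists_mix {b : F} (hb : b ^ 4 = -1) :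
    ∃ s : SG, ∀ v : V, suMat s *ᵥ v = ![v 0, b * v 1 - b ^ 3 * v 2, b * v 1 + b ^ 3 * v 2] := by
  haveI : Fact (Nat.Prime 3) := ⟨Nat.prime_three⟩
  refine ⟨mkSU !![1, 0, 0; 0, b, -b ^ 3; 0, b, b ^ 3] (fun u v => ?_) ?_, fun v => ?_⟩
  · simp [Cfsg.hermForm, Fin.sum_univ_three, mulVec, dotProduct, ← sub_eq_add_neg, sub_pow_char,
      add_pow_char, mul_pow]
    linear_combination (2 * u 1 * v 1 ^ 3 + 2 * u 2 * v 2 ^ 3 * (b ^ 8 - b ^ 4 + 1)) * hb -
      (u 1 * v 1 ^ 3 + u 2 * v 2 ^ 3) * three (F := F)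
  · simp [det_fin_three]
    linear_combination 2 * hb - three (F := F)
  · show !![(1 : F), 0, 0; 0, b, -b ^ 3; 0, b, b ^ 3] *ᵥ v = _
    funext j
    fin_cases j <;> simp [mulVec, dotProduct, Fin.sum_univ_three, sub_eq_add_neg]

omit hF [CharP F 3] in
theorem mem_ptStab {s : SG} (h : (suMat s *ᵥ (ax 0 : V)) 1 = 0) (h' : (suMat s *ᵥ (ax 0 : V)) 2 = 0) :
    s ∈ ptStab (F := F) := by
  show suMat s *ᵥ ax 0 ∈ F ∙ (ax 0 : V)
  refine Submodule.mem_span_singleton.2 ⟨(suMat s *ᵥ (ax 0 : V)) 0, funext fun j => ?_⟩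
  fin_cases j
  · simp [ax]
  · simpa [ax] using h.symm
  · simpa [ax] using h'.symm

theorem coord_zero {s : SG} (hs : s ∈ ptStab (F := F)) {v : V} (hv : v 0 = 0) : (suMat s *ᵥ v) 0 = 0 := by
  obtain ⟨a, ha⟩ := Submodule.mem_span_singleton.1 (show suMat s *ᵥ ax 0 ∈ F ∙ (ax 0 : V) from hs)
  have h := SU_isIso s v (ax 0)
  rw [← ha, h_smul_right (hF2 hF)] at h
  simp [Cfsg.hermForm, ax, Fin.sum_univ_three, hv] at h
  rcases h with h | h
  · exfalso
    rw [h, zero_smul] at ha
    have h1 := SU_isIso s (ax 0) (ax 0)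
    rw [← ha] at h1
    simp [Cfsg.hermForm, ax, Fin.sum_univ_three] at h1
  · exact h

theorem frame_of_flag {s : SG} (h1 : s ∈ ptStab (F := F)) (h2 : s ∈ frameStab (F := F)) :
    ∃ a b c : F, a ^ 4 = 1 ∧ b ^ 4 = 1 ∧ c ^ 4 = 1 ∧
      ((∀ v : V, suMat s *ᵥ v = ![a * v 0, b * v 1, c * v 2]) ∨
        (∀ v : V, suMat s *ᵥ v = ![a * v 0, b * v 2, c * v 1])) := by
  obtain ⟨a, ha⟩ := Submodule.mem_span_singleton.1 (show suMat s *ᵥ ax 0 ∈ F ∙ (ax 0 : V) from h1)
  have hnorm : ∀ i j : Fin 3, ∀ c : F, c • (ax j : V) = suMat s *ᵥ ax i → c ^ 4 = 1 := by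
    intro i j c hc
    have h := SU_isIso s (ax i) (ax i)
    rw [← hc] at h
    simp [Cfsg.hermForm, ax, Pi.single_apply, mul_pow, mul_ite, ite_mul] at h
    linear_combination h
  have hoff : ∀ i, i ≠ 0 → ∃ j, j ≠ 0 ∧ ∃ c : F, c • (ax j : V) = suMat s *ᵥ ax i := by
    intro i hi
    obtain ⟨j, hj⟩ := h2 i
    obtain ⟨c, hc⟩ := Submodule.mem_span_singleton.1 hj
    refine ⟨j, fun hj0 => ?_, c, hc⟩
    have h3 := coord_zero hF h1 (v := ax i) (by simp [ax, Pi.single_apply, hi.symm])
    rw [← hc, hj0] at h3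
    simp [ax] at h3
    have := hnorm i j c hc
    rw [h3] at this
    simp at this
  obtain ⟨j1, hj1, b, hb⟩ := hoff 1 (by decide)
  obtain ⟨j2, hj2, c, hc⟩ := hoff 2 (by decide)
  have hexp : ∀ v : V, suMat s *ᵥ v =
      v 0 • (suMat s *ᵥ ax 0) + v 1 • (suMat s *ᵥ ax 1) + v 2 • (suMat s *ᵥ ax 2) := by
    intro v
    funext k
    simp [mulVec_ax, mulVec, dotProduct, Fin.sum_univ_three]
    ring
  have hne : j1 ≠ j2 := by
    intro e
    have h := SU_isIso s (ax 1) (ax 2)
    rw [← hb, ← hc, e] at h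
    simp [Cfsg.hermForm, ax, Pi.single_apply, mul_pow, mul_ite, ite_mul] at h
    rcases h with h | h
    · have := hnorm _ _ _ hb; rw [h] at this; simp at this
    · have := hnorm _ _ _ hc; rw [h] at this; simp at this
  have cases12 : (j1 = 1 ∧ j2 = 2) ∨ (j1 = 2 ∧ j2 = 1) :=
    (show ∀ x y : Fin 3, x ≠ 0 → y ≠ 0 → x ≠ y → (x = 1 ∧ y = 2) ∨ (x = 2 ∧ y = 1) by decide) j1 j2 hj1 hj2 hne
  rcases cases12 with ⟨rfl, rfl⟩ | ⟨rfl, rfl⟩
  · refine ⟨a, b, c, hnorm _ _ _ ha, hnorm _ _ _ hb, hnorm _ _ _ hc, Or.inl fun v => ?_⟩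
    rw [hexp, ← ha, ← hb, ← hc]
    funext k
    fin_cases k <;> simp [ax, mul_comm]
  · refine ⟨a, c, b, hnorm _ _ _ ha, hnorm _ _ _ hc, hnorm _ _ _ hb, Or.inr fun v => ?_⟩
    rw [hexp, ← ha, ← hb, ← hc]
    funext k
    fin_cases k <;> simp [ax, mul_comm]

theorem isPGroup_inf : IsPGroup 2 ↥(ptStab (F := F) ⊓ frameStab) := by
  rintro ⟨s, h1, h2⟩
  refine ⟨3, Subtype.ext (SU_ext ?_)⟩
  obtain ⟨a, b, c, ha, hb, hc, h | h⟩ := frame_of_flag hF h1 h2
  all_goals
    refine Matrix.ext_of_mulVec_single fun i => ?_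
    show suMat (s ^ 2 ^ 3) *ᵥ _ = suMat (1 : SG) *ᵥ _
    have e8 : s ^ 2 ^ 3 = ((s * s) * (s * s)) * ((s * s) * (s * s)) := by
      simp only [show (2 : ℕ) ^ 3 = 8 from rfl, pow_succ, pow_zero, one_mul, mul_assoc]
    rw [e8, one_app]
    simp only [mul_app, h]
    funext k
    fin_cases k
  · simp only [Fin.zero_eta, Matrix.cons_val_zero]; linear_combination (a ^ 4 + 1) * (Pi.single i (1 : F) : V) 0 * ha
  · simp only [Fin.mk_one, Matrix.cons_val_one, Matrix.cons_val_zero]; linear_combination (b ^ 4 + 1) * (Pi.single i (1 : F) : V) 1 * hb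
  · simp only [Fin.reduceFinMk, Matrix.cons_val]; linear_combination (c ^ 4 + 1) * (Pi.single i (1 : F) : V) 2 * hc
  · simp only [Fin.zero_eta, Matrix.cons_val_zero]; linear_combination (a ^ 4 + 1) * (Pi.single i (1 : F) : V) 0 * ha
  · simp only [Fin.mk_one, Matrix.cons_val_one, Matrix.cons_val_zero, Matrix.cons_val]
    linear_combination (c ^ 4 * (Pi.single i (1 : F) : V) 1) * hb + (Pi.single i (1 : F) : V) 1 * hc
  · simp only [Fin.reduceFinMk, Matrix.cons_val, Matrix.cons_val_one, Matrix.cons_val_zero]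
    linear_combination (c ^ 4 * (Pi.single i (1 : F) : V) 2) * hb + (Pi.single i (1 : F) : V) 2 * hc

theorem card_SU : Nat.card SG = 6048 := by
  have h := H50.card_SU_mul (hF2 hF) (n := 3) (by norm_num)
  rw [H50.card_GU (hF2 hF)] at h
  norm_num [Finset.prod_range_succ, -Nat.card_eq_fintype_card, Nat.even_add_one] at h
  omega

theorem umk_injective : Function.Injective (H55.Psu.umk : SG → Cfsg.PSU 3 F 3) := by
  intro a b h
  have h1 := H55.Psu.umk_eq_iff.1 h
  have hc := H50.card_center_SU (hF2 hF) (n := 3) (by norm_num)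
  have hbot := Subgroup.eq_bot_of_card_eq (Subgroup.center SG) (hc.trans (by norm_num))
  rw [hbot, Subgroup.mem_bot, inv_mul_eq_one] at h1
  exact h1

omit hF [Fintype F] [CharP F 3] in
theorem pow4_i {i : F} (hi : i * i = -1) : i ^ 4 = 1 := by linear_combination (i * i - 1) * hi

theorem card_inf : Nat.card ↥(ptStab (F := F) ⊓ frameStab) = 32 := by
  classical
  obtain ⟨k, hk⟩ := IsPGroup.iff_card.1 (isPGroup_inf hF)
  have hdvd := Subgroup.card_subgroup_dvd_card (ptStab (F := F) ⊓ frameStab)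
  rw [hk, card_SU hF] at hdvd
  have hk5 : k ≤ 5 := by
    by_contra h
    have : 2 ^ 6 ∣ 6048 := (pow_dvd_pow 2 (by omega : 6 ≤ k)).trans hdvd
    norm_num at this
  obtain ⟨-, i, -, hi, -, hi0⟩ := exists_consts hF
  obtain ⟨w, hw⟩ := exists_swap hF
  -- four powers
  let S4 : Finset F := {1, -1, i, -i}
  have hS4 : ∀ x ∈ S4, x ^ 4 = 1 := by
    intro x hx
    simp only [S4, Finset.mem_insert, Finset.mem_singleton] at hx
    rcases hx with rfl | rfl | rfl | rfl
    · ring
    · ring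
    · exact pow4_i hi
    · linear_combination pow4_i hi
  have hcard : S4.card = 4 := by
    have hn : (2 : F) ≠ 0 := fun h => one_ne_zero (α := F) (by linear_combination three (F := F) - h)
    have e1 : (1 : F) ≠ -1 := fun h => hn (by linear_combination h)
    have e2 : (1 : F) ≠ i := fun h => e1 (by linear_combination hi + (i + 1) * h)
    have e3 : (1 : F) ≠ -i := fun h => e1 (by linear_combination hi + (1 - i) * h)
    have e4 : (-1 : F) ≠ i := fun h => e3 (by linear_combination -h)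
    have e5 : (-1 : F) ≠ -i := fun h => e2 (by linear_combination -h)
    have e6 : i ≠ -i := fun h => hn (by
      have := mul_right_cancel₀ hi0 (show (1 : F) * i = -1 * i by linear_combination h)
      linear_combination this)
    simp [S4, Finset.card_insert_of_notMem, e1, e2, e3, e4, e5, e6]
  have hd : ∀ x : ↥S4 × ↥S4, ∃ s : SG, ∀ v : V, suMat s *ᵥ v =
      ![(x.1.1 * x.2.1)⁻¹ * v 0, x.1.1 * v 1, x.2.1 * v 2] := fun x => by
    have h1 := hS4 _ x.1.2
    have h2 := hS4 _ x.2.2
    have h0 : x.1.1 * x.2.1 ≠ 0 := fun h => one_ne_zero (α := F) (by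
      calc (1 : F) = x.1.1 ^ 4 * x.2.1 ^ 4 := by rw [h1, h2, one_mul]
        _ = 0 := by rw [← mul_pow, h]; simp)
    exact exists_diag hF (by rw [inv_pow, mul_pow, h1, h2, one_mul, inv_one]) h1 h2
      (by rw [mul_assoc, inv_mul_cancel₀ h0])
  choose d hdv using hd
  let f : (↥S4 × ↥S4) × Bool → ↥(ptStab (F := F) ⊓ frameStab) := fun x =>
    ⟨if x.2 then d x.1 * w else d x.1, by
      split_ifs
      · refine ⟨mem_ptStab (by rw [mul_app, hw, hdv]; simp [ax]) (by rw [mul_app, hw, hdv]; simp [ax]), ?_⟩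
        intro j
        fin_cases j
        · exact ⟨0, Submodule.mem_span_singleton.2 ⟨-(x.1.1.1 * x.1.2.1)⁻¹, funext fun l => by
            rw [mul_app, hw, hdv]; fin_cases l <;> simp [ax]⟩⟩
        · exact ⟨2, Submodule.mem_span_singleton.2 ⟨x.1.2.1, funext fun l => by
            rw [mul_app, hw, hdv]; fin_cases l <;> simp [ax]⟩⟩
        · exact ⟨1, Submodule.mem_span_singleton.2 ⟨x.1.1.1, funext fun l => by
            rw [mul_app, hw, hdv]; fin_cases l <;> simp [ax]⟩⟩
      · refine ⟨mem_ptStab (by simp [hdv, ax]) (by simp [hdv, ax]), ?_⟩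
        intro j
        fin_cases j
        · exact ⟨0, Submodule.mem_span_singleton.2 ⟨(x.1.1.1 * x.1.2.1)⁻¹, funext fun l => by
            fin_cases l <;> simp [hdv, ax]⟩⟩
        · exact ⟨1, Submodule.mem_span_singleton.2 ⟨x.1.1.1, funext fun l => by
            fin_cases l <;> simp [hdv, ax]⟩⟩
        · exact ⟨2, Submodule.mem_span_singleton.2 ⟨x.1.2.1, funext fun l => by
            fin_cases l <;> simp [hdv, ax]⟩⟩⟩
  have hf : Function.Injective f := by
    rintro ⟨⟨⟨x, hx⟩, ⟨y, hy⟩⟩, u⟩ ⟨⟨⟨x', hx'⟩, ⟨y', hy'⟩⟩, u'⟩ h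
    have hx0 : x ≠ 0 := fun e => by simpa [e] using hS4 x hx
    have hx0' : x' ≠ 0 := fun e => by simpa [e] using hS4 x' hx'
    have h' : ∀ v : V, suMat (f ((⟨x, hx⟩, ⟨y, hy⟩), u)).1 *ᵥ v =
        suMat (f ((⟨x', hx'⟩, ⟨y', hy'⟩), u')).1 *ᵥ v := fun v => by rw [h]
    have a1 := congrFun (h' ![0, 1, 0]) 1
    have a2 := congrFun (h' ![0, 0, 1]) 2
    have b1 := congrFun (h' ![0, 0, 1]) 1
    have b2 := congrFun (h' ![0, 1, 0]) 2
    cases u <;> cases u' <;> simp [f, mul_app, hdv, hw] at a1 a2 b1 b2 ⊢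
    all_goals first
      | exact ⟨a1, a2⟩
      | exact ⟨b1, b2⟩
      | exact absurd a1 hx0
      | exact absurd a1.symm hx0'
  have h32 := Nat.card_le_card_of_injective f hf
  rw [Nat.card_prod, Nat.card_prod, Nat.card_eq_fintype_card, Fintype.card_coe, hcard,
    Nat.card_eq_fintype_card, Fintype.card_bool, hk] at h32
  have : k = 5 := by
    interval_cases k <;> simp_all
  rw [hk, this]
  norm_num

theorem sup_top : ptStab (F := F) ⊔ frameStab = ⊤ := by
  classical
  haveI : IsSimpleGroup (Cfsg.PSU 3 F 3) := H50.PSU_isSimple (hF2 hF) le_rfl (by norm_num)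
  haveI : IsSimpleGroup SG := (MulEquiv.ofBijective (H55.Psu.umk : SG →* Cfsg.PSU 3 F 3)
    ⟨umk_injective hF, H55.Psu.umk_surjective⟩).isSimpleGroup_congr.mpr ‹_›
  by_contra hne
  set D := ptStab (F := F) ⊔ frameStab with hD
  obtain ⟨b, i, hb, hi, hb0, hi0⟩ := exists_consts hF
  obtain ⟨p, hp⟩ := exists_cycle hF
  obtain ⟨h, hh⟩ := exists_mix hF hb
  have hhY : h ∈ ptStab (F := F) := mem_ptStab (by simp [hh, ax]) (by simp [hh, ax])
  have hhU : h ∉ frameStab (F := F) := fun hf => by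
    obtain ⟨j, hj⟩ := hf 1
    obtain ⟨c, hc⟩ := Submodule.mem_span_singleton.1 hj
    fin_cases j
    · simpa [hh, ax, hb0, eq_comm] using congrFun hc 1
    · simpa [hh, ax, hb0, eq_comm] using congrFun hc 2
    · simpa [hh, ax, hb0, eq_comm] using congrFun hc 1
  have hpY : p ∈ frameStab (F := F) := by
    intro j
    fin_cases j
    · exact ⟨1, Submodule.mem_span_singleton.2 ⟨1, funext fun l => by fin_cases l <;> simp [hp, ax]⟩⟩
    · exact ⟨2, Submodule.mem_span_singleton.2 ⟨1, funext fun l => by fin_cases l <;> simp [hp, ax]⟩⟩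
    · exact ⟨0, Submodule.mem_span_singleton.2 ⟨1, funext fun l => by fin_cases l <;> simp [hp, ax]⟩⟩
  letI : SMul SG (Submodule F V) := ⟨fun s W => W.map (suMat s).mulVecLin⟩
  letI : MulAction SG (Submodule F V) :=
    { one_smul := fun W => by
        show W.map (suMat (1 : SG)).mulVecLin = W
        rw [suMat_one, Matrix.mulVecLin_one, Submodule.map_id]
      mul_smul := fun s t W => by
        show W.map (suMat (s * t)).mulVecLin = (W.map _).map _
        rw [suMat_mul, Matrix.mulVecLin_mul, Submodule.map_comp] }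
  have smul_span : ∀ (s : SG) (v : V), s • (F ∙ v : Submodule F V) = F ∙ (suMat s *ᵥ v) := fun s v => by
    show Submodule.map _ _ = _
    rw [Submodule.map_span, Set.image_singleton]
    rfl
  -- eleven lines in one orbit
  let S4 : Finset F := {1, -1, i, -i}
  have hS4 : ∀ x ∈ S4, x ^ 4 = 1 := by
    intro x hx
    simp only [S4, Finset.mem_insert, Finset.mem_singleton] at hx
    rcases hx with rfl | rfl | rfl | rfl
    · ring
    · ring
    · exact pow4_i hi
    · linear_combination pow4_i hi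
  have hcard : 4 ≤ S4.card := by
    have hn : (2 : F) ≠ 0 := fun h => one_ne_zero (α := F) (by linear_combination three (F := F) - h)
    have e1 : (1 : F) ≠ -1 := fun h => hn (by linear_combination h)
    have e2 : (1 : F) ≠ i := fun h => e1 (by linear_combination hi + (i + 1) * h)
    have e3 : (1 : F) ≠ -i := fun h => e1 (by linear_combination hi + (1 - i) * h)
    have e4 : (-1 : F) ≠ i := fun h => e3 (by linear_combination -h)
    have e5 : (-1 : F) ≠ -i := fun h => e2 (by linear_combination -h)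
    have e6 : i ≠ -i := fun h => hn (by
      have := mul_right_cancel₀ hi0 (show (1 : F) * i = -1 * i by linear_combination h)
      linear_combination this)
    simp [S4, Finset.card_insert_of_notMem, e1, e2, e3, e4, e5, e6]
  let g : Fin 3 ⊕ (Bool × ↥S4) → Submodule F V := fun z => F ∙ (Sum.elim (fun j => (ax j : V))
    (fun w => if w.1 then ![0, b, w.2.1 * b] else ![w.2.1 * b, 0, b]) z)
  have horb : ∀ z, g z ∈ MulAction.orbit D (F ∙ (ax 0 : V) : Submodule F V) := by
    have hpD : p ∈ D := Subgroup.mem_sup_right hpY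
    have he1 : suMat p *ᵥ (ax 0 : V) = ax 1 := by rw [hp]; funext l; fin_cases l <;> simp [ax]
    rintro (j | ⟨u, x, hx⟩)
    · fin_cases j
      · exact MulAction.mem_orbit_self _
      · exact ⟨⟨p, hpD⟩, (smul_span p _).trans (by rw [he1]; rfl)⟩
      · refine ⟨⟨p * p, mul_mem hpD hpD⟩, (smul_span (p * p) _).trans ?_⟩
        rw [mul_app, he1, hp]
        show _ = F ∙ (ax 2 : V)
        congr 1; congr 1; funext l; fin_cases l <;> simp [ax]
    · have hx4 := hS4 x hx
      have hx0 : x ≠ 0 := fun e => by simpa [e] using hx4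
      obtain ⟨d, hd⟩ := exists_diag hF (a := x⁻¹) (b := 1) (c := x) (by rw [inv_pow, hx4, inv_one])
        (one_pow 4) hx4 (by rw [mul_one, inv_mul_cancel₀ hx0])
      have hdY : d ∈ D := Subgroup.mem_sup_left (mem_ptStab (by simp [hd, ax]) (by simp [hd, ax]))
      cases u
      · refine ⟨⟨p * (d * (h * p)), mul_mem hpD (mul_mem hdY (mul_mem (Subgroup.mem_sup_left hhY) hpD))⟩,
          (smul_span (p * (d * (h * p))) _).trans ?_⟩
        rw [mul_app, mul_app, mul_app, he1, hh, hd, hp]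
        show _ = F ∙ _
        congr 1; congr 1; funext l; fin_cases l <;> simp [ax]
      · refine ⟨⟨d * (h * p), mul_mem hdY (mul_mem (Subgroup.mem_sup_left hhY) hpD)⟩,
          (smul_span (d * (h * p)) _).trans ?_⟩
        rw [mul_app, mul_app, he1, hh, hd]
        show _ = F ∙ _
        congr 1; congr 1; funext l; fin_cases l <;> simp [ax]
  let gv : Fin 3 ⊕ (Bool × ↥S4) → V := Sum.elim (fun j => (ax j : V))
    (fun w => if w.1 then ![0, b, w.2.1 * b] else ![w.2.1 * b, 0, b])
  have hg : Function.Injective g := by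
    intro z z' hzz
    have hmem : gv z ∈ g z' := hzz ▸ Submodule.mem_span_singleton_self (gv z)
    obtain ⟨u, hu⟩ := Submodule.mem_span_singleton.1 hmem
    change u • gv z' = gv z at hu
    have e0 := congrFun hu 0
    have e1 := congrFun hu 1
    have e2 := congrFun hu 2
    have nz : ∀ y : ↥S4, y.1 ≠ 0 := fun y e => by simpa [e] using hS4 _ y.2
    rcases z with j | ⟨c, x⟩ <;> rcases z' with j' | ⟨c', x'⟩
    · fin_cases j <;> fin_cases j' <;> simp [gv, ax, Pi.single_apply] at e0 e1 e2 <;> first | rfl | simp_all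
    · fin_cases j <;> cases c' <;> simp [gv, ax, Pi.single_apply, hb0, nz] at e0 e1 e2 <;>
        first | simp_all
    · fin_cases j' <;> cases c <;> simp [gv, ax, Pi.single_apply, hb0, nz] at e0 e1 e2 <;>
        first | exact absurd e1.symm hb0 | exact absurd e2.symm hb0 | simp_all
    · cases c <;> cases c' <;>
        simp [gv, ax, Pi.single_apply, hb0, nz] at e0 e1 e2 <;>
          first
            | (subst e2; exact congrArg Sum.inr (Prod.ext rfl (Subtype.ext
                (mul_right_cancel₀ hb0 (by simpa using e0.symm)))))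
            | (subst e1; exact congrArg Sum.inr (Prod.ext rfl (Subtype.ext
                (mul_right_cancel₀ hb0 (by simpa using e2.symm)))))
            | simp_all
  have h11 : 10 ≤ Nat.card (MulAction.orbit D (F ∙ (ax 0 : V) : Submodule F V)) := by
    refine le_trans ?_ (Nat.card_le_card_of_injective (fun z => (⟨g z, horb z⟩ :
      MulAction.orbit D (F ∙ (ax 0 : V) : Submodule F V))) fun a c h => hg (congrArg Subtype.val h))
    rw [Nat.card_sum, Nat.card_prod, Nat.card_eq_fintype_card, Fintype.card_fin,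
      Nat.card_eq_fintype_card, Fintype.card_bool, Nat.card_eq_fintype_card, Fintype.card_coe]
    omega
  have hst : 96 ≤ Nat.card (MulAction.stabilizer D (F ∙ (ax 0 : V) : Submodule F V)) := by
    have h32 : 32 ∣ Nat.card (ptStab (F := F)) := card_inf hF ▸ Subgroup.card_dvd_of_le inf_le_left
    have hG := Subgroup.card_subgroup_dvd_card (ptStab (F := F))
    rw [card_SU hF] at hG
    have hlt : 32 < Nat.card (ptStab (F := F)) := by
      refine lt_of_le_of_ne (Nat.le_of_dvd Nat.card_pos h32) fun e => hhU ?_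
      have heq := Subgroup.eq_of_le_of_card_ge (H := ptStab (F := F) ⊓ frameStab)
        (K := ptStab) inf_le_left (le_of_eq (e.symm.trans (card_inf hF).symm))
      rw [← heq] at hhY
      exact hhY.2
    have h96 : 96 ≤ Nat.card (ptStab (F := F)) := by
      obtain ⟨m, hm⟩ := h32
      rw [hm] at hG hlt ⊢
      rcases Nat.lt_or_ge m 3 with hm3 | hm3
      · have : m = 2 := by omega
        subst this; norm_num at hG
      · omega
    refine h96.trans (Nat.card_le_card_of_injective (fun s : ptStab (F := F) =>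
      (⟨⟨s.1, Subgroup.mem_sup_left s.2⟩, ?_⟩ : MulAction.stabilizer D (F ∙ (ax 0 : V) : Submodule F V)))
      fun s t h => Subtype.ext (congrArg
        (fun z : MulAction.stabilizer D (F ∙ (ax 0 : V) : Submodule F V) => (z.1 : SG)) h))
    show (s.1 : SG) • (F ∙ (ax 0 : V) : Submodule F V) = F ∙ (ax 0 : V)
    rw [smul_span]
    obtain ⟨c, hc⟩ := Submodule.mem_span_singleton.1 s.2
    rw [← hc]
    refine Submodule.span_singleton_smul_eq (isUnit_iff_ne_zero.2 fun e => ?_) _
    rw [e, zero_smul] at hc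
    have h1 := SU_isIso s.1 (ax 0) (ax 0)
    rw [← hc] at h1
    simp [Cfsg.hermForm, ax, Fin.sum_univ_three] at h1
  have hmul := Nat.card_congr (MulAction.orbitProdStabilizerEquivGroup D (F ∙ (ax 0 : V) : Submodule F V))
  rw [Nat.card_prod] at hmul
  have hidx := D.card_mul_index
  rw [card_SU hF] at hidx
  have h960 : 960 ≤ Nat.card D := hmul ▸ Nat.mul_le_mul h11 hst
  have hi6 : D.index ≤ 6 := by
    by_contra hlt
    have := Nat.mul_le_mul h960 (show 7 ≤ D.index by omega)
    omega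
  have hdvd : Nat.card SG ∣ D.index.factorial := by
    set f := MulAction.toPermHom SG (SG ⧸ D)
    have hker : f.ker = ⊥ := by
      refine (f.normal_ker.eq_bot_or_eq_top).resolve_right fun e => hne ?_
      rw [eq_top_iff, ← e]
      intro g hg
      rw [← Subgroup.normalCore_eq_ker] at hg
      exact Subgroup.normalCore_le D hg
    have := Subgroup.card_dvd_of_injective f ((MonoidHom.ker_eq_bot_iff f).1 hker)
    rwa [Nat.card_perm, ← Subgroup.index_eq_card] at this
  rw [card_SU hF] at hdvd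
  interval_cases hk : D.index <;> simp [Nat.factorial] at hdvd hidx

theorem split : Split 2 (Cfsg.PSU 3 F 3) := by
  haveI : IsSimpleGroup (Cfsg.PSU 3 F 3) := H50.PSU_isSimple (hF2 hF) le_rfl (by norm_num)
  let φ : SG ≃* Cfsg.PSU 3 F 3 := MulEquiv.ofBijective (H55.Psu.umk : SG →* Cfsg.PSU 3 F 3)
    ⟨umk_injective hF, H55.Psu.umk_surjective⟩
  haveI : IsSimpleGroup SG := φ.isSimpleGroup_congr.mpr ‹_›
  obtain ⟨b, i, hb, hi, hb0, hi0⟩ := exists_consts hF
  obtain ⟨p, hp⟩ := exists_cycle hF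
  obtain ⟨h, hh⟩ := exists_mix hF hb
  have hU := isPGroup_inf hF
  have hc := card_inf hF
  have hidx : ¬ 2 ∣ (ptStab (F := F) ⊓ frameStab).index := by
    have h1 := (ptStab (F := F) ⊓ frameStab).card_mul_index
    rw [hc, card_SU hF] at h1
    omega
  have hne : ∀ (Y : Subgroup SG) (x : SG), x ∉ Y → Y.map φ.toMonoidHom ≠ ⊤ := fun Y x hx e => hx (by
    have : φ x ∈ Y.map φ.toMonoidHom := e ▸ Subgroup.mem_top _
    obtain ⟨y, hy, hyx⟩ := this
    rwa [φ.injective hyx] at hy)
  have hN : Subgroup.normalizer (((ptStab (F := F) ⊓ frameStab).map φ.toMonoidHom :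
      Subgroup (Cfsg.PSU 3 F 3)) : Set (Cfsg.PSU 3 F 3)) ≠ ⊤ := fun e => by
    rcases (Subgroup.normalizer_eq_top_iff.1 e).eq_bot_or_eq_top with e' | e'
    all_goals
      have h1 := congrArg (fun H : Subgroup (Cfsg.PSU 3 F 3) => Nat.card H) e'
      simp only [Subgroup.card_bot, Subgroup.card_top] at h1
      rw [Subgroup.card_map_of_injective (f := φ.toMonoidHom) φ.injective, hc] at h1
    · omega
    · rw [← Nat.card_congr φ.toEquiv, card_SU hF] at h1; omega
  have hhn : h ∉ frameStab (F := F) := fun hf => by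
    obtain ⟨j, hj⟩ := hf 1
    obtain ⟨c, hc⟩ := Submodule.mem_span_singleton.1 hj
    fin_cases j
    · simpa [hh, ax, hb0, eq_comm] using congrFun hc 1
    · simpa [hh, ax, hb0, eq_comm] using congrFun hc 2
    · simpa [hh, ax, hb0, eq_comm] using congrFun hc 1
  have hpn : p ∉ ptStab (F := F) := fun hf => by
    obtain ⟨c, hc⟩ := Submodule.mem_span_singleton.1 hf
    simpa [hp, ax] using congrFun hc 1
  refine ⟨(ptStab (F := F) ⊓ frameStab).map φ.toMonoidHom, (ptStab (F := F)).map φ.toMonoidHom,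
    (frameStab (F := F)).map φ.toMonoidHom, hU.map _, by rwa [index_map_iso], hN,
    ⟨Subgroup.map_mono inf_le_left, Subgroup.map_mono inf_le_right, hne _ p hpn, hne _ h hhn,
      by rw [← Subgroup.map_sup, sup_top hF]; exact Subgroup.map_top_of_surjective φ.toMonoidHom φ.surjective⟩,
    fun α hα => ?_⟩
  obtain ⟨g, τ, hgτ⟩ := H55.Psu.exists_decomp (hF2 hF) le_rfl (by norm_num) α
  let T : V → V := fun v => guMat g *ᵥ fun i => τ (v i)
  have hT0 : ∀ v, T v = 0 → v = 0 := fun v hv => by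
    have h1 : guMat g⁻¹ *ᵥ T v = 0 := by rw [hv, mulVec_zero]
    simp only [T, mulVec_mulVec, H55.Psu.guMat_inv_mul, one_mulVec] at h1
    funext j
    simpa using congrFun h1 j
  have hTs : ∀ (c : F) v, T (c • v) = τ c • T v := fun c v => by
    simp only [T]
    rw [← mulVec_smul]
    congr 1
    funext j
    simp
  have hTh : ∀ u v, Cfsg.hermForm 3 F 3 (T u) (T v) = τ (Cfsg.hermForm 3 F 3 u v) := fun u v => by
    simp only [T]
    rw [GU_isIso g, H55.Psu.map_h]
  -- the action
  have hact : ∀ s : SG, ∃ s' : SG, φ s' = α (φ s) ∧ ∀ v, suMat s' *ᵥ T v = T (suMat s *ᵥ v) := by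
    intro s
    refine ⟨H55.Psu.conjU g (H55.Psu.fieldU τ s), by rw [hgτ]; rfl, fun v => ?_⟩
    show (guMat g * (suMat s).map τ * guMat g⁻¹) *ᵥ (guMat g *ᵥ fun i => τ (v i)) =
      guMat g *ᵥ fun i => τ ((suMat s *ᵥ v) i)
    rw [← mulVec_mulVec, mulVec_mulVec _ (guMat g⁻¹), H55.Psu.guMat_inv_mul, one_mulVec,
      ← mulVec_mulVec, H55.Psu.map_mulVec']
  have hback : ∀ s' ∈ ptStab (F := F) ⊓ frameStab, ∃ s ∈ ptStab (F := F) ⊓ frameStab,
      ∀ v, suMat s' *ᵥ T v = T (suMat s *ᵥ v) := by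
    intro s' hs'
    have h1 : φ s' ∈ ((ptStab (F := F) ⊓ frameStab).map φ.toMonoidHom).map α.toMonoidHom := by
      rw [hα.2]; exact ⟨s', hs', rfl⟩
    obtain ⟨_, ⟨s, hs, rfl⟩, hse⟩ := h1
    obtain ⟨s'', hs'', hv⟩ := hact s
    obtain rfl : s'' = s' := φ.injective (hs''.trans hse)
    exact ⟨s, hs, hv⟩
  -- the point is fixed
  have hline0 : T (ax 0) ∈ F ∙ (ax 0 : V) := by
    obtain ⟨d, hd⟩ := exists_diag hF (a := 1) (b := i) (c := -i) (one_pow 4) (pow4_i hi)
      (by linear_combination pow4_i hi) (by linear_combination -hi)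
    obtain ⟨w, hw⟩ := exists_swap hF
    have key : ∀ s' ∈ ptStab (F := F) ⊓ frameStab, ∃ l : F, suMat s' *ᵥ T (ax 0) = l • T (ax 0) := by
      intro s' hs'
      obtain ⟨s, hs, hv⟩ := hback s' hs'
      obtain ⟨a, ha⟩ := Submodule.mem_span_singleton.1 hs.1
      exact ⟨τ a, by rw [hv, ← ha, hTs]⟩
    obtain ⟨l, hl⟩ := key d ⟨mem_ptStab (by simp [hd, ax]) (by simp [hd, ax]), fun j => ⟨j,
      Submodule.mem_span_singleton.2 ⟨![1, i, -i] j, funext fun k => by
        fin_cases j <;> fin_cases k <;> simp [hd, ax]⟩⟩⟩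
    obtain ⟨l', hl'⟩ := key w ⟨mem_ptStab (by simp [hw, ax]) (by simp [hw, ax]), fun j => ⟨![0, 2, 1] j,
      Submodule.mem_span_singleton.2 ⟨![-1, 1, 1] j, funext fun k => by
        fin_cases j <;> fin_cases k <;> simp [hw, ax]⟩⟩⟩
    set t := T (ax 0) with ht
    have d0 : (1 - l) * t 0 = 0 := by have := congrFun hl 0; simp [hd] at this; linear_combination this
    have d1 : (i - l) * t 1 = 0 := by
      have := congrFun hl 1; rw [hd] at this; change i * t 1 = l * t 1 at this; linear_combination this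
    have d2 : (-i - l) * t 2 = 0 := by have := congrFun hl 2; simp [hd] at this; linear_combination this
    have w1 := congrFun hl' 1
    have w2 := congrFun hl' 2
    simp [hw] at w1 w2
    have h12 : (-i - i) ≠ 0 := fun e => hi0 (by linear_combination e + i * three (F := F))
    have ht1 : t 1 = 0 := by
      by_contra h1
      have hl1 := (mul_eq_zero.1 d1).resolve_right h1
      have ht2 : t 2 = 0 := (mul_eq_zero.1 d2).resolve_left fun e => h12 (by linear_combination e - hl1)
      rw [ht2] at w1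
      rcases mul_eq_zero.1 w1.symm with e | e
      · rw [e, zero_mul] at w2; exact h1 w2
      · exact h1 e
    have ht2 : t 2 = 0 := by simpa [ht1] using w1
    refine Submodule.mem_span_singleton.2 ⟨t 0, funext fun k => ?_⟩
    fin_cases k <;> simp [ax, ht1, ht2]
  -- the frame is permuted
  have hline : ∀ j : Fin 3, ∃ j', T (ax j) ∈ F ∙ (ax j' : V) := by
    intro j
    by_cases hj : j = 0
    · exact ⟨0, hj ▸ hline0⟩
    set t := T (ax j) with ht
    have ht0 : t 0 = 0 := by
      obtain ⟨c, hc⟩ := Submodule.mem_span_singleton.1 hline0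
      have h1 := hTh (ax j) (ax 0)
      rw [← hc] at h1
      simp [Cfsg.hermForm, ax, Fin.sum_univ_three, Pi.single_apply, hj, Ne.symm hj, mul_pow] at h1
      rcases h1 with e | e
      · exact e
      · exact absurd (hT0 _ (by rw [← hc, e, zero_smul])) (fun h => by simpa [ax] using congrFun h 0)
    obtain ⟨d, hd⟩ := exists_diag hF (a := -i) (b := i) (c := 1) (by linear_combination pow4_i hi)
      (pow4_i hi) (one_pow 4) (by linear_combination -hi)
    have hdU : d ∈ ptStab (F := F) ⊓ frameStab :=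
      ⟨mem_ptStab (by simp [hd, ax]) (by simp [hd, ax]), fun j => ⟨j,
        Submodule.mem_span_singleton.2 ⟨![-i, i, 1] j, funext fun k => by
          fin_cases j <;> fin_cases k <;> simp [hd, ax]⟩⟩⟩
    obtain ⟨s, hs, hv⟩ := hback d hdU
    obtain ⟨a, b', c, -, -, -, hs2⟩ := frame_of_flag hF hs.1 hs.2
    obtain ⟨l, hl⟩ : ∃ l : F, suMat s *ᵥ (suMat s *ᵥ ax j) = l • ax j := by
      rcases hs2 with h' | h'
      · refine ⟨(![a * a, b' * b', c * c] : V) j, funext fun k => ?_⟩
        fin_cases j <;> fin_cases k <;> simp [h', ax] at hj ⊢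
      · refine ⟨(![a * a, b' * c, c * b'] : V) j, funext fun k => ?_⟩
        fin_cases j <;> fin_cases k <;> simp [h', ax] at hj ⊢
    have h2 : suMat d *ᵥ (suMat d *ᵥ t) = τ l • t := by rw [hv, hv, hl, hTs]
    have e1 : (-1 - τ l) * t 1 = 0 := by
      have := congrFun h2 1; simp [hd] at this
      linear_combination this - t 1 * hi
    have e2 : (1 - τ l) * t 2 = 0 := by
      have := congrFun h2 2; simp [hd] at this
      linear_combination this
    by_cases h1 : t 1 = 0
    · refine ⟨2, Submodule.mem_span_singleton.2 ⟨t 2, funext fun k => ?_⟩⟩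
      fin_cases k <;> simp [ax, ht0, h1]
    · have hl1 := (mul_eq_zero.1 e1).resolve_right h1
      have h3 : t 2 = 0 := (mul_eq_zero.1 e2).resolve_left fun e => one_ne_zero (α := F) (by
        linear_combination hl1 - e + three (F := F))
      refine ⟨1, Submodule.mem_span_singleton.2 ⟨t 1, funext fun k => ?_⟩⟩
      fin_cases k <;> simp [ax, ht0, h3]
  have hmap : ∀ Y : Subgroup SG, (∀ s ∈ Y, ∀ s', (∀ v, suMat s' *ᵥ T v = T (suMat s *ᵥ v)) → s' ∈ Y) →
      (Y.map φ.toMonoidHom).map α.toMonoidHom = Y.map φ.toMonoidHom := by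
    intro Y hY
    refine Subgroup.eq_of_le_of_card_ge ?_
      (Subgroup.card_map_of_injective (f := α.toMonoidHom) α.injective).ge
    rintro _ ⟨_, ⟨s, hs, rfl⟩, rfl⟩
    obtain ⟨s', hs', hv⟩ := hact s
    exact ⟨s', hY s hs s' hv, hs'⟩
  constructor
  · refine hmap _ fun s hs s' hv => ?_
    obtain ⟨c, hc⟩ := Submodule.mem_span_singleton.1 hline0
    obtain ⟨a, ha⟩ := Submodule.mem_span_singleton.1 hs
    have hc0 : c ≠ 0 := fun e => by
      rw [e, zero_smul] at hc
      simpa [ax] using congrFun (hT0 _ hc.symm) 0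
    have h1 := hv (ax 0)
    rw [← ha, hTs, ← hc, mulVec_smul, smul_comm] at h1
    exact Submodule.mem_span_singleton.2 ⟨τ a, (smul_right_injective V hc0 h1).symm⟩
  · refine hmap _ fun s hs s' hv => ?_
    have hperm : ∀ j' : Fin 3, ∃ j, T (ax j) ∈ F ∙ (ax j' : V) := by
      choose π hπ using hline
      have hinj : Function.Injective π := fun j k e => by
        by_contra hne'
        obtain ⟨c, hc⟩ := Submodule.mem_span_singleton.1 (hπ j)
        obtain ⟨c', hc'⟩ := Submodule.mem_span_singleton.1 (hπ k)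
        have h1 := hTh (ax j) (ax k)
        rw [← hc, ← hc', ← e] at h1
        simp [Cfsg.hermForm, ax, Pi.single_apply, mul_pow, mul_ite, ite_mul, hne', Ne.symm hne'] at h1
        rcases h1 with e' | e'
        · exact absurd (hT0 _ (by rw [← hc, e', zero_smul])) (fun h => by simpa [ax] using congrFun h j)
        · exact absurd (hT0 _ (by rw [← hc', e', zero_smul])) (fun h => by simpa [ax] using congrFun h k)
      intro j'
      obtain ⟨j, rfl⟩ := (Finite.injective_iff_surjective.1 hinj) j'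
      exact ⟨j, hπ j⟩
    intro j'
    obtain ⟨j, hj⟩ := hperm j'
    obtain ⟨k, hk⟩ := hs j
    obtain ⟨k', hk'⟩ := hline k
    obtain ⟨c, hc⟩ := Submodule.mem_span_singleton.1 hj
    obtain ⟨a, ha⟩ := Submodule.mem_span_singleton.1 hk
    have hc0 : c ≠ 0 := fun e => by
      rw [e, zero_smul] at hc
      simpa [ax] using congrFun (hT0 _ hc.symm) j
    refine ⟨k', (Submodule.smul_mem_iff _ hc0).1 ?_⟩
    rw [← mulVec_smul, hc, hv, ← ha, hTs]
    exact Submodule.smul_mem _ _ hk'

end H32.PMin.U33
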