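import Cfsg.Agent.H14.RigidTits
import Cfsg.Agent.H32.PMin.Main
import Cfsg.Agent.H32.PMin.SmallFacts

/-!
The Tits group at the prime two: a proper overgroup of a Sylow subgroup lies in one of the two
parabolic traces, whose orders differ.
-/

set_option autoImplicit false
set_option linter.unusedSectionVars false
set_option linter.style.haveILetI false
set_option maxRecDepth 4000

namespace H32.PMin.Tits

open H53 H53.RootGroupSys H32.TwistFrame H32.TwistRig H13.EA H13.EA.Frame H14.Rigid.IndexTwo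

section Abstract

variable {G : Type*} [Group G] [Finite G] {ι R κ : Type*} [Fintype R] [Finite κ]
  {T : TwistData G ι R κ} (hT : T.Hyp) (hE : Extra T) {D : Subgroup ↥T.G1}
  (hB : (frame hT).P.B = (frame hT).U) (hD : D.index = 2) (hUD : ¬ (frame hT).U ≤ D)
include hT hE hB hD hUD

theorem card_par_inf (k : κ) : Nat.card ↥(par hT k ⊓ D) * 2 =
    Nat.card ↥(frame hT).U * (Nat.card ↥((frame hT).X k) + 1) := by
  haveI : D.Normal := Subgroup.normal_of_index_eq_two hD
  have hBP : (frame hT).P.B ≤ par hT k := fun b hb => Subgroup.mem_sup_left hb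
  have h1 := Subgroup.relIndex_mul_relIndex ⊥ (frame hT).P.B (par hT k) bot_le hBP
  rw [Subgroup.relIndex_bot_left, Subgroup.relIndex_bot_left, relIndex_par hT hE k, hB] at h1
  have hsup : par hT k ⊔ D = ⊤ := by
    by_contra hne
    have h3 := Subgroup.relIndex_mul_index (le_sup_right : D ≤ par hT k ⊔ D)
    rw [hD] at h3
    rcases (Nat.dvd_prime Nat.prime_two).1 (Dvd.intro_left _ h3) with h4 | h4
    · exact hne (Subgroup.index_eq_one.1 h4)
    · rw [h4] at h3
      have h5 : D.relIndex (par hT k ⊔ D) = 1 := by omega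
      exact hUD (((hB.symm ▸ hBP : (frame hT).U ≤ par hT k).trans le_sup_left).trans
        (Subgroup.relIndex_eq_one.1 h5))
  have h2 : D.relIndex (par hT k) = 2 := by
    rw [← Subgroup.relIndex_sup_right, hsup, Subgroup.relIndex_top_right, hD]
  have h6 := Subgroup.relIndex_mul_relIndex ⊥ (par hT k ⊓ D) (par hT k) bot_le inf_le_left
  rw [Subgroup.relIndex_bot_left, Subgroup.relIndex_bot_left, Subgroup.inf_relIndex_left, h2] at h6
  rw [h6, h1]

theorem split_derived (hs : IsSimpleGroup ↥D) (hUp : IsPGroup 2 (frame hT).U)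
    (hidx : ¬ 2 ∣ (frame hT).U.index)
    (hp : ∀ k, (Nat.card ↥((frame hT).X k) + 1).Prime)
    (hX : ∀ k, ∃ x ∈ (frame hT).X k, x ∈ D ∧ x ≠ 1)
    {k₀ k₁ : κ} (hall : ∀ k, k = k₀ ∨ k = k₁)
    (hne : Nat.card ↥((frame hT).X k₀) ≠ Nat.card ↥((frame hT).X k₁)) : Split 2 ↥D := by
  classical
  haveI := hs
  haveI : Fact (Nat.Prime 2) := ⟨Nat.prime_two⟩
  haveI : D.Normal := Subgroup.normal_of_index_eq_two hD
  have hA := frame_hyp hT hE
  set U := (frame hT).U with hUdef
  set V : Subgroup ↥D := U.subgroupOf D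
  let Y : κ → Subgroup ↥D := fun k => (par hT k).subgroupOf D
  have hUP : ∀ k, U ≤ par hT k := fun k u hu => Subgroup.mem_sup_left (hA.U_le hu)
  have hVY : ∀ k, V ≤ Y k := fun k x hx => Subgroup.mem_subgroupOf.2 (hUP k hx)
  have hsupD : U ⊔ D = ⊤ := by
    by_contra h
    have h3 := Subgroup.relIndex_mul_index (le_sup_right : D ≤ U ⊔ D)
    rw [hD] at h3
    rcases (Nat.dvd_prime Nat.prime_two).1 (Dvd.intro_left _ h3) with h4 | h4
    · exact h (Subgroup.index_eq_one.1 h4)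
    · rw [h4] at h3
      have h5 : D.relIndex (U ⊔ D) = 1 := by omega
      exact hUD (le_sup_left.trans (Subgroup.relIndex_eq_one.1 h5))
  have hYne : ∀ k, Y k ≠ ⊤ := by
    intro k h
    have htop : par hT k = ⊤ :=
      top_le_iff.1 (hsupD.symm.le.trans (sup_le (hUP k) (Subgroup.subgroupOf_eq_top.1 h)))
    obtain ⟨k', hk'⟩ : ∃ k', k' ≠ k := by
      by_contra hc
      push Not at hc
      exact hne (by rw [hc k₀, hc k₁])
    have hsS : ∀ j, ({(frame hT).s j} : Set ↥T.G1) ⊆ (frame hT).P.S := fun j => by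
      rw [hA.s_range]; exact Set.singleton_subset_iff.2 ⟨j, rfl⟩
    have hin : (frame hT).s k' ∈ par hT k := by rw [htop]; exact Subgroup.mem_top _
    have hmem := (H56.simple_mem_parabolic_iff (frame hT).P (hsS k) (hsS k' rfl)).1 hin
    exact hk' (hA.s_inj hmem)
  have hmap : ∀ M : Subgroup ↥D, M.map D.subtype ≤ D := fun M => by rintro _ ⟨x, -, rfl⟩; exact x.2
  have hlow : ∀ M : Subgroup ↥D, V ≤ M → U ⊓ D ≤ M.map D.subtype := fun M hM x hx =>
    ⟨⟨x, hx.2⟩, hM hx.1, rfl⟩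
  have htop : ∀ M : Subgroup ↥D, V ≤ M → (∀ k, par hT k ⊓ D ≤ M.map D.subtype) → M = ⊤ := by
    intro M hM hk
    refine top_le_iff.1 fun x _ => ?_
    obtain ⟨x', hx', he⟩ := le_of_descents hT hE hB hD hUD hX le_rfl (hlow M hM) (hmap M)
      (fun k _ _ _ _ => hk k) x.2
    rwa [← Subtype.ext he]
  have hover : ∀ M : Subgroup ↥D, V ≤ M → M ≠ ⊤ → M ≤ Y k₀ ∨ M ≤ Y k₁ := by
    intro M hM hMne
    obtain ⟨k, hk⟩ : ∃ k, ¬ par hT k ⊓ D ≤ M.map D.subtype := by
      by_contra hc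
      push Not at hc
      exact hMne (htop M hM hc)
    obtain ⟨l, hl⟩ : ∃ l, ∀ j, j ≠ k → j = l := by
      rcases hall k with rfl | rfl
      · exact ⟨k₁, fun j hj => (hall j).resolve_left hj⟩
      · exact ⟨k₀, fun j hj => (hall j).resolve_right hj⟩
    suffices h : M ≤ Y l by
      rcases hall l with rfl | rfl
      · exact Or.inl h
      · exact Or.inr h
    suffices h : M.map D.subtype ≤ par hT l ⊓ D from
      fun x hx => Subgroup.mem_subgroupOf.2 (h ⟨x, hx, rfl⟩).1
    refine le_of_descents hT hE hB hD hUD hX (hmap M) (L := M.map D.subtype ⊓ (par hT l ⊓ D))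
      (le_inf (hlow M hM) (inf_le_inf_right D (hUP l))) inf_le_left
      (fun j g hg hgP hgB => ?_) |>.trans inf_le_right
    have hle := par_le hT hE hB hD hUD (hp j) (hmap M) (hlow M hM) hg hgP hgB
    have hj : j = l := hl j fun e => hk (e ▸ hle)
    exact le_inf hle (hj ▸ le_rfl)
  have hpair : Pair V (Y k₀) (Y k₁) := by
    refine ⟨hVY _, hVY _, hYne _, hYne _, htop _ ((hVY k₀).trans le_sup_left) fun k x hx => ?_⟩
    rcases hall k with rfl | rfl
    · exact ⟨⟨x, hx.2⟩, Subgroup.mem_sup_left (Subgroup.mem_subgroupOf.2 hx.1), rfl⟩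
    · exact ⟨⟨x, hx.2⟩, Subgroup.mem_sup_right (Subgroup.mem_subgroupOf.2 hx.1), rfl⟩
  have hcard : ∀ k, Nat.card ↥(Y k) = Nat.card ↥(par hT k ⊓ D) := fun k => by
    rw [← Subgroup.card_map_of_injective (f := D.subtype) Subtype.val_injective,
      Subgroup.subgroupOf_map_subtype]
  have hVp : IsPGroup 2 V := hUp.comap_of_injective D.subtype Subtype.val_injective
  have hVidx : ¬ 2 ∣ V.index := fun h => hidx (by
    have e1 : D.relIndex U = 2 := by
      rw [← Subgroup.relIndex_sup_right, hsupD, Subgroup.relIndex_top_right, hD]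
    have e2 := Subgroup.relIndex_mul_index (inf_le_left : U ⊓ D ≤ U)
    have e3 := Subgroup.relIndex_mul_index (inf_le_right : U ⊓ D ≤ D)
    rw [Subgroup.inf_relIndex_left, e1] at e2
    rw [Subgroup.inf_relIndex_right, hD, ← e2, mul_comm] at e3
    exact (Nat.eq_of_mul_eq_mul_left two_pos e3) ▸ h)
  refine ⟨V, Y k₀, Y k₁, hVp, hVidx, fun h => ?_, hpair, fun α hα => ?_⟩
  · rcases (Subgroup.normalizer_eq_top_iff.1 h).eq_bot_or_eq_top with e | e
    · obtain ⟨x, hxX, hxD, hx1⟩ := hX k₀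
      have : (⟨x, hxD⟩ : ↥D) ∈ V := Subgroup.mem_subgroupOf.2 (hA.X_le k₀ hxX)
      rw [e, Subgroup.mem_bot] at this
      exact hx1 (congrArg Subtype.val this)
    · exact hYne k₀ (top_le_iff.1 (e ▸ hVY k₀))
  · refine ((TwoOver.mk hpair hover).swap_or_fix hα.2).resolve_right ?_
    rintro ⟨e1, -⟩
    have h1 : Nat.card ↥(Y k₁) = Nat.card ↥(Y k₀) :=
      e1 ▸ Subgroup.card_map_of_injective (f := α.toMonoidHom) α.injective
    rw [hcard, hcard] at h1
    have h2 := card_par_inf hT hE hB hD hUD k₀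
    rw [← h1, card_par_inf hT hE hB hD hUD k₁] at h2
    have := Nat.eq_of_mul_eq_mul_left Nat.card_pos h2
    exact hne (by omega)

end Abstract

open Cfsg.Lie H52 H53.F4T H32 H32.FF H53.Tits H14.Rigid.Tits

theorem split_comap {A B : Type*} [Group A] [Group B] {S₁ : Subgroup A} {S₂ : Subgroup B}
    (ψ : ↥S₁ ≃* ↥S₂) (S : Subgroup ↥S₂)
    (h : Split 2 ↥(S.comap ψ.toMonoidHom)) : Split 2 ↥S :=
  h.congr ((ψ.subgroupMap _).trans (MulEquiv.subgroupCongr
    (Subgroup.map_comap_eq_self_of_surjective ψ.surjective S)))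

theorem simple_comap {A B : Type*} [Group A] [Group B] {S₁ : Subgroup A} {S₂ : Subgroup B}
    (ψ : ↥S₁ ≃* ↥S₂) (S : Subgroup ↥S₂) (h : IsSimpleGroup ↥S) :
    IsSimpleGroup ↥(S.comap ψ.toMonoidHom) :=
  simple_sub ((ψ.subgroupMap _).trans (MulEquiv.subgroupCongr
    (Subgroup.map_comap_eq_self_of_surjective ψ.surjective S))) h

theorem split_D : Split 2 ↥((commutator ↥G2').comap psi.toMonoidHom) := by
  set D : Subgroup ↥(FG K2 0) := (commutator ↥G2').comap psi.toMonoidHom with hDdef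
  have hD : D.index = 2 := by
    rw [hDdef, Subgroup.index_comap_of_surjective _ psi.surjective]; exact index_eq_two
  obtain ⟨P, hP⟩ := exists_sylow card_K2
  have hUp : IsPGroup 2 (TwistFrame.frame (hT card_K2)).U := hP ▸ P.isPGroup'
  haveI : Fact (Nat.Prime 2) := ⟨Nat.prime_two⟩
  have hidx : ¬ 2 ∣ (TwistFrame.frame (hT card_K2)).U.index := hP ▸ P.not_dvd_index
  have hA := TwistFrame.frame_hyp (hT card_K2) (extra card_K2)
  have hB : (TwistFrame.frame (hT card_K2)).P.B = (TwistFrame.frame (hT card_K2)).U := by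
    refine le_antisymm (fun b hb => ?_) fun u hu => hA.U_le hu
    obtain ⟨u, hu, h, hh, rfl⟩ := hA.B_eq b hb
    obtain ⟨a, c, rfl⟩ := exists_hab card_K2 hh
    refine mul_mem hu ?_
    rw [Subsingleton.elim a 1, Subsingleton.elim c 1, hab_one card_K2]
    exact Subgroup.one_mem _
  have h0 : psi (P0 0 (1 : K2)) = gel 0 := by
    apply Subtype.ext
    rw [val_psi, val_P0]
    simp [gel, gmat, gw, ones, wordRt]
  have h1 : psi (P1 0 (1 : K2) 0) = gel 2 := by
    apply Subtype.ext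
    rw [val_psi, val_P1]
    simp [gel, gmat, gw, ones, wordRt, checkedF4.rt_zero, mul_assoc]
  have hx0 : P0 0 (1 : K2) ∈ D := by
    show psi _ ∈ commutator ↥G2'
    rw [h0]; exact gel_zero_mem
  have hx1 : P1 0 (1 : K2) 0 ∉ D := fun h => gel_two_not_mem (h1 ▸ h)
  have hsq : ∀ y : ↥(FG K2 0), y * y ∈ D := fun y => Subgroup.mul_self_mem_of_index_two hD y
  have hU1 : P1 0 (1 : K2) 0 ∈ (TwistFrame.frame (hT card_K2)).U :=
    hA.X_le 1 ((mem_X1 card_K2).2 ⟨_, _, rfl⟩)
  have hp : ∀ k : Fin 2, (Nat.card ↥((TwistFrame.frame (hT card_K2)).X k) + 1).Prime := by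
    intro k
    fin_cases k
    · show (Nat.card ↥(TwistFrame.XG (TD card_K2) 0) + 1).Prime
      rw [card_X0 card_K2, ZMod.card]; norm_num
    · show (Nat.card ↥(TwistFrame.XG (TD card_K2) 1) + 1).Prime
      rw [card_X1 card_K2, ZMod.card]; norm_num
  have hX0 : ∃ x ∈ TwistFrame.XG (TD card_K2) 0, x ∈ D ∧ x ≠ 1 :=
    ⟨_, (mem_X0 card_K2).2 ⟨1, rfl⟩, hx0, fun h =>
      one_ne_zero (P0_inj card_K2 (h.trans (P0_zero card_K2).symm))⟩
  have hX1 : ∃ x ∈ TwistFrame.XG (TD card_K2) 1, x ∈ D ∧ x ≠ 1 := by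
    refine ⟨_, (mem_X1 card_K2).2 ⟨0, 1, rfl⟩, ?_, fun h =>
      one_ne_zero (P1_inj card_K2 (h.trans (P1_zero card_K2).symm)).2⟩
    have e := P1_mul card_K2 (m := 0) (1 : K2) 0 1 0
    rw [show (1 : K2) + 1 = 0 by linear_combination H53.Tits.two_zero, one_pow, mul_one, add_zero, zero_add] at e
    exact e ▸ hsq _
  have hUD : ¬ (TwistFrame.frame (hT card_K2)).U ≤ D := fun h => hx1 (h hU1)
  have hX : ∀ k : Fin 2, ∃ x ∈ (TwistFrame.frame (hT card_K2)).X k, x ∈ D ∧ x ≠ 1 := by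
    intro k
    fin_cases k
    · exact hX0
    · exact hX1
  have hsimp : IsSimpleGroup ↥D := simple_comap (A := ↥(chevF4.group K2)) (B := GL chevF4.Idx K2)
    (S₁ := FG K2 0) (S₂ := G2') psi (commutator ↥G2') tits_facts.1
  refine split_derived (G := ↥(chevF4.group K2)) (T := TD card_K2) (D := D) (hT card_K2) (extra card_K2)
    hB hD hUD hsimp hUp hidx hp hX (k₀ := 0) (k₁ := 1) (by decide) ?_
  show Nat.card ↥(TwistFrame.XG (TD card_K2) 0) ≠ Nat.card ↥(TwistFrame.XG (TD card_K2) 1)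
  rw [card_X0 card_K2, card_X1 card_K2, ZMod.card]
  norm_num

/-- The Tits group splits at the prime two. -/
theorem split_of_isoTits {G : Type*} [Group G] (h : Cfsg.Lie.IsoTits G) : Split 2 G := by
  obtain ⟨e⟩ := h
  exact Split.congr (K := ↥(commutator ↥G2'))
    (split_comap (A := ↥(chevF4.group K2)) (B := GL chevF4.Idx K2) (S₁ := FG K2 0) (S₂ := G2') psi
      (commutator ↥G2') split_D) e.symm

end H32.PMin.Tits
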